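import Cfsg.Agent.SB.SporB.Geo
import Cfsg.Agent.SB.Mon.Odd
import Cfsg.Agent.R01.Lifts

/-!
# S5765, the Baby Monster: the abstract part (helper18)

`fit_split`, `fpf` (a 3-central element acts without fixed points on `O₂(S)`), `card_le_four`, `ctxB`.
-/

set_option autoImplicit false
set_option linter.unusedSectionVars false

namespace Cfsg.Agent.SB.SporB

open Subgroup Cfsg Cfsg.Agent.H786.FC Cfsg.Agent.SB.Mon
open Cfsg.Agent.R2.M7 Cfsg.Agent.R2.M7.Geo
open Cfsg.Agent.H251 (le_pCoreOf pCoreOf_le)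

section fit

variable {A : Type*} [Group A] [Finite A] {T S : Subgroup A}

theorem mem_core_pow {c : A} (hc : c ∈ fit S) {p k : ℕ} (hp : p.Prime) (ho : c ^ p ^ k = 1) : c ∈ core p S := by
  obtain ⟨w, hw, rfl⟩ := hc
  exact ⟨w, H761.F2.mem_pCore_of_mem_fitting hp hw (k := k) (Subtype.ext ho), rfl⟩

theorem fit_split (h : ∀ c ∈ fit S, (orderOf c).Prime → orderOf c = 2 ∨ orderOf c = 3) {f : A} (hf : f ∈ fit S) :
    ∃ x ∈ core 2 S, ∃ a ∈ core 3 S, f = x * a := by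
  have h0 : orderOf f ≠ 0 := (orderOf_pos f).ne'
  obtain ⟨i, m, hm, hn⟩ := Nat.exists_eq_two_pow_mul_odd h0
  have hm0 : m ≠ 0 := by rintro rfl; simp at hm
  have h3 : m = 3 ^ m.primeFactorsList.length := by
    refine Nat.eq_prime_pow_of_unique_prime_dvd hm0 fun {q} hq hd => ?_
    have hd' : q ∣ orderOf f := hn ▸ hd.mul_left _
    have ho : orderOf (f ^ (orderOf f / q)) = q := orderOf_pow_orderOf_div h0 hd'
    rcases h _ (pow_mem hf _) (by rw [ho]; exact hq) with h1 | h1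
    · rw [ho] at h1
      subst h1
      exact absurd hm (Nat.not_odd_iff_even.2 (even_iff_two_dvd.2 hd))
    · rwa [ho] at h1
  have hx : f ^ m ∈ core 2 S := mem_core_pow (pow_mem hf _) Nat.prime_two (k := i) (by
    rw [← pow_mul, mul_comm, ← hn, pow_orderOf_eq_one])
  have ha : f ^ 2 ^ i ∈ core 3 S := mem_core_pow (pow_mem hf _) Nat.prime_three (k := m.primeFactorsList.length) (by
    rw [← pow_mul, ← h3, ← hn, pow_orderOf_eq_one])
  have hc : Nat.gcd m (2 ^ i) = 1 := (Nat.Coprime.pow_right i ((Nat.coprime_two_right).2 hm))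
  refine ⟨_, zpow_mem hx (Nat.gcdA m (2 ^ i)), _, zpow_mem ha (Nat.gcdB m (2 ^ i)), ?_⟩
  rw [← zpow_natCast, ← zpow_natCast, ← zpow_mul, ← zpow_mul, ← zpow_add, ← Nat.gcd_eq_gcd_ab, hc, Nat.cast_one, zpow_one]

theorem card_fit_le (h : ∀ c ∈ fit S, (orderOf c).Prime → orderOf c = 2 ∨ orderOf c = 3) :
    Nat.card (fit S) ≤ Nat.card (core 2 S) * Nat.card (core 3 S) := by
  rw [← Nat.card_prod]
  choose x hx a ha e using fun f : fit S => fit_split h f.2
  exact Nat.card_le_card_of_injective (fun f => (⟨x f, hx f⟩, ⟨a f, ha f⟩)) fun f g hfg => Subtype.ext (by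
    rw [e f, e g, show x f = x g from congrArg (fun z : core 2 S × core 3 S => (z.1 : A)) hfg,
      show a f = a g from congrArg (fun z : core 2 S × core 3 S => (z.2 : A)) hfg])

theorem eq_one_of_two {p q : ℕ} (hp : p.Prime) (hq : q.Prime) (hne : p ≠ q) {X Y : Subgroup A} (hX : IsPGroup p X)
    (hY : IsPGroup q Y) {c : A} (h1 : c ∈ X) (h2 : c ∈ Y) : c = 1 := by
  have := Fact.mk hp
  have := Fact.mk hq
  exact mem_bot.1 ((IsPGroup.disjoint_of_ne p q hne X Y hX hY).eq_bot ▸ (⟨h1, h2⟩ : c ∈ X ⊓ Y))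

theorem comm_of_norm {p q : ℕ} (hp : p.Prime) (hq : q.Prime) (hne : p ≠ q) {X Y : Subgroup A} (hX : IsPGroup p X)
    (hY : IsPGroup q Y) {x y : A} (hx : x ∈ X) (hy : y ∈ Y) (h1 : y * x⁻¹ * y⁻¹ ∈ X) (h2 : x * y * x⁻¹ ∈ Y) :
    x * y = y * x := by
  have h3 := eq_one_of_two hp hq hne hX hY (c := x * y * x⁻¹ * y⁻¹)
    (by rw [show x * y * x⁻¹ * y⁻¹ = x * (y * x⁻¹ * y⁻¹) by group]; exact mul_mem hx h1) (mul_mem h2 (inv_mem hy))
  rwa [mul_inv_eq_one, mul_inv_eq_iff_eq_mul] at h3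

theorem core_comm {p q : ℕ} (hp : p.Prime) (hq : q.Prime) (hne : p ≠ q) {x y : A} (hx : x ∈ core p S)
    (hy : y ∈ core q S) : x * y = y * x :=
  comm_of_norm hp hq hne (core_pgroup p) (core_pgroup q) hx hy (core_conj p y (map_subtype_le _ hy) _ (inv_mem hx))
    (core_conj q x (map_subtype_le _ hx) _ hy)

/-- the centraliser of `w` has characteristic `p` -/
structure Chr (p : ℕ) (w : A) (P : Subgroup A) : Prop where
  pg : IsPGroup p P
  norm : ∀ g, g * w = w * g → ∀ x ∈ P, g * x * g⁻¹ ∈ P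
  self : ∀ g, g * w = w * g → (∀ x ∈ P, g * x = x * g) → g ∈ P

theorem Chr.map {B : Type*} [Group B] {p : ℕ} {w : A} {P : Subgroup A} (h : Chr p w P) (e : A ≃* B) :
    Chr p (e w) (P.map e.toMonoidHom) := by
  have hc : ∀ g : B, g * e w = e w * g → e.symm g * w = w * e.symm g := fun g hg => e.injective (by simpa using hg)
  refine ⟨h.pg.map _, ?_, fun g hg h1 => ⟨e.symm g, h.self _ (hc g hg) fun x hx => e.injective ?_, by simp⟩⟩
  · rintro g hg _ ⟨x, hx, rfl⟩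
    exact ⟨_, h.norm _ (hc g hg) x hx, by simp⟩
  · simpa using h1 _ ⟨x, hx, rfl⟩

/-- `w` has no fixed points on `O_q(S)` -/
theorem fpf {p q : ℕ} (hp : p.Prime) (hq : q.Prime) (hne : q ≠ p) {w : A} {P : Subgroup A} (C : Chr p w P)
    (hw : ∀ a ∈ core p S, a * w = w * a) (hN : ∀ x ∈ P, (∀ a ∈ core p S, x * a = a * x) → x ∈ S) {u : A}
    (hu : u ∈ core q S) (huw : u * w = w * u) : u = 1 := by
  have := Fact.mk hq
  obtain ⟨k, hk⟩ := IsPGroup.iff_orderOf.1 (core_pgroup (S := S) q) ⟨u, hu⟩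
  rw [Subgroup.orderOf_mk] at hk
  refine eq_one_of_two hq hp hne (core_pgroup q) C.pg hu (C.self u huw (pq hp (core_pgroup (S := S) p) C.pg ?_
    (fun y hy => core_comm hq hp hne hu hy) (fun y hy => C.norm y (hw y hy)) (C.norm u huw) fun x hx h => ?_))
  · rw [hk]
    exact fun h => hne ((Nat.prime_dvd_prime_iff_eq hp hq).1 (hp.dvd_of_dvd_pow h)).symm
  · exact comm_of_norm hq hp hne (core_pgroup q) C.pg hu hx (core_conj q x (hN x hx h) _ (inv_mem hu)) (C.norm u huw x hx)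

/-- fixed point free elements of order three -/
theorem norm_three {U : Subgroup A} {w : A} (h3 : w ^ 3 = 1) (hn : ∀ x ∈ U, w * x * w⁻¹ ∈ U)
    (hf : ∀ x ∈ U, x * w = w * x → x = 1) {x : A} (hx : x ∈ U) :
    x * (w * x * w⁻¹) * (w * (w * x * w⁻¹) * w⁻¹) = 1 := by
  let f : U → U := fun y => ⟨(y : A)⁻¹ * (w * y * w⁻¹), mul_mem (inv_mem y.2) (hn y y.2)⟩
  have hinj : Function.Injective f := by
    intro a b hab
    have h1 : (a : A)⁻¹ * (w * a * w⁻¹) = (b : A)⁻¹ * (w * b * w⁻¹) := congrArg Subtype.val hab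
    have h2 := hf (b * (a : A)⁻¹) (mul_mem b.2 (inv_mem a.2)) (by
      calc b * (a : A)⁻¹ * w = b * ((a : A)⁻¹ * (w * a * w⁻¹)) * (w * (a : A)⁻¹) := by group
        _ = _ := by rw [h1]; group)
    exact Subtype.ext (mul_inv_eq_one.1 h2).symm
  obtain ⟨y, hy⟩ := Finite.surjective_of_injective hinj ⟨x, hx⟩
  have e : x = (y : A)⁻¹ * (w * y * w⁻¹) := (congrArg Subtype.val hy).symm
  rw [e]
  rw [pow_three'] at h3
  calc _ = (y : A)⁻¹ * (w * w * w * y * (w * w * w)⁻¹) := by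
        simp only [mul_inv_rev, mul_assoc, mul_inv_cancel_left, inv_mul_cancel_left]
    _ = 1 := by rw [h3]; group

end fit

section cover

variable {G X B : Type*} [Group G] [Group X] [Group B] [Finite G] [Finite X] [Finite B] {Γ : Geo G} {θ : X →* G}
  {q : X →* B} {τ : X}

/-- the inverse image in `G` -/
def up (θ : X →* G) (q : X →* B) (U : Subgroup B) : Subgroup G := (U.comap q).map θ

theorem mem_up {U : Subgroup B} {g : G} : g ∈ up θ q U ↔ ∃ b, q b ∈ U ∧ θ b = g := Iff.rfl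

theorem up_two (hq : R01.Lifts.Ext q τ) {U : Subgroup B} (hU : IsPGroup 2 U) : IsPGroup 2 (up θ q U) := by
  refine IsPGroup.map (IsPGroup.comap_of_ker_isPGroup hU q (two_of_sq fun a ha => ?_)) θ
  rcases (hq.ker a).1 ha with rfl | rfl
  exacts [mul_one 1, hq.zz]

theorem up_conj {U R : Subgroup B} (h : ∀ s ∈ R, ∀ u ∈ U, s * u * s⁻¹ ∈ U) :
    ∀ s ∈ up θ q R, ∀ u ∈ up θ q U, s * u * s⁻¹ ∈ up θ q U := by
  rintro _ ⟨s, hs, rfl⟩ _ ⟨u, hu, rfl⟩
  exact ⟨s * u * s⁻¹, by simpa [mem_comap] using h _ hs _ hu, by simp⟩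

theorem ctxB (hq : R01.Lifts.Ext q τ) (hθ : Function.Injective θ) (hr : ∀ x, x * θ τ = θ τ * x → ∃ b, θ b = x)
    (hA : IsA Γ (θ τ)) {R : Subgroup B} (hR : Group.IsSolvable R) (hT : AS (⊤ : Subgroup B)) (hm : MaxInv ⊤ R) :
    CtxB Γ (θ τ) (up θ q R) := by
  refine ⟨hA, ?_, ?_, ⟨τ, mem_comap.2 (by rw [hq.mapz]; exact one_mem _), rfl⟩, fun U hU hc hu hn g hg hgU => ?_⟩
  · have h1 : Group.IsSolvable (R.comap q) := by
      have h2 : IsPGroup 2 (q.subgroupComap R).ker := two_of_sq fun a ha => Subtype.ext (by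
        rcases (hq.ker a).1 (congrArg Subtype.val ha) with h | h <;> simp [h, hq.zz])
      have := h2.isNilpotent
      exact Group.isSolvable_of_ker_le_range (q.subgroupComap R).ker.subtype (q.subgroupComap R) (by simp)
    exact Group.isSolvable_of_surjective (f := θ.subgroupMap _) (θ.subgroupMap_surjective _)
  · rintro _ ⟨b, -, rfl⟩
    rw [← map_mul, hq.comm, map_mul]
  · obtain ⟨g, rfl⟩ := hr g hg
    refine ⟨g, hm.mem_of_normalizes hT (X := (U.comap θ).map q) (fun h => ?_)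
      (hT.not_le (by have := ((hU.comap_of_injective θ hθ).map q).isNilpotent; infer_instance)) ?_ (mem_top _) ?_, rfl⟩
    · obtain ⟨u, hu, h1, h2⟩ := hu
      obtain ⟨b, rfl⟩ := hr u (hc u hu)
      rcases (hq.ker b).1 (mem_bot.1 (h ▸ mem_map_of_mem q (mem_comap.2 hu))) with rfl | rfl
      exacts [h1 (map_one θ), h2 rfl]
    · rintro s hs _ ⟨u, hu, rfl⟩
      obtain ⟨s, rfl⟩ := hq.surj s
      exact ⟨s * u * s⁻¹, by simpa [mem_comap] using hn _ ⟨s, hs, rfl⟩ _ hu, by simp⟩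
    · rintro _ ⟨u, hu, rfl⟩
      exact ⟨g * u * g⁻¹, by simpa [mem_comap] using hgU _ hu, by simp⟩

/-- the inverse image of `O₂(R)` contains no point -/
theorem no_pt (E : Ext Γ) (hq : R01.Lifts.Ext q τ) {R : Subgroup B} (C : CtxB Γ (θ τ) (up θ q R)) {b : X}
    (hb : q b ∈ core 2 R) : θ b ∉ Γ.Pt :=
  C.no_pt E _ (le_pCoreOf (up_two hq (core_pgroup 2)) (map_mono (comap_mono (map_subtype_le _)))
    (norm_of (up_conj (core_conj 2))) ⟨b, hb, rfl⟩)

/-- **The inverse image is a quaternion group.** -/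
theorem quat (E : Ext Γ) (hq : R01.Lifts.Ext q τ) (hθ : Function.Injective θ) {U : Subgroup B} (hU : IsPGroup 2 U)
    (hp : ∀ b, q b ∈ U → θ b ∉ Γ.Pt) {w : B} (h3 : w ^ 3 = 1) (hn : ∀ x ∈ U, w * x * w⁻¹ ∈ U)
    (hf : ∀ x ∈ U, x * w = w * x → x = 1) : Nat.card U ≤ 4 ∧ ∀ b, q b ∈ U → q b ≠ 1 → b * b = τ := by
  obtain ⟨w, rfl⟩ := hq.surj w
  have qc : ∀ b, q (w * b * w⁻¹) = q w * q b * (q w)⁻¹ := fun b => by simp
  have hne : ∀ b, q b ≠ 1 → q (w * b * w⁻¹) ≠ 1 := fun b h h1 => h (by simpa [qc] using h1)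
  have hsq : ∀ b c, b * b = c → w * b * w⁻¹ * (w * b * w⁻¹) = w * c * w⁻¹ := fun b c h => by rw [← h]; group
  have hτ : w * τ * w⁻¹ = τ := by rw [hq.comm]; group
  have clA : ∀ b, q b ∈ U → q b ≠ 1 → b * b ≠ 1 := by
    intro d hd hd1 hdd
    have hA : ∀ b, q b ∈ U → q b ≠ 1 → b * b = 1 → IsA Γ (θ b) ∧ IsA Γ (θ τ * θ b) := fun b h1 h2 h3 =>
      ⟨⟨by rw [← map_mul, h3, map_one], fun h => h2 (by rw [hθ (h.trans (map_one θ).symm), map_one]), hp b h1⟩,
        by rw [← map_mul, ← map_mul, mul_assoc, ← mul_assoc b, hq.comm b, mul_assoc, h3, mul_one, hq.zz, map_one],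
        fun h => h2 (by
          have h4 := congrArg q (hθ ((map_mul θ τ b).trans (h.trans (map_one θ).symm)))
          rwa [map_mul, hq.mapz, one_mul, map_one] at h4),
        by rw [← map_mul]; exact hp _ (by rwa [map_mul, hq.mapz, one_mul])⟩
    have hs : q (w * d * w⁻¹) ∈ U := qc d ▸ hn _ hd
    have hss : w * d * w⁻¹ * (w * d * w⁻¹) = 1 := by rw [hsq d 1 hdd]; group
    have he := hne _ (hne d hd1)
    have hee : w * (w * d * w⁻¹) * w⁻¹ * (w * (w * d * w⁻¹) * w⁻¹) = 1 := by rw [hsq _ 1 hss]; group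
    have h1 := norm_three h3 hn hf hd
    rw [← qc, ← qc] at h1
    have hs1 := hne d hd1
    generalize w * (w * d * w⁻¹) * w⁻¹ = e at he hee h1
    generalize w * d * w⁻¹ = s at hs hss h1 hs1
    have h2 : q (d * s) = q e := by
      rw [map_mul, eq_inv_of_mul_eq_one_left h1, ← map_inv, inv_eq_of_mul_eq_one_left hee]
    have h4 : d * s * (d * s) = 1 := by
      rcases hq.map_eq.1 h2 with h | h <;> rw [h]
      · exact hee
      · rw [mul_assoc, ← mul_assoc τ, ← hq.comm e, mul_assoc, hq.zz, mul_one, hee]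
    have h5 : d * s = s * d := by
      rw [eq_inv_of_mul_eq_one_left h4, mul_inv_rev, inv_eq_of_mul_eq_one_left hdd, inv_eq_of_mul_eq_one_left hss]
    have k1 := hA d hd hd1 hdd
    have k2 := hA s hs hs1 hss
    have k3 := hA (d * s) (by rw [map_mul]; exact mul_mem hd hs) (h2 ▸ he) h4
    rw [map_mul] at k3
    exact E.pureA (θ τ) (θ d) (θ s) ⟨by rw [← map_mul, hq.zz, map_one], fun h => hq.zne (hθ (h.trans (map_one θ).symm)),
      hp τ (by rw [hq.mapz]; exact one_mem _)⟩ k1.1 k2.1 k1.2 k2.2 k3.1 k3.2 (by rw [← map_mul, ← hq.comm, map_mul])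
      (by rw [← map_mul, ← hq.comm, map_mul]) (by rw [← map_mul, h5, map_mul])
  have clA' : ∀ b, q b ∈ U → q b ≠ 1 → q b * q b = 1 → b * b = τ := fun b h1 h2 h4 =>
    ((hq.ker _).1 (by rw [map_mul, h4])).resolve_left (clA b h1 h2)
  have clB : ∀ b, q b ∈ U → q (b * b) * q (b * b) = 1 → q b * q b = 1 := by
    intro b hb h4
    by_contra h2
    rw [← map_mul] at h2
    have hb2 : q (b * b) ∈ U := by rw [map_mul]; exact mul_mem hb hb
    have h5 := clA' _ hb2 h2 h4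
    have h6 := hsq _ _ h5
    rw [hτ, ← hsq b _ rfl] at h6
    have h7 : Commute (q b) (q (w * b * w⁻¹)) := by
      have k1 := norm_three h3 hn hf hb
      have k2 := norm_three h3 hn hf (inv_mem hb)
      rw [qc]
      generalize q b = x at k1 k2
      generalize q w = v at k1 k2
      rw [Commute, SemiconjBy, eq_inv_of_mul_eq_one_left k1]
      calc (v * (v * x * v⁻¹) * v⁻¹)⁻¹ = v * x * v⁻¹ * x * (x⁻¹ * (v * x⁻¹ * v⁻¹) * (v * (v * x⁻¹ * v⁻¹) * v⁻¹)) := by
            simp only [mul_inv_rev, inv_inv, mul_assoc, mul_inv_cancel_left, inv_mul_cancel_left]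
        _ = _ := by rw [k2, mul_one]
    have h8 : Commute (b * b) (w * b * w⁻¹) := by
      have k : b * b * (w * b * w⁻¹) * (b * b)⁻¹ = b * (b * (w * b * w⁻¹) * b⁻¹) * b⁻¹ := by group
      rw [Commute, SemiconjBy, ← mul_inv_eq_iff_eq_mul, k]
      rcases hq.conj_of_commute h7 with h | h
      · rw [h, h]
      · rw [h, ← mul_assoc b, mul_assoc _ τ, ← hq.comm, ← mul_assoc, h, hq.mul_z_mul_z]
    have h9 := h8.mul_right h8
    have h10 : q (b * b * (w * b * w⁻¹ * (w * b * w⁻¹))) = 1 := by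
      by_contra h
      refine clA _ (by rw [map_mul, hsq b _ rfl, qc]; exact mul_mem hb2 (hn _ hb2)) h ?_
      rw [h9.symm.mul_mul_mul_comm, h5, h6, hq.zz]
    rw [map_mul, hsq b _ rfl, qc] at h10
    refine h2 (hf _ hb2 ?_)
    have h11 := (eq_inv_of_mul_eq_one_right h10).trans (inv_eq_of_mul_eq_one_left h4)
    exact (mul_inv_eq_iff_eq_mul.1 h11).symm
  have clC : ∀ x ∈ U, x * x = 1 := by
    intro x hx
    obtain ⟨k, hk⟩ := hU ⟨x, hx⟩
    have hk' : x ^ 2 ^ k = 1 := congrArg Subtype.val hk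
    clear hk
    induction k generalizing x with
    | zero => rw [pow_zero, pow_one] at hk'; rw [hk', mul_one]
    | succ k ih =>
      obtain ⟨b, rfl⟩ := hq.surj x
      refine clB b hx ?_
      rw [map_mul]
      exact ih _ (mul_mem hx hx) (by rw [← pow_two, ← pow_mul, ← pow_succ', hk'])
  have clD : ∀ b, q b ∈ U → q b ≠ 1 → b * b = τ := fun b h1 h2 => clA' b h1 h2 (clC _ h1)
  refine ⟨?_, clD⟩
  have hcm : ∀ a ∈ U, ∀ b ∈ U, a * b = b * a := fun a ha b hb => by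
    rw [eq_inv_of_mul_eq_one_left (clC _ (mul_mem ha hb)), mul_inv_rev, inv_eq_of_mul_eq_one_left (clC a ha),
      inv_eq_of_mul_eq_one_left (clC b hb)]
  have anti : ∀ a b, q a ∈ U → q b ∈ U → q a ≠ 1 → q b ≠ 1 → q a * q b ≠ 1 → a * b * a⁻¹ = b * τ := by
    intro a b ha hb h1 h2 h4
    have k1 := clD a ha h1
    have k2 := clD b hb h2
    have k3 := clD (a * b) (by rw [map_mul]; exact mul_mem ha hb) (by rwa [map_mul])
    calc a * b * a⁻¹ = a * b * (a * b) * b⁻¹ * (a * a)⁻¹ := by group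
      _ = b * (b * b)⁻¹ := by rw [k3, k1, ← hq.comm]; group
      _ = b * τ := by rw [k2, inv_eq_of_mul_eq_one_left hq.zz]
  by_contra hc
  have out : ∀ L : Subgroup B, Nat.card L ≤ 4 → ∃ y ∈ U, y ∉ L := fun L hL => by
    by_contra h
    push Not at h
    have := card_le_of_le (show U ≤ L from h)
    omega
  obtain ⟨x, hx, hx1⟩ := out ⊥ (by rw [card_bot]; norm_num)
  obtain ⟨L, -, hxL, -, hL, -⟩ := exists_line hcm clC hx hx
  obtain ⟨y, hy, hyL⟩ := out L hL
  obtain ⟨L', -, hxL', hyL', hL', -⟩ := exists_line hcm clC hx hy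
  obtain ⟨z, hz, hzL⟩ := out L' hL'
  obtain ⟨a, rfl⟩ := hq.surj x
  obtain ⟨b, rfl⟩ := hq.surj y
  obtain ⟨c, rfl⟩ := hq.surj z
  rw [mem_bot] at hx1
  have k1 := anti a b hx hy hx1 (fun h => hyL (h ▸ L.one_mem))
    (fun h => hyL (eq_inv_of_mul_eq_one_right h ▸ inv_mem hxL))
  have k2 := anti a c hx hz hx1 (fun h => hzL (h ▸ L'.one_mem))
    (fun h => hzL (eq_inv_of_mul_eq_one_right h ▸ inv_mem hxL'))
  have k3 := anti a (b * c) hx (by rw [map_mul]; exact mul_mem hy hz) hx1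
    (fun h => hzL (eq_inv_of_mul_eq_one_right (by rwa [map_mul] at h) ▸ inv_mem hyL'))
    (fun h => hzL (eq_inv_of_mul_eq_one_right (by rwa [map_mul, ← mul_assoc] at h) ▸ inv_mem (mul_mem hxL' hyL')))
  refine hq.ne_mul (b * c) ?_
  rw [← k3]
  calc b * c = b * τ * (c * τ) := by rw [hq.comm c, mul_assoc, ← mul_assoc τ, hq.zz, one_mul]
    _ = _ := by rw [← k1, ← k2]; group

end cover

end Cfsg.Agent.SB.SporB
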