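import Cfsg.Agent.SB.SporB.Inst
import Cfsg.Agent.SB.Mon.M

/-!
# S5765: the row of the Monster (helper18)
-/

set_option autoImplicit false

namespace Cfsg.Agent.SB.SporB

open Subgroup Cfsg Cfsg.Agent.H786.FC Cfsg.Agent.SB.Mon
open Cfsg.Agent.H251 (le_pCoreOf)

/-- the parabolic case in a model -/
def RowPIn {A : Type*} [Group A] (p : ℕ) (T : Subgroup A) : Prop :=
  ∀ S : Subgroup A, Group.IsSolvable S → MaxInv T S → ¬ NPar p T S → Good T S

theorem RowPIn.of_map {A B : Type*} [Group A] [Group B] {p : ℕ} {T : Subgroup A} (φ : A →* B)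
    (hφ : Function.Injective φ) (h : RowPIn p (T.map φ)) : RowPIn p T := by
  intro S hS hm hn
  have hS' : Group.IsSolvable ↥(S.map φ) :=
    Group.isSolvable_of_surjective (f := φ.subgroupMap S) (φ.subgroupMap_surjective S)
  exact (h _ hS' (hm.map φ hφ) fun h1 => hn (h1.of_map φ hφ)).of_map φ hφ

theorem rowP_of_equiv {p : ℕ} {K K' : Type*} [Group K] [Group K'] (e : K ≃* K') (h : RowP p K') : RowP p K := by
  apply RowPIn.of_map (MulAut.congr e).toMonoidHom (MulAut.congr e).injective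
  rw [congr_innG]
  exact h

theorem rowP_of_top {G : Type*} [Group G] [IsSimpleGroup G] (hG : ¬ IsMulCommutative G) {p : ℕ}
    (ho : Nat.card (Out G) = 1) (h : RowPIn p (⊤ : Subgroup G)) : RowP p G := by
  have h1 : InnG G = ⊤ := index_eq_one.1 ho
  let e : G ≃* MulAut G := MulEquiv.ofBijective MulAut.conj ⟨conj_injective hG, MonoidHom.range_eq_top.1 h1⟩
  apply RowPIn.of_map e.symm.toMonoidHom e.symm.injective
  rw [h1, map_top_of_surjective _ e.symm.surjective]
  exact h

theorem core_ne_bot {A : Type*} [Group A] [Finite A] {T S : Subgroup A} (h : ¬ NPar 2 T S) : pCoreOf 2 S ≠ ⊥ := by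
  refine fun hb => h fun X h1 h2 h3 => eq_bot_iff.2 ?_
  rw [← hb]
  exact le_pCoreOf h2 (h1.trans inf_le_left) (norm_of h3)

theorem AS.not_le_of_pgroup {A : Type*} [Group A] [Finite A] {T U : Subgroup A} (hT : AS T) {p : ℕ} [Fact p.Prime]
    (hU : IsPGroup p U) : ¬ T ≤ U :=
  hT.not_le (by have := hU.isNilpotent; infer_instance)

theorem rowPIn_M : RowPIn 2 (⊤ : Subgroup MG) := by
  have := Cfsg.Agent.R2.H4.Mon.MonFr.finite_model
  have := Cfsg.Agent.R2.H4.Mon.MonFr.simple_model
  intro S hS hm hn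
  obtain ⟨Γ, -, E⟩ := exists_ext
  have hT : AS (⊤ : Subgroup MG) := as_top (nc_of_card (by rw [card_MG]; norm_num))
  exact (noM E hS (core_ne_bot hn) fun U h0 h2 hU g hg =>
    hm.mem_of_normalizes hT h0 (AS.not_le_of_pgroup hT h2) hU (mem_top g) hg).elim

theorem rowP_M (K : Type) [Group K] (h : Spor.IsoM K) : RowP 2 K := by
  obtain ⟨e1⟩ := h
  obtain ⟨e2⟩ := MonsterP.Equiv.equiv
  have e3 : Spor.Monster ≃* MG := e2
  have := Cfsg.Agent.R2.H4.Mon.MonFr.simple
  have hM' : ¬ IsMulCommutative Spor.Monster := nc_of_card (by rw [Nat.card_congr e3.toEquiv, card_MG]; norm_num)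
  refine rowP_of_equiv e1 (rowP_of_top hM' S2085.result ?_)
  apply RowPIn.of_map e3.toMonoidHom e3.injective
  rw [map_top_of_surjective _ e3.surjective]
  exact rowPIn_M

/-- **The Monster.** -/
theorem row_M (K : Type) [Group K] (h : Spor.IsoM K) : Row K := row_of_split (rowP_M K h) (rowN_M K h)

end Cfsg.Agent.SB.SporB
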