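import Cfsg.Agent.SB.SporB.BAbs
import Cfsg.Agent.SB.SporB.RowM
import Cfsg.Agent.SB.Mon.BFive

/-!
# S5765: the row of the Baby Monster (helper18)
-/

set_option autoImplicit false
set_option maxRecDepth 100000

namespace Cfsg.Agent.SB.SporB

open Subgroup Cfsg Cfsg.Agent.H786.FC Cfsg.Agent.SB.Mon
open Cfsg.Agent.BMx (BM)

section three

open Cfsg.Agent.H863.U33 Cfsg.Agent.H604.RB.ThreeB
open Cfsg.Agent.H819.U33 (g)

theorem chr_y : Chr 3 (g wy1) (PP (g wy1) eG) := by
  have := finG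
  obtain ⟨-, -, hnorm, -, -⟩ := H604.U33.StIm.stC' stNF stO tb card_y_le
  refine ⟨IsPGroup.of_card (stNF tb).2.2, fun c hc p hp => ?_, fun c _ h => ?_⟩
  · have := (hnorm c⁻¹ (Or.inl (by rw [inv_inv, hc, mul_inv_cancel_right]))).1 _ hp
    rwa [inv_inv] at this
  · have hy : g wy1 ∈ PP (g wy1) eG := Subgroup.subset_closure (Set.mem_insert _ _)
    exact zpowers_le.2 hy (H604.U33.CentP.cent_PP stNF stAct stO tb card_y_le fun p hp => (h p hp).symm)

theorem chr_B {A : Subgroup BM} (hA : IsPGroup 3 A) :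
    ∃ (w : BM) (P : Subgroup BM), w ^ 3 = 1 ∧ Chr 3 w P ∧ ∀ a ∈ A, a * w = w * a := by
  have := finG
  have hp : Fact (Nat.Prime 3) := ⟨Nat.prime_three⟩
  obtain ⟨e⟩ : Nonempty (H819.U33.G ≃* BM) := isoG
  obtain ⟨c, hc⟩ := H740.OreM.ThreeBd.exists_conj_le (x := g wy1) (fun k hk => by
    rw [card_y]
    refine (pow_dvd_pow 3 (?_ : k ≤ 13)).trans (by norm_num)
    by_contra hcon
    rw [NotCT.Orders.b isoG] at hk
    exact absurd ((pow_dvd_pow 3 (by omega : 14 ≤ k)).trans hk) (by norm_num)) (hA.map e.symm.toMonoidHom)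
  refine ⟨_, _, ?_, (chr_y.map (MulAut.conj c⁻¹)).map e, fun a ha => ?_⟩
  · rw [← map_pow, ← map_pow, ← order_y, pow_orderOf_eq_one, map_one, map_one]
  · have h1 := mem_centralizer_singleton_iff.1 (hc _ (mem_map_of_mem _ ha))
    rw [← e.apply_symm_apply a, ← map_mul, ← map_mul, MulAut.conj_apply]
    congr 1
    calc e.symm a * (c⁻¹ * g wy1 * c⁻¹⁻¹) = c⁻¹ * (c * e.symm.toMonoidHom a * c⁻¹ * g wy1) * c := by
          simp only [MulEquiv.coe_toMonoidHom, mul_assoc, inv_mul_cancel_left, inv_inv]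
      _ = _ := by rw [h1]; simp only [MulEquiv.coe_toMonoidHom, mul_assoc, inv_mul_cancel, inv_inv, mul_one]

end three

theorem numbers {a : ℕ} {i : Fin 9} {j : Fin 5} (h1 : 2 * a * H877.SK.B.Sch.vv j = 306129918735099415756800)
    (h2 : 97239461142009186000 * H816.MSch.k i * a = 808017424794512875886459904961710757005754368000000000) :
    ¬ 3 ^ 7 ∣ 2 * a := by
  have hv : H877.SK.B.Sch.vv j = 1 ∨ H877.SK.B.Sch.vv j = 3968055 ∨ H877.SK.B.Sch.vv j = 23113728 ∨
      H877.SK.B.Sch.vv j = 2370830336 ∨ H877.SK.B.Sch.vv j = 11174042880 := by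
    clear h1
    revert j; decide
  have hk : H816.MSch.k i = 1 ∨ H816.MSch.k i = 27143910000 ∨ H816.MSch.k i = 11707448673375 ∨
      H816.MSch.k i = 2031941058560000 ∨ H816.MSch.k i = 91569524834304000 ∨ H816.MSch.k i = 1102935324621312000 ∨
      H816.MSch.k i = 1254793905192960000 ∨ H816.MSch.k i = 30434513446055706624 ∨
      H816.MSch.k i = 64353605265653760000 := by
    clear h2
    revert i; decide
  rcases hv with hv | hv | hv | hv | hv <;> rw [hv] at h1
  · rcases hk with hk | hk | hk | hk | hk | hk | hk | hk | hk <;> rw [hk] at h2 <;> omega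
  · omega
  · omega
  · rcases hk with hk | hk | hk | hk | hk | hk | hk | hk | hk <;> rw [hk] at h2 <;> omega
  · omega

section main

open Cfsg.Agent.MonsterX Cfsg.Agent.MonsterX.InstData Cfsg.Agent.MonsterX.MainPack Cfsg.Agent.MonsterU
open Cfsg.Agent.MonsterN Cfsg.Agent.LThreeMB Cfsg.Agent.BabyComp Cfsg.Agent.MonsterN.LitInst
open Cfsg.Agent.BabyComp.Main Cfsg.Agent.BabyComp.BaseTwo
open Cfsg.Agent.MonsterX.MainBasic Cfsg.Agent.MonsterX.Model
open Cfsg.Agent.H713.Spor Cfsg.Agent.H909.PwM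

/-- the double cover, and the 3-subgroups of the centraliser of an involution which lifts to an element of order four -/
theorem cover : ∃ q : BB KDone.K KLinkInst.x₀ →* BM, R01.Lifts.Ext q (tb KDone.K KLinkInst.x₀) ∧
    ∀ b, b * b = tb KDone.K KLinkInst.x₀ → ∀ A : Subgroup BM, IsPGroup 3 A → (∀ a ∈ A, q b * a = a * q b) →
      Nat.card A ≤ 729 := by
  refine CTwoTab.BInst.elim ?_
  intro K iF iT hK hF i1 i2 i3 i4 q y h π f₁ f₂ f₃ f₄ M₁ hq h10 DK Fc hz hcz hcd hL hc5 big hq5 hcard Bs hr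
  obtain ⟨M₂, Bs2⟩ := BaseTwo.exists_base2 hq5
  refine ⟨q, hq, fun b' hb' A hA hAb => ?_⟩
  set θ := (BB KDone.K KLinkInst.x₀).subtype with hθ
  have hinj : Function.Injective θ := Subtype.val_injective
  set τ := tb KDone.K KLinkInst.x₀ with hτ
  obtain ⟨w, w', hw, hw', hww, horb⟩ := Pair.exists_pair (hF := hF)
    (Cfsg.Agent.TwoESix.LeviG.rootFacts hK hF) (Cfsg.Agent.BabyU.KeyInst.extra hF)
    (Cfsg.Agent.TwoESix.RootsInst.roots K hF) hq h10 DK big Bs2 hb'
  have h55 : y 5 * y 5 = 1 := h.sq 5 (by norm_num) (by norm_num)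
  have hsqc : ∀ {v : BB KDone.K KLinkInst.x₀}, IsConj (y 5) v → v * v = 1 := by
    intro v hv
    obtain ⟨c, rfl⟩ := isConj_iff.1 hv
    calc c * y 5 * c⁻¹ * (c * y 5 * c⁻¹) = c * (y 5 * y 5) * c⁻¹ := by group
      _ = 1 := by rw [h55]; group
  have hsq : (w * w') * (w * w') = τ := by
    rcases hww with h1 | h1
    · rw [h1, hb']
    · rw [h1, ← mul_inv_rev, hb']
      exact inv_eq_of_mul_eq_one_left hq.zz
  have hT5 : H715.Mon.Colour.IsT (θ (y 5)) := by
    have h17 : Fact (Nat.Prime 17) := ⟨by norm_num⟩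
    obtain ⟨x, hx⟩ := exists_prime_orderOf_dvd_card' (G := ↥(centralizer ({q (y 5)} : Set Spor.BabyMonster))) 17
      (by rw [hcard]; norm_num)
    have hx' : orderOf (x : Spor.BabyMonster) = 17 := by rw [Subgroup.orderOf_coe, hx]
    obtain ⟨x₀, hx₀, hqx⟩ := BOf.exists_lift hq (p := 17) (by decide) (v := (x : Spor.BabyMonster))
      (by rw [← hx', pow_orderOf_eq_one])
    have hx₁ : x₀ ≠ 1 := by
      rintro rfl
      rw [map_one] at hqx
      rw [← hqx, orderOf_one] at hx'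
      norm_num at hx'
    have hcm : y 5 * x₀ = x₀ * y 5 := BOf.comm_of_map hq (p := 17) (by decide) hx₀ (by
      rw [hqx]; exact (mem_centralizer_singleton_iff.1 x.2).symm)
    refine TwoA.isT (y := θ x₀) ?_ ?_ ?_
    · rw [orderOf_injective θ hinj]
      exact orderOf_eq_prime hx₀ hx₁
    · rw [orderOf_injective θ hinj]
      refine orderOf_eq_prime (by rw [pow_two, h55]) ?_
      intro h1
      rw [h1, map_one] at hcard
      have h6 : centralizer ({1} : Set Spor.BabyMonster) = ⊤ := by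
        rw [eq_top_iff]
        intro g _
        rw [mem_centralizer_singleton_iff, mul_one, one_mul]
      rw [h6, Subgroup.card_top, B.card_b] at hcard
      norm_num at hcard
    · rw [← map_mul, hcm, map_mul]
  have hTc : ∀ {v : BB KDone.K KLinkInst.x₀}, IsConj (y 5) v → H715.Mon.Colour.IsT (θ v) := by
    intro v hv
    obtain ⟨c, rfl⟩ := isConj_iff.1 hv
    rw [map_mul, map_mul, map_inv]
    exact hT5.conj _
  have e1 := Pair.card_eq hq (hsqc hw) (hsqc hw') hsq
  have e2 : Nat.card ↥(centralizer ({w} : Set (BB KDone.K KLinkInst.x₀)) ⊓ centralizer ({w'} : Set _) : Subgroup _) =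
      Nat.card ↥(centralizer ({θ w} : Set MG) ⊓ centralizer ({θ w'} : Set MG) : Subgroup MG) := by
    rw [← card_map_of_injective (f := θ) hinj]
    congr 2
    ext x
    constructor
    · rintro ⟨x, ⟨hx, hx'⟩, rfl⟩
      refine ⟨mem_centralizer_singleton_iff.2 ?_, mem_centralizer_singleton_iff.2 ?_⟩
      · rw [← map_mul, mem_centralizer_singleton_iff.1 hx, map_mul]
      · rw [← map_mul, mem_centralizer_singleton_iff.1 hx', map_mul]
    · rintro ⟨hx, hx'⟩
      have c1 : Commute x (θ w) := mem_centralizer_singleton_iff.1 hx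
      have c2 : Commute x (θ w') := mem_centralizer_singleton_iff.1 hx'
      have c3 : Commute x (θ τ) := by
        rw [← hsq, map_mul, map_mul]
        exact (c1.mul_right c2).mul_right (c1.mul_right c2)
      obtain ⟨x, rfl⟩ := hr x c3.eq
      refine ⟨x, ⟨mem_centralizer_singleton_iff.2 (hinj ?_), mem_centralizer_singleton_iff.2 (hinj ?_)⟩, rfl⟩
      · rw [map_mul, map_mul, c1.eq]
      · rw [map_mul, map_mul, c2.eq]
  obtain ⟨j, hj⟩ := SchB.exists_val (t := q w) (s := q w') (hq5.symm.trans (q.map_isConj hw))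
    (hq5.symm.trans (q.map_isConj hw'))
  have h4 := numbers (by rw [← e2, ← e1]; exact hj) (SchM.card_mul (hTc hw) (hTc hw'))
  rw [← e2, ← e1] at h4
  have f3 : Fact (Nat.Prime 3) := ⟨Nat.prime_three⟩
  have hbb : q b' * q b' = 1 := by rw [← map_mul, hb', hq.mapz]
  have hw2 : q w * q w = 1 := by rw [← map_mul, hsqc hw, map_one]
  have hqw : q w' = q w * q b' := by
    rw [← one_mul (q w'), ← hw2, mul_assoc, ← map_mul]
    rcases hww with h1 | h1
    · rw [h1]
    · rw [h1, map_inv, inv_eq_of_mul_eq_one_left hbb]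
  have hle : A ≤ centralizer {q w} ⊓ centralizer {q w'} := by
    intro a ha
    obtain ⟨k, hk⟩ := hA ⟨a, ha⟩
    have hk' : a ^ 3 ^ k = 1 := congrArg Subtype.val hk
    have ho : Odd (3 ^ k) := Odd.pow (by decide)
    obtain ⟨x, hx, rfl⟩ := BOf.exists_lift hq ho hk'
    have c1 : Commute (q x) (q b') := (hAb _ ha).symm
    have c2 : Commute (q x) (q w) := by
      have h5 : q x * q w * (q x)⁻¹ = q w ∨ q x * q w * (q x)⁻¹ = q w * q b' := by
        rcases horb x (BOf.comm_of_map hq ho hx (hAb _ ha)).symm with h5 | h5 | h5 | h5 <;>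
          have h6 := congrArg q h5 <;> simp only [map_mul, map_inv, hq.mapz, mul_one, hqw] at h6
        exacts [Or.inl h6, Or.inl h6, Or.inr h6, Or.inr h6]
      rcases h5 with h5 | h5
      · exact mul_inv_eq_iff_eq_mul.1 h5
      · have h6 : Commute (q x ^ 2) (q w) := by
          rw [Commute, SemiconjBy, ← mul_inv_eq_iff_eq_mul, pow_two]
          calc _ = q x * (q x * q w * (q x)⁻¹) * (q x)⁻¹ := by group
            _ = q x * (q w * q b') * (q x)⁻¹ := by rw [h5]
            _ = q x * q w * (q x)⁻¹ * (q x * q b' * (q x)⁻¹) := by group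
            _ = q w := by rw [h5, c1.eq, mul_inv_cancel_right, mul_assoc, hbb, mul_one]
        obtain ⟨m, hm⟩ := ho
        have h7 := h6.pow_left (m + 1)
        rwa [← pow_mul, show 2 * (m + 1) = 3 ^ k + 1 by omega, pow_succ, hk', one_mul] at h7
    exact ⟨mem_centralizer_singleton_iff.2 c2.eq, mem_centralizer_singleton_iff.2 (hqw ▸ (c2.mul_right c1).eq)⟩
  obtain ⟨n, hn⟩ := IsPGroup.iff_card.1 hA
  have h5 := card_dvd_of_le hle
  rw [hn] at h5 ⊢
  refine (Nat.pow_le_pow_right (by norm_num) (?_ : n ≤ 6)).trans (by norm_num)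
  by_contra hcon
  exact h4 ((pow_dvd_pow 3 (by omega)).trans h5)

theorem rowPIn_B : RowPIn 2 (⊤ : Subgroup BM) := by
  have := Cfsg.Agent.R2.H4.Mon.MonFr.finite_model
  have := BMx.Loc5.fin_BM
  have : IsSimpleGroup BM := S1704.result.1
  have f2 : Fact (Nat.Prime 2) := ⟨Nat.prime_two⟩
  have f3 : Fact (Nat.Prime 3) := ⟨Nat.prime_three⟩
  intro R hR hm hn
  by_cases h5 : ∃ p : ℕ, p.Prime ∧ 5 ≤ p ∧ ¬ NPar p ⊤ R
  · obtain ⟨p, hp, h5, h⟩ := h5
    exact Or.inr (seven_baby hR hp h5 h hn)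
  push Not at h5
  have h23 : ∀ c ∈ fit R, (orderOf c).Prime → orderOf c = 2 ∨ orderOf c = 3 := by
    intro c hc hp
    rcases prime_cases hp with h | h | h
    · exact Or.inl h
    · exact Or.inr h
    · have h1 := mem_core hc hp rfl
      rw [h5 _ hp h (core _ R) (le_inf (map_subtype_le _) le_top) (core_pgroup _) (core_conj _), mem_bot] at h1
      rw [h1, orderOf_one] at h
      omega
  have hT : AS (⊤ : Subgroup BM) := as_top (nc_of_card (by rw [BMx.Loc5.card_BM]; norm_num))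
  obtain ⟨Γ, hΓ, E⟩ := exists_ext
  obtain ⟨q, hq, hq3⟩ := cover
  set θ := (BB KDone.K KLinkInst.x₀).subtype with hθ
  have hinj : Function.Injective θ := Subtype.val_injective
  have hr : ∀ x, x * θ (tb KDone.K KLinkInst.x₀) = θ (tb KDone.K KLinkInst.x₀) * x → ∃ b, θ b = x := fun x hx =>
    ⟨⟨x, mem_centralizer_singleton_iff.2 hx⟩, rfl⟩
  have hta : LThreeB.Row.TA (θ (tb KDone.K KLinkInst.x₀)) := ta_t
  have hA : IsA Γ (θ (tb KDone.K KLinkInst.x₀)) := by
    have h := Cfsg.Agent.R2.H10.Mon.TwoA.isA_of_ta hta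
    exact ⟨h.1, h.2.1, fun h1 => h.2.2 ((hΓ _).1 h1)⟩
  set τ := tb KDone.K KLinkInst.x₀ with hτ
  have C := ctxB hq hinj hr hA hR hT hm
  have h0 : core 2 R ≠ ⊥ := core_ne_bot hn
  have h3 : core 3 R ≠ ⊥ := by
    intro h3
    obtain ⟨c, hc, h1⟩ := E.syl _ (up_two (θ := θ) hq (core_pgroup (S := R) 2))
    obtain ⟨b, rfl⟩ := hr c (h1 _ ⟨τ, mem_comap.2 (by rw [hq.mapz]; exact one_mem _), rfl⟩).symm
    have h2 : ∀ x ∈ core 2 R, q b * x = x * q b := by
      intro x hx
      obtain ⟨x, rfl⟩ := hq.surj x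
      rw [← map_mul, ← map_mul, hinj (by rw [map_mul, map_mul, h1 _ ⟨x, hx, rfl⟩] : θ (x * b) = θ (b * x))]
    have h4 : ∀ f ∈ fit R, f ∈ core 2 R := by
      intro f hf
      obtain ⟨x, hx, a, ha, rfl⟩ := fit_split h23 hf
      rwa [h3, mem_bot.1 ha, mul_one] at *
    exact no_pt E hq C (h4 _ (mem_fit_of_cent hR (hm.mem_of_centralizes hT h0
      (AS.not_le_of_pgroup hT (core_pgroup 2)) (core_conj 2) (mem_top _) h2) fun f hf => h2 f (h4 f hf))) hc
  have hN : ∀ x, (∀ a ∈ core 3 R, x * a = a * x) → x ∈ R := fun x hx =>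
    hm.mem_of_centralizes hT h3 (AS.not_le_of_pgroup hT (core_pgroup 3)) (core_conj 3) (mem_top _) hx
  obtain ⟨w, P, hw3, hP, hw⟩ := chr_B (core_pgroup (S := R) 3)
  obtain ⟨h4, hQ⟩ := quat E hq hinj (core_pgroup (S := R) 2) (fun b hb => no_pt E hq C hb) hw3
    (core_conj 2 w (hN w fun a ha => (hw a ha).symm))
    fun x hx h => fpf Nat.prime_three Nat.prime_two (by norm_num) hP hw (fun x _ => hN x) hx h
  have h729 : Nat.card (core 3 R) ≤ 729 := by
    obtain ⟨⟨x, hx⟩, hx1⟩ := ne_bot_iff_exists_ne_one.1 h0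
    obtain ⟨b, rfl⟩ := hq.surj x
    exact hq3 b (hQ b hx fun h => hx1 (Subtype.ext h)) _ (core_pgroup 3)
      fun a ha => core_comm Nat.prime_two Nat.prime_three (by norm_num) hx ha
  have hF : Nat.card (fit R) ≤ 2916 := (card_fit_le h23).trans (Nat.mul_le_mul h4 h729)
  have hRc : Nat.card R ≤ 2916 ^ 4 := by
    refine card_le_fitting_pow.trans (Nat.pow_le_pow_left ?_ 4)
    rwa [← card_fit]
  refine Or.inl (fitReg_mixed (core 2 R) (m := 26489012826931200) (m' := 387370509926400) (fun c hc hp => ?_)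
    (fun c hc hp hc2 => ?_) ?_)
  · rw [top_inf_eq]
    rcases h23 c hc hp with h | h
    · obtain ⟨b, rfl⟩ := hq.surj c
      have h1 := hQ b (mem_core hc Nat.prime_two h) (fun h1 => by rw [h1, orderOf_one] at h; omega)
      have h2 : Nat.card (centralizer ({q b} : Set BM)) ≤ Nat.card (centralizer ({b} : Set (BB KDone.K KLinkInst.x₀))) := by
        rcases H451.Weak.Pure.card_ext hq b with h1 | h1 <;> omega
      refine h2.trans (le_trans ?_ (TwoA.card_cent_le (b := θ b) (by rw [← map_mul, h1]) hta))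
      exact Nat.card_le_card_of_injective (fun x => ⟨θ x, mem_centralizer_singleton_iff.2 (by
        rw [← map_mul, mem_centralizer_singleton_iff.1 x.2, map_mul])⟩)
        fun x y hxy => Subtype.ext (hinj (congrArg (fun z : centralizer ({θ b} : Set MG) => (z : MG)) hxy))
    · exact (H186.U33.card_three BMx.Loc5.isoB h).trans (by norm_num)
  · rw [top_inf_eq]
    exact H186.U33.card_three BMx.Loc5.isoB ((h23 c hc hp).resolve_left fun h => hc2 (mem_core hc Nat.prime_two h))
  · rw [card_top, BMx.Loc5.card_BM]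
    refine lt_of_le_of_lt (Nat.add_le_add (Nat.mul_le_mul_right _ (Nat.mul_le_mul h4 hRc))
      (Nat.mul_le_mul_right _ (Nat.mul_le_mul hF hRc))) (by norm_num)

end main

theorem rowP_B (K : Type) [Group K] (h : Spor.IsoB K) : RowP 2 K := by
  obtain ⟨e1⟩ := h
  have := S1704.result.1
  exact rowP_of_equiv e1 (rowP_of_top (nc_of_card (by rw [S1704.result.2]; norm_num)) S2084.result rowPIn_B)

/-- **The Baby Monster.** -/
theorem row_B (K : Type) [Group K] (h : Spor.IsoB K) : Row K := row_of_split (rowP_B K h) (rowN_B K h)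

end Cfsg.Agent.SB.SporB
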