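import Cfsg.Agent.H251.JThompson
import Cfsg.Agent.Lib.ThompsonPQ
import Cfsg.Agent.Co2Type.Quad

/-!
# S5765, the large sporadic groups: general lemmas (helper18)

* `Ch2 H` : `C_H(O₂(H)) ≤ O₂(H)`; `ch2_up` : inherited by the centralisers of larger 2-subgroups.
* `not_solvable_of_transv` : full groups of transvections on an elementary abelian group of rank three.
* `perp_perp`, `fix_nondeg` : two facts on extraspecial groups.
-/

set_option autoImplicit false
set_option linter.unusedSectionVars false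

namespace Cfsg.Agent.SB.SporB

open Subgroup Cfsg Cfsg.Agent.H251 Cfsg.Agent.Co2Type.Quad
open scoped commutatorElement

variable {G : Type*} [Group G]

/-! ### characteristic 2 -/

/-- `C_H(O₂(H)) ≤ O₂(H)` -/
def Ch2 (H : Subgroup G) : Prop := ∀ g ∈ H, (∀ x ∈ pCoreOf 2 H, g * x = x * g) → g ∈ pCoreOf 2 H

theorem norm_of [Finite G] {H X : Subgroup G} (h : ∀ g ∈ H, ∀ x ∈ X, g * x * g⁻¹ ∈ X) : H ≤ normalizer (X : Set G) := by
  intro s hs
  rw [mem_normalizer_iff]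
  intro x
  refine ⟨h s hs x, fun hx => ?_⟩
  have := h s⁻¹ (inv_mem hs) _ hx
  simpa [mul_assoc] using this

theorem conj_of_norm {X : Subgroup G} {g x : G} (hg : g ∈ normalizer (X : Set G)) (hx : x ∈ X) : g * x * g⁻¹ ∈ X :=
  (mem_normalizer_iff.1 hg x).1 hx

theorem mem_cent {X : Subgroup G} {g : G} : g ∈ centralizer (X : Set G) ↔ ∀ x ∈ X, g * x = x * g :=
  ⟨fun h x hx => (mem_centralizer_iff.1 h x hx).symm, fun h => mem_centralizer_iff.2 fun x hx => (h x hx).symm⟩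

theorem norm_cent {X : Subgroup G} : normalizer (X : Set G) ≤ normalizer (centralizer (X : Set G) : Set G) := by
  intro g hg
  rw [← cj_eq_self_iff] at hg ⊢
  rw [cj_centralizer, hg]

theorem isPGroup_of_coprime [Finite G] {p : ℕ} (hp : p.Prime) {C : Subgroup G}
    (h : ∀ c ∈ C, ¬ p ∣ orderOf c → c = 1) : IsPGroup p C := by
  have : Fact p.Prime := ⟨hp⟩
  rw [IsPGroup.iff_orderOf]
  rintro ⟨c, hc⟩
  rw [← Subgroup.orderOf_coe]
  show ∃ k, orderOf c = p ^ k
  obtain ⟨k, m, hm, hkm⟩ := Nat.exists_eq_pow_mul_and_not_dvd (orderOf_pos c).ne' p hp.ne_one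
  refine ⟨k, ?_⟩
  have hpos : 0 < p ^ k := pow_pos hp.pos k
  have h5 : c ^ p ^ k = 1 := by
    apply h _ (C.pow_mem hc _)
    rw [orderOf_pow, hkm, Nat.gcd_eq_right (Dvd.intro _ rfl), Nat.mul_div_cancel_left _ hpos]
    exact hm
  have h6 : p ^ k * m ∣ p ^ k * 1 := by
    rw [mul_one, ← hkm]; exact orderOf_dvd_of_pow_eq_one h5
  have h7 : m = 1 := Nat.dvd_one.1 (Nat.dvd_of_mul_dvd_mul_left hpos h6)
  rw [hkm, h7, mul_one]

theorem eq_one_of_mem_pgroup {p : ℕ} (hp : p.Prime) {P : Subgroup G} (hP : IsPGroup p P) {c : G} (hc : c ∈ P)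
    (ho : ¬ p ∣ orderOf c) : c = 1 := by
  have : Fact p.Prime := ⟨hp⟩
  obtain ⟨k, hk⟩ := (IsPGroup.iff_orderOf.1 hP) ⟨c, hc⟩
  rw [← Subgroup.orderOf_coe] at hk
  change orderOf c = p ^ k at hk
  rcases Nat.eq_zero_or_pos k with rfl | hk0
  · rw [pow_zero, orderOf_eq_one_iff] at hk
    exact hk
  · exact absurd (hk ▸ dvd_pow_self p hk0.ne') ho

/-- the `P × Q` lemma for one element -/
theorem pq [Finite G] {p : ℕ} (hp : p.Prime) {Y P : Subgroup G} (hY : IsPGroup p Y) (hP : IsPGroup p P) {c : G}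
    (ho : ¬ p ∣ orderOf c) (hcY : ∀ y ∈ Y, c * y = y * c) (hYP : ∀ y ∈ Y, ∀ x ∈ P, y * x * y⁻¹ ∈ P)
    (hcP : ∀ x ∈ P, c * x * c⁻¹ ∈ P) (h : ∀ x ∈ P, (∀ y ∈ Y, x * y = y * x) → c * x = x * c) :
    ∀ x ∈ P, c * x = x * c := by
  have : Fact p.Prime := ⟨hp⟩
  have h4 := Cfsg.Agent.Lib.ThompsonPQ.thompson_p_times_q (G := G) p Y (zpowers c) P hY (by
      rw [Nat.card_zpowers]
      exact (hp.coprime_iff_not_dvd.2 ho).symm) hP
    (by
      intro t ht
      rw [mem_cent]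
      intro x hx
      obtain ⟨k, rfl⟩ := mem_zpowers_iff.1 hx
      exact (show Commute t c from (hcY t ht).symm).zpow_right k)
    (norm_of hYP)
    (by
      rw [zpowers_le, mem_normalizer_iff]
      intro x
      refine ⟨hcP x, fun h5 => ?_⟩
      have h6 : Function.Injective fun x : P => (⟨c * x * c⁻¹, hcP x x.2⟩ : P) := fun a b hab =>
        Subtype.ext (mul_left_cancel (mul_right_cancel (congrArg Subtype.val hab)))
      obtain ⟨w, hw⟩ := Finite.surjective_of_injective h6 ⟨_, h5⟩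
      have h7 : (w : G) = x := mul_left_cancel (mul_right_cancel (congrArg Subtype.val hw))
      exact h7 ▸ w.2)
    (by
      intro x hx
      rw [mem_cent]
      intro y hy
      obtain ⟨k, rfl⟩ := mem_zpowers_iff.1 hy
      exact (show Commute x c from (h x hx.1 (mem_cent.1 hx.2)).symm).zpow_right k)
  exact mem_cent.1 (h4 (mem_zpowers c))

theorem ch2_of [Finite G] {H P : Subgroup G} (hP : IsPGroup 2 P) (hPH : P ≤ H) (hn : ∀ g ∈ H, ∀ x ∈ P, g * x * g⁻¹ ∈ P)
    (hc : ∀ g ∈ H, (∀ x ∈ P, g * x = x * g) → g ∈ P) : Ch2 H := fun g hg h =>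
  le_pCoreOf hP hPH (norm_of hn) (hc g hg fun x hx => h x (le_pCoreOf hP hPH (norm_of hn) hx))

theorem ch2_step [Finite G] {Y₁ Y₂ : Subgroup G} (h2 : IsPGroup 2 Y₂) (hle : Y₁ ≤ Y₂) (hn : Y₂ ≤ normalizer (Y₁ : Set G))
    (h : Ch2 (centralizer (Y₁ : Set G))) : Ch2 (centralizer (Y₂ : Set G)) := by
  set C := centralizer (Y₁ : Set G) with hC
  set D := centralizer (Y₂ : Set G) with hD
  have hDC : D ≤ C := centralizer_le (show (Y₁ : Set G) ⊆ Y₂ from hle)
  have hPD : pCoreOf 2 C ⊓ D ≤ pCoreOf 2 D := by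
    refine le_pCoreOf ((pCoreOf_isPGroup C).to_le inf_le_left) inf_le_right (norm_of fun d hd x hx => ⟨?_, ?_⟩)
    · exact conj_of_norm (le_normalizer_pCoreOf C (hDC hd)) hx.1
    · exact D.mul_mem (D.mul_mem hd hx.2) (D.inv_mem hd)
  have hE : D ⊓ centralizer (pCoreOf 2 D : Set G) ≤ pCoreOf 2 D := by
    refine le_pCoreOf (isPGroup_of_coprime Nat.prime_two fun c hc ho => ?_) inf_le_left
      (norm_of fun d hd x hx => ⟨D.mul_mem (D.mul_mem hd hx.1) (D.inv_mem hd),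
        conj_of_norm (norm_cent (le_normalizer_pCoreOf D hd)) hx.2⟩)
    refine eq_one_of_mem_pgroup Nat.prime_two (pCoreOf_isPGroup C) (h c (hDC hc.1) ?_) ho
    refine pq Nat.prime_two h2 (pCoreOf_isPGroup C) ho (mem_cent.1 hc.1) (fun y hy x hx => ?_) (fun x hx => ?_)
      fun x hx hxy => ?_
    · exact conj_of_norm (normalizer_le_normalizer_pCoreOf C (norm_cent (hn hy))) hx
    · exact conj_of_norm (le_normalizer_pCoreOf C (hDC hc.1)) hx
    · exact mem_cent.1 hc.2 x (hPD ⟨hx, mem_cent.2 hxy⟩)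
  exact fun g hg hc => hE ⟨hg, mem_cent.2 hc⟩

theorem exists_norm_gt [Finite G] {p : ℕ} (hp : p.Prime) {Y₁ Y : Subgroup G} (hY : IsPGroup p Y) (hlt : Y₁ < Y) :
    Y₁ < Y ⊓ normalizer (Y₁ : Set G) := by
  have : Fact p.Prime := ⟨hp⟩
  have hnil : Group.IsNilpotent Y := hY.isNilpotent
  have h1 : Y₁.subgroupOf Y < ⊤ := by
    rw [lt_top_iff_ne_top, Ne, subgroupOf_eq_top]
    exact hlt.not_ge
  obtain ⟨y, hy, hy'⟩ := SetLike.exists_of_lt (Group.normalizerCondition_of_isNilpotent (G := Y) _ h1)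
  refine lt_of_le_of_ne (le_inf hlt.le le_normalizer) fun h => hy' ?_
  rw [mem_subgroupOf, h]
  refine ⟨y.2, ?_⟩
  show (y : G) ∈ normalizer (Y₁ : Set G)
  rw [mem_normalizer_iff]
  intro x
  constructor
  · intro hx
    exact (mem_normalizer_iff.1 hy ⟨x, hlt.le hx⟩).1 hx
  · intro hx
    have hxY : x ∈ Y := by
      have := mul_mem (mul_mem (inv_mem y.2) (hlt.le hx)) y.2
      simpa [mul_assoc] using this
    exact (mem_normalizer_iff.1 hy ⟨x, hxY⟩).2 hx

/-- **Characteristic 2 is inherited upwards.** -/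
theorem ch2_up [Finite G] {Y : Subgroup G} (hY : IsPGroup 2 Y) {Y₁ : Subgroup G} (hle : Y₁ ≤ Y)
    (h : Ch2 (centralizer (Y₁ : Set G))) : Ch2 (centralizer (Y : Set G)) := by
  induction Y₁ using WellFoundedGT.induction with
  | ind Y₁ ih =>
    rcases hle.eq_or_lt with rfl | hlt
    · exact h
    · have h1 := exists_norm_gt Nat.prime_two hY hlt
      exact ih _ h1 inf_le_left (ch2_step (hY.to_le inf_le_left) h1.le inf_le_right h)

theorem cent_le_core [Finite G] {Y N : Subgroup G} (h : Ch2 (centralizer (Y : Set G))) (h1 : centralizer (Y : Set G) ≤ N)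
    (h2 : N ≤ normalizer (Y : Set G)) (h3 : Y ≤ pCoreOf 2 N) {g : G} (hg : ∀ x ∈ pCoreOf 2 N, g * x = x * g) :
    g ∈ pCoreOf 2 N := by
  have h4 := pCoreOf_mono_of_normal h1 (h2.trans norm_cent)
  exact h4 (h g (mem_cent.2 fun x hx => hg x (h3 hx)) fun x hx => hg x (h4 hx))

/-! ### transvections -/

/-- the commutator relation of the elementary transvections forbids solvability -/
theorem not_solvable_of_comm {H : Subgroup G} {ι : Type*} (P : ι → G → Prop) (i₀ : ι) (h0 : ¬ P i₀ 1)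
    (h1 : ∀ i, ∃ g ∈ H, P i g) (h2 : ∀ i, ∃ j k, ∀ a b, P j a → P k b → P i ⁅a, b⁆) : ¬ Group.IsSolvable H := by
  rintro ⟨n, hn⟩
  have key : ∀ m, ∀ i, ∃ g ∈ derivedSeries H m, P i (g : G) := by
    intro m
    induction m with
    | zero =>
      intro i
      obtain ⟨g, hg, hP⟩ := h1 i
      exact ⟨⟨g, hg⟩, mem_top _, hP⟩
    | succ m ih =>
      intro i
      obtain ⟨j, k, hjk⟩ := h2 i
      obtain ⟨a, ha, hPa⟩ := ih j
      obtain ⟨b, hb, hPb⟩ := ih k
      exact ⟨⁅a, b⁆, commutator_mem_commutator ha hb, hjk a b hPa hPb⟩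
  obtain ⟨g, hg, hP⟩ := key n i₀
  rw [hn, mem_bot] at hg
  rw [hg] at hP
  exact h0 hP

/-- `u` or `1` -/
def zp (u : G) (a : ZMod 2) : G := if a = 0 then 1 else u

theorem zp_zero (u : G) : zp u 0 = 1 := if_pos rfl

theorem zp_one (u : G) : zp u 1 = u := if_neg one_ne_zero

theorem two_cases (a : ZMod 2) : a = 0 ∨ a = 1 := by revert a; decide

theorem not_solvable_basis {H V : Subgroup G} (hc : ∀ a ∈ V, ∀ b ∈ V, a * b = b * a) (hs : ∀ a ∈ V, a * a = 1)
    (e : Fin 3 → G) (he : ∀ i, e i ∈ V) (φ : Fin 3 → G → ZMod 2)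
    (hφ : ∀ i, ∀ a ∈ V, ∀ b ∈ V, φ i (a * b) = φ i a + φ i b) (hd : ∀ i j, φ i (e j) = if i = j then 1 else 0)
    (hτ : ∀ i j, i ≠ j → ∃ g ∈ H, ∀ v ∈ V, g * v * g⁻¹ = v * zp (e i) (φ j v)) : ¬ Group.IsSolvable H := by
  have hφ1 : ∀ i, φ i 1 = 0 := fun i => by
    have := hφ i 1 V.one_mem 1 V.one_mem
    rw [mul_one] at this
    simpa using this
  have hzV : ∀ i a, zp (e i) a ∈ V := fun i a => by
    rcases two_cases a with rfl | rfl
    · rw [zp_zero]; exact V.one_mem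
    · rw [zp_one]; exact he i
  have hφz : ∀ i j a, φ i (zp (e j) a) = if i = j then a else 0 := fun i j a => by
    rcases two_cases a with rfl | rfl
    · rw [zp_zero, hφ1, ite_self]
    · rw [zp_one, hd]
  have hadd : ∀ i a b, zp (e i) a * zp (e i) b = zp (e i) (a + b) := fun i a b => by
    rcases two_cases a with rfl | rfl <;> rcases two_cases b with rfl | rfl
    · rw [add_zero, zp_zero, mul_one]
    · rw [zero_add, zp_zero, one_mul]
    · rw [add_zero, zp_zero, mul_one]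
    · rw [show (1 : ZMod 2) + 1 = 0 by decide, zp_one, zp_zero, hs _ (he i)]
  have hinv : ∀ i j, i ≠ j → ∀ g, (∀ v ∈ V, g * v * g⁻¹ = v * zp (e i) (φ j v)) →
      ∀ v ∈ V, g⁻¹ * v * g⁻¹⁻¹ = v * zp (e i) (φ j v) := by
    intro i j hij g hg v hv
    have h1 := hg _ (mul_mem hv (hzV i (φ j v)))
    rw [hφ j _ hv _ (hzV _ _), hφz, if_neg hij.symm, add_zero, mul_assoc v, hadd,
      show φ j v + φ j v = 0 from CharTwo.add_self_eq_zero _, zp_zero, mul_one] at h1
    conv_lhs => rw [← h1]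
    group
  refine not_solvable_of_comm (ι := {p : Fin 3 × Fin 3 // p.1 ≠ p.2})
    (fun p g => ∀ v ∈ V, g * v * g⁻¹ = v * zp (e p.1.1) (φ p.1.2 v)) ⟨(0, 1), by decide⟩ ?_
    (fun p => hτ _ _ p.2) ?_
  · intro h
    have h1 := h (e 1) (he 1)
    simp only [one_mul, inv_one, mul_one, hd, if_true, zp_one] at h1
    have h2 : e 0 = 1 := by
      have := mul_left_cancel (a := e 1) (h1.symm.trans (mul_one _).symm)
      exact this
    have h3 := hd 0 0
    rw [h2, hφ1, if_pos rfl] at h3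
    exact zero_ne_one h3
  · rintro ⟨⟨i, j⟩, hij⟩
    obtain ⟨k, hik, hkj⟩ : ∃ k : Fin 3, i ≠ k ∧ k ≠ j := by
      revert i j; decide
    refine ⟨⟨(i, k), hik⟩, ⟨(k, j), hkj⟩, fun a b ha hb v hv => ?_⟩
    have hij' : i ≠ j := hij
    have ha' := hinv i k hik a ha
    have hb' := hinv k j hkj b hb
    simp only at ha hb ⊢
    have e0 : ⁅a, b⁆ * v * ⁅a, b⁆⁻¹ = a * (b * (a⁻¹ * (b⁻¹ * v * b⁻¹⁻¹) * a⁻¹⁻¹) * b⁻¹) * a⁻¹ := by
      rw [commutatorElement_def]; group
    have m1 := mul_mem hv (hzV k (φ j v))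
    have m2 := mul_mem m1 (hzV i (φ k v + φ j v))
    have m3 := mul_mem hv (hzV i (φ k v + φ j v))
    have c1 : φ k (v * zp (e k) (φ j v)) = φ k v + φ j v := by rw [hφ k _ hv _ (hzV _ _), hφz, if_pos rfl]
    have c2 : φ j (v * zp (e k) (φ j v) * zp (e i) (φ k v + φ j v)) = φ j v := by
      rw [hφ j _ m1 _ (hzV _ _), hφ j _ hv _ (hzV _ _), hφz, hφz, if_neg hkj.symm, if_neg hij'.symm, add_zero, add_zero]
    have c3 : v * zp (e k) (φ j v) * zp (e i) (φ k v + φ j v) * zp (e k) (φ j v) = v * zp (e i) (φ k v + φ j v) := by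
      rw [mul_assoc, hc _ (hzV i _) _ (hzV k _), ← mul_assoc, mul_assoc v, hadd,
        show φ j v + φ j v = 0 from CharTwo.add_self_eq_zero _, zp_zero, mul_one]
    have c4 : φ k (v * zp (e i) (φ k v + φ j v)) = φ k v := by
      rw [hφ k _ hv _ (hzV _ _), hφz, if_neg hik.symm, add_zero]
    rw [e0, hb' v hv, ha' _ m1, c1, hb _ m2, c2, c3, ha _ m3, c4, mul_assoc, hadd, add_right_comm,
      show φ k v + φ k v = 0 from CharTwo.add_self_eq_zero _, zero_add]

section linear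

variable {M : Type*} [AddCommGroup M] [Module (ZMod 2) M] [Finite M]

theorem exists_out (W : Submodule (ZMod 2) M) (h : Nat.card W < Nat.card M) : ∃ x, x ∉ W := by
  by_contra hc
  push Not at hc
  have h1 : W = ⊤ := eq_top_iff.2 fun x _ => hc x
  rw [h1, Nat.card_congr Submodule.topEquiv.toEquiv] at h
  exact lt_irrefl _ h

theorem mem_sup_span {W : Submodule (ZMod 2) M} {x y : M} : y ∈ W ⊔ Submodule.span (ZMod 2) {x} ↔ y ∈ W ∨ y + x ∈ W := by
  rw [Submodule.mem_sup]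
  constructor
  · rintro ⟨w, hw, z, hz, rfl⟩
    obtain ⟨a, rfl⟩ := Submodule.mem_span_singleton.1 hz
    rcases two_cases a with rfl | rfl
    · left; simpa using hw
    · right
      rw [one_smul, add_assoc, ← two_smul (ZMod 2) x, show (2 : ZMod 2) = 0 from rfl, zero_smul, add_zero]
      exact hw
  · rintro (h | h)
    · exact ⟨y, h, 0, Submodule.zero_mem _, add_zero _⟩
    · refine ⟨y + x, h, x, Submodule.mem_span_singleton_self x, ?_⟩
      rw [add_assoc, ← two_smul (ZMod 2) x, show (2 : ZMod 2) = 0 from rfl, zero_smul, add_zero]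

theorem card_sup_span (W : Submodule (ZMod 2) M) (x : M) :
    Nat.card ↥(W ⊔ Submodule.span (ZMod 2) {x}) ≤ 2 * Nat.card W := by
  classical
  have h1 : Nat.card (W × Bool) = 2 * Nat.card W := by rw [Nat.card_prod, Nat.card_eq_fintype_card (α := Bool)]; simp [mul_comm]
  rw [← h1]
  refine Nat.card_le_card_of_surjective (fun p : W × Bool => (⟨p.1 + if p.2 then x else 0, ?_⟩ : ↥(W ⊔ _))) ?_
  · refine Submodule.add_mem _ (Submodule.mem_sup_left p.1.2) (Submodule.mem_sup_right ?_)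
    split_ifs
    exacts [Submodule.mem_span_singleton_self x, Submodule.zero_mem _]
  · rintro ⟨y, hy⟩
    rcases mem_sup_span.1 hy with h | h
    · exact ⟨(⟨y, h⟩, false), Subtype.ext (by simp)⟩
    · refine ⟨(⟨y + x, h⟩, true), Subtype.ext ?_⟩
      show y + x + x = y
      rw [add_assoc, ← two_smul (ZMod 2) x, show (2 : ZMod 2) = 0 from rfl, zero_smul, add_zero]

theorem exists_fun {W : Submodule (ZMod 2) M} {x : M} (hx : x ∉ W) :
    ∃ f : M →ₗ[ZMod 2] ZMod 2, f x = 1 ∧ ∀ w ∈ W, f w = 0 := by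
  obtain ⟨f, h1, h2⟩ := W.exists_dual_map_eq_bot_of_notMem hx inferInstance
  refine ⟨f, (two_cases _).resolve_left h1, fun w hw => ?_⟩
  have : f w ∈ W.map f := Submodule.mem_map_of_mem hw
  rwa [h2, Submodule.mem_bot] at this

/-- three vectors independent modulo `W` with a dual system -/
theorem exists_dual_three (W : Submodule (ZMod 2) M) (h : 8 * Nat.card W ≤ Nat.card M) :
    ∃ (e : Fin 3 → M) (φ : Fin 3 → M →ₗ[ZMod 2] ZMod 2), (∀ i j, φ i (e j) = if i = j then 1 else 0) ∧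
      ∀ i, ∀ w ∈ W, φ i w = 0 := by
  have h0 : 0 < Nat.card W := Nat.card_pos
  obtain ⟨a, ha⟩ := exists_out W (by omega)
  have h1 := card_sup_span W a
  obtain ⟨b, hb⟩ := exists_out (W ⊔ Submodule.span (ZMod 2) {a}) (by omega)
  have h2 := card_sup_span (W ⊔ Submodule.span (ZMod 2) {a}) b
  obtain ⟨c, hc⟩ := exists_out (W ⊔ Submodule.span (ZMod 2) {a} ⊔ Submodule.span (ZMod 2) {b}) (by omega)
  obtain ⟨fa, fa1, fa0⟩ := exists_fun ha
  obtain ⟨fb, fb1, fb0⟩ := exists_fun hb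
  obtain ⟨fc, fc1, fc0⟩ := exists_fun hc
  have ba : fb a = 0 := fb0 a (Submodule.mem_sup_right (Submodule.mem_span_singleton_self a))
  have ca : fc a = 0 := fc0 a (Submodule.mem_sup_left (Submodule.mem_sup_right (Submodule.mem_span_singleton_self a)))
  have cb : fc b = 0 := fc0 b (Submodule.mem_sup_right (Submodule.mem_span_singleton_self b))
  have bw : ∀ w ∈ W, fb w = 0 := fun w hw => fb0 w (Submodule.mem_sup_left hw)
  have cw : ∀ w ∈ W, fc w = 0 := fun w hw => fc0 w (Submodule.mem_sup_left (Submodule.mem_sup_left hw))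
  refine ⟨![a, b, c], ![fa - fa b • (fb - fb c • fc) - fa c • fc, fb - fb c • fc, fc], fun i j => ?_, fun i w hw => ?_⟩
  · fin_cases i <;> fin_cases j <;> simp [fa1, fb1, fc1, ba, ca, cb]
  · fin_cases i <;> simp [fa0 w hw, bw w hw, cw w hw]

/-- a separating family of functionals -/
theorem mem_of_sep (Φ : Submodule (ZMod 2) (Module.Dual (ZMod 2) M)) (f : Module.Dual (ZMod 2) M)
    (h : ∀ v, (∀ g ∈ Φ, g v = 0) → f v = 0) : f ∈ Φ := by
  have : FiniteDimensional (ZMod 2) M := Module.Finite.of_finite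
  rw [← Subspace.dualCoannihilator_dualAnnihilator_eq (W := Φ), Submodule.mem_dualAnnihilator]
  intro v hv
  exact h v ((Submodule.mem_dualCoannihilator v).1 hv)

end linear

/-- a subgroup `D` acting on `V` by transvections with centre `u` induces all of them -/
theorem exists_transv [Finite G] {V D : Subgroup G} (hc : ∀ a ∈ V, ∀ b ∈ V, a * b = b * a) (hs : ∀ a ∈ V, a * a = 1)
    {u : G} (hu : u ∈ V) (hu1 : u ≠ 1) (hD : ∀ d ∈ D, ∀ v ∈ V, d * v * d⁻¹ = v ∨ d * v * d⁻¹ = v * u)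
    (hDu : ∀ d ∈ D, d * u = u * d) (φ : G → ZMod 2) (hφ : ∀ a ∈ V, ∀ b ∈ V, φ (a * b) = φ a + φ b)
    (hsep : ∀ v ∈ V, (∀ d ∈ D, d * v = v * d) → φ v = 0) : ∃ d ∈ D, ∀ v ∈ V, d * v * d⁻¹ = v * zp u (φ v) := by
  classical
  let _ : CommGroup V := { (inferInstance : Group V) with mul_comm := fun a b => Subtype.ext (hc a a.2 b b.2) }
  let _ : Module (ZMod 2) (Additive V) := AddCommGroup.zmodModule (n := 2) (fun x => by
    rw [two_nsmul]; exact Subtype.ext (hs _ x.toMul.2))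
  have hiff : ∀ d ∈ D, ∀ v ∈ V, ∀ a : ZMod 2, d * v * d⁻¹ = v * zp u a ↔ (if d * v * d⁻¹ = v then 0 else 1) = a := by
    intro d hd v hv a
    have hne : v * u ≠ v := fun h => hu1 (mul_left_cancel (h.trans (mul_one v).symm))
    rcases two_cases a with rfl | rfl
    · rw [zp_zero, mul_one]
      split_ifs with h1
      · simp [h1]
      · simp [h1]
    · rw [zp_one]
      split_ifs with h1
      · rw [h1]; simp [hne.symm]
      · simp [(hD d hd v hv).resolve_left h1]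
  have hzV : ∀ a, zp u a ∈ V := fun a => by
    rcases two_cases a with rfl | rfl
    · rw [zp_zero]; exact V.one_mem
    · rw [zp_one]; exact hu
  have hadd : ∀ a b, zp u a * zp u b = zp u (a + b) := fun a b => by
    rcases two_cases a with rfl | rfl <;> rcases two_cases b with rfl | rfl
    · rw [add_zero, zp_zero, mul_one]
    · rw [zero_add, zp_zero, one_mul]
    · rw [add_zero, zp_zero, mul_one]
    · rw [show (1 : ZMod 2) + 1 = 0 by decide, zp_one, zp_zero, hs _ hu]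
  have hdz : ∀ d ∈ D, ∀ a, d * zp u a * d⁻¹ = zp u a := fun d hd a => by
    rcases two_cases a with rfl | rfl
    · rw [zp_zero]; group
    · rw [zp_one, hDu d hd]; group
  let Φ : Submodule (ZMod 2) (Module.Dual (ZMod 2) (Additive V)) :=
    { carrier := {f | ∃ d ∈ D, ∀ v : V, d * v * d⁻¹ = v * zp u (f (Additive.ofMul v))}
      zero_mem' := ⟨1, D.one_mem, fun v => by simp [zp_zero]⟩
      add_mem' := by
        rintro f g ⟨d, hd, hf⟩ ⟨d', hd', hg⟩
        refine ⟨d * d', mul_mem hd hd', fun v => ?_⟩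
        have e : d * d' * v * (d * d')⁻¹ = d * (d' * v * d'⁻¹) * d⁻¹ := by group
        have e2 : d * (v * zp u (g (Additive.ofMul v))) * d⁻¹ = (d * v * d⁻¹) * (d * zp u (g (Additive.ofMul v)) * d⁻¹) := by
          group
        rw [e, hg, e2, hf, hdz d hd, mul_assoc, hadd, LinearMap.add_apply]
      smul_mem' := by
        intro a f hf
        rcases two_cases a with rfl | rfl
        · rw [zero_smul]; exact ⟨1, D.one_mem, fun v => by simp [zp_zero]⟩
        · rw [one_smul]; exact hf }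
  let mk : ∀ ψ : G → ZMod 2, (∀ a ∈ V, ∀ b ∈ V, ψ (a * b) = ψ a + ψ b) → Module.Dual (ZMod 2) (Additive V) :=
    fun ψ hψ => AddMonoidHom.toZModLinearMap 2 (AddMonoidHom.mk' (fun v => ψ (v.toMul : V))
      fun a b => hψ _ a.toMul.2 _ b.toMul.2)
  obtain ⟨d, hd, hf⟩ : mk φ hφ ∈ Φ := by
    refine mem_of_sep Φ _ fun v hv => hsep _ v.toMul.2 fun d hd => ?_
    have hψ : ∀ a ∈ V, ∀ b ∈ V, (if d * (a * b) * d⁻¹ = a * b then (0 : ZMod 2) else 1) =
        (if d * a * d⁻¹ = a then 0 else 1) + (if d * b * d⁻¹ = b then 0 else 1) := by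
      intro a ha b hb
      rw [← hiff d hd _ (mul_mem ha hb)]
      have e : d * (a * b) * d⁻¹ = (d * a * d⁻¹) * (d * b * d⁻¹) := by group
      rw [e, ← hadd]
      conv_lhs => rw [(hiff d hd a ha _).2 rfl, (hiff d hd b hb _).2 rfl]
      rw [mul_assoc, ← mul_assoc (zp _ _), ← hc b hb _ (hzV _)]
      group
    have h1 := hv (mk (fun a => if d * a * d⁻¹ = a then 0 else 1) hψ) ⟨d, hd, fun w => (hiff d hd w w.2 _).2 rfl⟩
    have h2 := (hiff d hd _ v.toMul.2 0).2 h1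
    rw [zp_zero, mul_one] at h2
    exact mul_inv_eq_iff_eq_mul.1 h2
  exact ⟨d, hd, fun v hv => hf ⟨v, hv⟩⟩

/-- **Full groups of transvections on `V / L` of rank at least three.** -/
theorem not_solvable_of_transv [Finite G] {H V L : Subgroup G} (hc : ∀ a ∈ V, ∀ b ∈ V, a * b = b * a)
    (hs : ∀ a ∈ V, a * a = 1) (hL : L ≤ V) (hcard : 8 * Nat.card L ≤ Nat.card V)
    (h : ∀ u ∈ V, u ∉ L → ∃ D : Subgroup G, (∀ d ∈ D, (∀ l ∈ L, d * l = l * d) → d ∈ H) ∧
      (∀ d ∈ D, ∀ v ∈ V, d * v * d⁻¹ = v ∨ d * v * d⁻¹ = v * u) ∧ (∀ d ∈ D, d * u = u * d) ∧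
      ∀ v ∈ V, (∀ d ∈ D, d * v = v * d) → v = 1 ∨ v = u) : ¬ Group.IsSolvable H := by
  let _ : CommGroup V := { (inferInstance : Group V) with mul_comm := fun a b => Subtype.ext (hc a a.2 b b.2) }
  let _ : Module (ZMod 2) (Additive V) := AddCommGroup.zmodModule (n := 2) (fun x => by
    rw [two_nsmul]; exact Subtype.ext (hs _ x.toMul.2))
  let W : Submodule (ZMod 2) (Additive V) := AddSubgroup.toZModSubmodule 2 (L.subgroupOf V).toAddSubgroup
  have hW : Nat.card W = Nat.card L := Nat.card_congr (subgroupOfEquivOfLe hL).toEquiv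
  obtain ⟨e, φ, hd, hφW⟩ := exists_dual_three W (by rw [hW]; exact hcard)
  classical
  let ψ : Fin 3 → G → ZMod 2 := fun i g => if hg : g ∈ V then φ i (Additive.ofMul ⟨g, hg⟩) else 0
  have hψ : ∀ i g (hg : g ∈ V), ψ i g = φ i (Additive.ofMul ⟨g, hg⟩) := fun i g hg => dif_pos hg
  have hψm : ∀ i, ∀ a ∈ V, ∀ b ∈ V, ψ i (a * b) = ψ i a + ψ i b := fun i a ha b hb => by
    rw [hψ i _ (mul_mem ha hb), hψ i _ ha, hψ i _ hb, ← map_add]; rfl
  have hψe : ∀ i j, ψ i ((e j).toMul : V) = if i = j then 1 else 0 := fun i j => by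
    rw [hψ i _ (e j).toMul.2]; exact hd i j
  have hψL : ∀ i, ∀ l ∈ L, ψ i l = 0 := fun i l hl => by
    rw [hψ i _ (hL hl)]; exact hφW i _ hl
  refine not_solvable_basis hc hs (fun i => ((e i).toMul : V)) (fun i => (e i).toMul.2) ψ hψm hψe fun i j hij => ?_
  have hnL : (((e i).toMul : V) : G) ∉ L := fun hl => by
    have h1 := hψe i i
    rw [hψL i _ hl, if_pos rfl] at h1
    exact zero_ne_one h1
  obtain ⟨D, h1, h2, h3, h4⟩ := h _ (e i).toMul.2 hnL
  obtain ⟨d, hd, h5⟩ := exists_transv hc hs (e i).toMul.2 (fun h => hnL (h ▸ L.one_mem)) h2 h3 (ψ j) (hψm j)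
    fun v hv hv' => by
      rcases h4 v hv hv' with rfl | rfl
      · exact hψL j 1 L.one_mem
      · rw [hψe, if_neg hij.symm]
  refine ⟨d, h1 d hd fun l hl => ?_, h5⟩
  have h6 := h5 l (hL hl)
  rw [hψL j l hl, zp_zero, mul_one] at h6
  exact mul_inv_eq_iff_eq_mul.1 h6

/-! ### extraspecial groups -/

variable {Q : Subgroup G} {z : G}

/-- the double centraliser in an extraspecial group -/
theorem perp_perp [Finite G] (h : Large Q z) {A : Subgroup G} (hA : A ≤ Q) {x : G} (hx : x ∈ Q)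
    (hc : ∀ q ∈ Q, (∀ a ∈ A, q * a = a * q) → q * x = x * q) : x ∈ A ∨ x * z ∈ A := by
  let W : Submodule (ZMod 2) h.V := AddSubgroup.toZModSubmodule 2
    { carrier := {v | ∃ a : Q, (a : G) ∈ A ∧ h.pr a = v}
      zero_mem' := ⟨1, A.one_mem, h.pr_one⟩
      add_mem' := by
        rintro _ _ ⟨a, ha, rfl⟩ ⟨b, hb, rfl⟩
        exact ⟨a * b, A.mul_mem ha hb, h.pr_mul a b⟩
      neg_mem' := by
        rintro _ ⟨a, ha, rfl⟩
        exact ⟨a⁻¹, A.inv_mem ha, h.pr_inv a⟩ }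
  have h1 : h.pr ⟨x, hx⟩ ∈ W := by
    by_contra hn
    obtain ⟨f, f1, f0⟩ := exists_fun hn
    have h2 : f ∈ LinearMap.range h.b := mem_of_sep _ f fun v hv => by
      have : v = 0 := h.b_nondeg fun w => by rw [h.b_comm]; exact hv _ ⟨w, rfl⟩
      rw [this, map_zero]
    obtain ⟨w, rfl⟩ := h2
    obtain ⟨q, rfl⟩ := h.pr_surjective w
    have h3 := (h.b_pr q ⟨x, hx⟩).2 (hc q q.2 fun a ha => (h.b_pr q ⟨a, hA ha⟩).1 (f0 _ ⟨⟨a, hA ha⟩, ha, rfl⟩))
    rw [h3] at f1
    exact zero_ne_one f1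
  obtain ⟨a, ha, hax⟩ := h1
  rcases h.pr_eq_pr.1 hax with h2 | h2
  · left; rw [show x = (a : G) from h2.symm]; exact ha
  · right; rw [show x * z = (a : G) from h2.symm]; exact ha

/-- the fixed points of an element of order three form a non-degenerate subspace -/
theorem fix_lift (h : Large Q z) {y : G} (hy : y * y * y = 1) (hyz : y * z = z * y) {q : G} (hq : q ∈ Q) :
    ∃ n ∈ Q, y * n = n * y ∧ ∀ s ∈ Q, y * s = s * y → (n * s = s * n ↔ q * s = s * q) := by
  have hq1 := h.conj_mem y hyz q hq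
  have hq2 := h.conj_mem y hyz _ hq1
  have hq3 : y * (y * (y * q * y⁻¹) * y⁻¹) * y⁻¹ = q := by
    calc y * (y * (y * q * y⁻¹) * y⁻¹) * y⁻¹ = (y * y * y) * q * (y * y * y)⁻¹ := by group
      _ = q := by rw [hy]; group
  set q1 := y * q * y⁻¹ with e1
  set q2 := y * q1 * y⁻¹ with e2
  have hn : q * q1 * q2 ∈ Q := mul_mem (mul_mem hq hq1) hq2
  have hn' : q1 * q2 * q ∈ Q := mul_mem (mul_mem hq1 hq2) hq
  refine ⟨q * q1 * q2, hn, ?_, fun s hs hys => ?_⟩
  · have e3 : y * (q * q1 * q2) * y⁻¹ = q1 * q2 * q := by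
      calc y * (q * q1 * q2) * y⁻¹ = (y * q * y⁻¹) * (y * q1 * y⁻¹) * (y * q2 * y⁻¹) := by group
        _ = _ := by rw [hq3]
    have h1 : h.pr ⟨q1 * q2 * q, hn'⟩ = h.pr ⟨q * q1 * q2, hn⟩ := by
      show h.pr (⟨q1, hq1⟩ * ⟨q2, hq2⟩ * ⟨q, hq⟩) = h.pr (⟨q, hq⟩ * ⟨q1, hq1⟩ * ⟨q2, hq2⟩)
      simp only [h.pr_mul]
      abel
    rcases h.pr_eq_pr.1 h1 with h2 | h2
    · exact mul_inv_eq_iff_eq_mul.1 (e3.trans h2)
    · exfalso
      have h3 : y * (q * q1 * q2) * y⁻¹ = q * q1 * q2 * z := e3.trans h2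
      generalize q * q1 * q2 = n at h3
      have h4 : ∀ m : G, y * (m * z) * y⁻¹ = y * m * y⁻¹ * z := fun m => by
        calc y * (m * z) * y⁻¹ = y * m * y⁻¹ * (y * z) * y⁻¹ := by group
          _ = _ := by rw [hyz]; group
      have h5 : n = n * z := by
        calc n = (y * y * y) * n * (y * y * y)⁻¹ := by rw [hy]; group
          _ = y * (y * (y * n * y⁻¹) * y⁻¹) * y⁻¹ := by group
          _ = n * z := by rw [h3, h4, h3, h4, h4, h3, mul_assoc (n * z), h.z_sq, mul_one]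
      exact h.z_ne (mul_left_cancel (h5.symm.trans (mul_one n).symm))
  · have hb : ∀ a (ha : a ∈ Q), h.b (h.pr ⟨y * a * y⁻¹, h.conj_mem y hyz a ha⟩) (h.pr ⟨s, hs⟩) =
        h.b (h.pr ⟨a, ha⟩) (h.pr ⟨s, hs⟩) := by
      intro a ha
      have h1 : y * a * y⁻¹ * s = s * (y * a * y⁻¹) ↔ a * s = s * a := by
        have e : s = y * s * y⁻¹ := by rw [hys]; group
        constructor
        · intro h2
          calc a * s = y⁻¹ * (y * a * y⁻¹ * (y * s * y⁻¹)) * y := by group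
            _ = y⁻¹ * ((y * s * y⁻¹) * (y * a * y⁻¹)) * y := by rw [← e, h2]
            _ = s * a := by group
        · intro h2
          calc y * a * y⁻¹ * s = y * a * y⁻¹ * (y * s * y⁻¹) := by rw [← e]
            _ = y * (a * s) * y⁻¹ := by group
            _ = (y * s * y⁻¹) * (y * a * y⁻¹) := by rw [h2]; group
            _ = _ := by rw [← e]
      have h2 := (h.b_pr ⟨_, h.conj_mem y hyz a ha⟩ ⟨s, hs⟩).trans (h1.trans (h.b_pr ⟨a, ha⟩ ⟨s, hs⟩).symm)
      revert h2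
      generalize h.b _ _ = c
      generalize h.b _ _ = d
      revert c d; decide
    rw [← h.b_pr ⟨_, hn⟩ ⟨s, hs⟩, ← h.b_pr ⟨q, hq⟩ ⟨s, hs⟩]
    have h1 : h.pr ⟨q * q1 * q2, hn⟩ = h.pr ⟨q, hq⟩ + h.pr ⟨q1, hq1⟩ + h.pr ⟨q2, hq2⟩ := rfl
    rw [h1, map_add, map_add, LinearMap.add_apply, LinearMap.add_apply, hb q1 hq1, hb q hq]
    generalize h.b _ _ = c
    revert c; decide

end Cfsg.Agent.SB.SporB
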