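import Cfsg.Agent.SB.SporB.F24Fi
import Cfsg.Agent.SB.Mon.F24.Asm
import Cfsg.Agent.H849.FiModel
import Cfsg.Agent.H830.MonData
import Cfsg.Agent.H906.Cover

/-!
# S5765: the row of `Fi24'`, `O₂(S ⊓ T) ≠ 1` (helper18)
-/

set_option autoImplicit false
set_option linter.unusedSectionVars false

namespace Cfsg.Agent.SB.SporB

open Subgroup Cfsg Cfsg.Agent.H786.FC
open Cfsg.Agent.R2.M7 Cfsg.Agent.R2.M7.Geo

variable {G F : Type*} [Group G] [Group F]

/-- `ψ : N → F` is onto with kernel `⟨y⟩`, and `C(y)` is the preimage of `T` -/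
structure Cov (y : G) (N : Subgroup G) (ψ : N →* F) (T : Subgroup F) : Prop where
  y3 : y * y * y = 1
  surj : Function.Surjective ψ
  ker : ∀ n : N, ψ n = 1 ↔ (n : G) ∈ zpowers y
  cent : ∀ g, g * y = y * g → g ∈ N
  pre : ∀ n : N, ψ n ∈ T ↔ (n : G) * y = y * n

theorem exists_cov {x t : G} {π : centralizer ({x} : Set G) →* ↥(commutator F)} (D : H849.ThreeNorm.Data x t π)
    (hT : AS (commutator F)) (hi : (commutator F).index = 2) (hc : center ↥(commutator F) = ⊥)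
    (hs : ∀ α : MulAut ↥(commutator F), ∃ g : F, ∀ y : ↥(commutator F), (α y : F) = g * y * g⁻¹) :
    ∃ (N : Subgroup G) (ψ : N →* F), Cov x N ψ (commutator F) := by
  have hsurj : Function.Surjective (MulAut.conjNormal : F →* MulAut ↥(commutator F)) := by
    intro α
    obtain ⟨g, hg⟩ := hs α
    exact ⟨g, by ext t; exact (hg t).symm⟩
  let e : F ≃* MulAut ↥(commutator F) := MulEquiv.ofBijective _ ⟨conjNormal_injective hT.cent, hsurj⟩
  let ψ : H849.ThreeNorm.N x →* F := e.symm.toMonoidHom.comp D.auHom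
  have hk : ∀ n, ψ n = 1 ↔ (n : G) ∈ zpowers x := fun n => by
    rw [← mem_subgroupOf, ← D.ker_auHom hc, MonoidHom.mem_ker]
    exact e.symm.map_eq_one_iff
  have hπ : ∀ g : centralizer ({x} : Set G), ψ ⟨g, H849.ThreeNorm.cent_le g.2⟩ = π g := fun g => by
    refine e.symm_apply_eq.2 (MulEquiv.ext fun f => ?_)
    obtain ⟨k, rfl⟩ := D.surj f
    refine (D.au_apply _ k).trans ?_
    rw [show H849.ThreeNorm.cj D.ord ⟨g, H849.ThreeNorm.cent_le g.2⟩ k = g * k * g⁻¹ from rfl, map_mul, map_mul, map_inv]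
    rfl
  have hp : ∀ n, ψ n ∈ commutator F ↔ (n : G) * x = x * n := fun n => by
    refine ⟨fun h => ?_, fun h => ?_⟩
    · obtain ⟨g, hg⟩ := D.surj ⟨_, h⟩
      have h1 := (hk ((⟨g, H849.ThreeNorm.cent_le g.2⟩ : H849.ThreeNorm.N x)⁻¹ * n)).1 (by
        rw [map_mul, map_inv, hπ, hg, inv_mul_cancel])
      have h2 : (g : G)⁻¹ * n ∈ centralizer ({x} : Set G) := zpowers_le.2 (mem_centralizer_singleton_iff.2 rfl) h1
      exact mem_centralizer_singleton_iff.1 ((mul_mem_cancel_left (inv_mem g.2)).1 h2)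
    · have h1 := hπ ⟨n, mem_centralizer_singleton_iff.2 h⟩
      exact (show ψ n = _ from h1) ▸ (π _).2
  have h0 : ∀ f ∈ commutator F, ∃ n, ψ n = f := fun f hf => by
    obtain ⟨g, hg⟩ := D.surj ⟨f, hf⟩
    exact ⟨_, (hπ g).trans (congrArg Subtype.val hg)⟩
  refine ⟨_, ψ, by rw [← pow_three', ← D.ord, pow_orderOf_eq_one], fun f => ?_, hk,
    fun g hg => H849.ThreeNorm.cent_le (mem_centralizer_singleton_iff.2 hg), hp⟩
  by_cases hf : f ∈ commutator F
  · exact h0 f hf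
  have ht : ψ ⟨t, D.t_mem⟩ ∉ commutator F := fun h => by
    have h1 : t * x = x * t := (hp _).1 h
    have h2 := D.inv
    rw [h1, mul_inv_cancel_right] at h2
    exact H849.ThreeNorm.ne_inv D.ord h2
  obtain ⟨n, hn⟩ := h0 _ ((mul_mem_iff_of_index_two hi).2 (iff_of_false ht hf))
  exact ⟨(⟨t, D.t_mem⟩ : H849.ThreeNorm.N x)⁻¹ * n, by rw [map_mul, map_inv, hn, inv_mul_cancel_left]⟩

namespace Cov

variable {y : G} {N : Subgroup G} {ψ : N →* F} {T : Subgroup F} (C : Cov y N ψ T)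
include C

theorem zp {k : G} (hk : k ∈ zpowers y) : k ^ 3 = 1 ∧ ∀ g, g * y = y * g → g * k = k * g := by
  obtain ⟨i, rfl⟩ := mem_zpowers_iff.1 hk
  refine ⟨?_, fun g hg => ((show Commute g y from hg).zpow_right i).eq⟩
  rw [← zpow_natCast, ← zpow_mul, mul_comm, zpow_mul, zpow_natCast, pow_three', C.y3, one_zpow]

theorem uniq {a b : N} (ha : ψ a ∈ T) (h1 : a * a = 1) (h2 : b * b = 1) (h : ψ a = ψ b) : a = b := by
  obtain ⟨k1, k2⟩ := C.zp ((C.ker (a⁻¹ * b)).1 (by rw [map_mul, map_inv, h, inv_mul_cancel]))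
  have k3 : a * (a⁻¹ * b) = a⁻¹ * b * a := Subtype.ext (k2 a ((C.pre a).1 ha))
  have k4 : (a⁻¹ * b) ^ 3 = 1 := Subtype.ext k1
  generalize hz : a⁻¹ * b = z at k3 k4
  have k5 : b = a * z := by rw [← hz, mul_inv_cancel_left]
  have k6 : z * z = 1 := by
    rw [← h2, k5, mul_assoc, ← mul_assoc z a, ← k3, ← mul_assoc, ← mul_assoc, h1, one_mul]
  rw [pow_three, k6, mul_one] at k4
  rw [k5, k4, mul_one]

theorem comm {a b : N} (hb : ψ b ∈ T) (h2 : b * b = 1) (h : ψ a * ψ b = ψ b * ψ a) : a * b = b * a := by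
  rw [← mul_inv_eq_iff_eq_mul]
  refine (C.uniq hb h2 ?_ (by rw [map_mul, map_mul, map_inv, h, mul_inv_cancel_right])).symm
  rw [conj_mul, h2, mul_one, mul_inv_cancel]

theorem lift {f : F} (h : f * f = 1) : ∃ a : N, a * a = 1 ∧ ψ a = f := by
  obtain ⟨a, rfl⟩ := C.surj f
  have h1 : (a * a) ^ 3 = 1 := Subtype.ext (C.zp ((C.ker (a * a)).1 (by rw [map_mul, h]))).1
  refine ⟨a ^ 3, by rw [← h1, ← pow_two a, ← pow_mul, ← pow_add], by rw [map_pow, pow_three, h, mul_one]⟩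

theorem solv {S : Subgroup F} (hS : Group.IsSolvable S) : Group.IsSolvable ↥((S.comap ψ).map N.subtype) := by
  refine solv_map _ ?_
  have h1 : Group.IsSolvable (ψ.subgroupComap S).ker := Group.isSolvable_of_comm fun a b => by
    have ha := (C.ker a).1 (congrArg Subtype.val a.2)
    have hb := (C.ker b).1 (congrArg Subtype.val b.2)
    exact Subtype.ext (Subtype.ext (Subtype.ext ((C.zp hb).2 _ ((C.zp ha).2 y rfl).symm)))
  exact Group.isSolvable_of_ker_le_range (ψ.subgroupComap S).ker.subtype (ψ.subgroupComap S) (by rw [range_subtype])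

omit C in
theorem img {H : Subgroup G} (hs : Group.IsSolvable H) : Group.IsSolvable ↥((H.subgroupOf N).map ψ) := by
  refine solv_map ψ (Group.isSolvable_of_isSolvable_injective (G' := H)
    (f := (N.subtype.comp (Subgroup.subtype _)).codRestrict H fun x => x.2) fun a b k => ?_)
  have h1 := congrArg Subtype.val k
  exact Subtype.ext (Subtype.ext h1)

end Cov

variable [Finite G] [Finite F] {Γ : Geo G} {y : G} {N : Subgroup G} {ψ : N →* F} {D : Set F} {d₀ : F}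

theorem Cov.notA (C : Cov y N ψ (commutator F)) (E : Ext Γ) (K : FiC D d₀) {t : N} (ht : IsA Γ (t : G))
    (h4 : Pm D 4 (ψ t)) : False := by
  have B := E.F.basic
  have key : ∀ u : N, ψ u ∈ commutator F → u * u = 1 → Pm D 4 (ψ u) → IsA Γ (u : G) := fun u k1 k2 k3 => by
    obtain ⟨c, hc⟩ := isConj_iff.1 (K.conj4 h4 k3)
    obtain ⟨n, rfl⟩ := C.surj c
    have h1 : u = n * t * n⁻¹ := C.uniq k1 k2 (by
      rw [conj_mul, show t * t = 1 from Subtype.ext ht.1, mul_one, mul_inv_cancel]) (by rw [map_mul, map_mul, map_inv, hc])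
    rw [h1]
    exact isA_conj B ht n
  obtain ⟨a', ha, b', hb, c', hc, a1, b1, c1, ab, ac, bc, p1, p2, p3, p4, p5, p6, p7⟩ := K.eight
  obtain ⟨a, a2, rfl⟩ := C.lift a1
  obtain ⟨b, b2, rfl⟩ := C.lift b1
  obtain ⟨c, c2, rfl⟩ := C.lift c1
  have ab := C.comm hb b2 ab
  have ac := C.comm hc c2 ac
  have bc := C.comm hc c2 bc
  have sq : ∀ u v : N, u * u = 1 → v * v = 1 → u * v = v * u → u * v * (u * v) = 1 := fun u v k1 k2 k3 => by
    rw [mul_assoc, ← mul_assoc v, ← k3, mul_assoc u, k2, mul_one, k1]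
  rw [← map_mul] at p4 p5 p6 p7
  rw [← map_mul] at p7
  refine E.pureA a b c (key a ha a2 p1) (key b hb b2 p2) (key c hc c2 p3)
    (key _ (by rw [map_mul]; exact mul_mem ha hb) (sq _ _ a2 b2 ab) p4)
    (key _ (by rw [map_mul]; exact mul_mem ha hc) (sq _ _ a2 c2 ac) p5)
    (key _ (by rw [map_mul]; exact mul_mem hb hc) (sq _ _ b2 c2 bc) p6)
    (key _ (by rw [map_mul, map_mul]; exact mul_mem ha (mul_mem hb hc)) (sq _ _ a2 (sq _ _ b2 c2 bc) ?_) p7)
    (congrArg Subtype.val ab) (congrArg Subtype.val ac) (congrArg Subtype.val bc)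
  rw [← mul_assoc, ab, mul_assoc, ac, mul_assoc]

theorem Cov.ctx (C : Cov y N ψ (commutator F)) (E : Ext Γ) (K : FiC D d₀) (hT : AS (commutator F))
    (h13 : 13 ∣ Nat.card ↥(commutator F)) {S : Subgroup F} (hS : Group.IsSolvable S) (hm : MaxInv (commutator F) S) :
    CtxF Γ y ((S.comap ψ).map N.subtype) := by
  have hy : y ∈ (S.comap ψ).map N.subtype :=
    ⟨⟨y, C.cent y rfl⟩, by rw [SetLike.mem_coe, mem_comap, (C.ker _).2 (mem_zpowers y)]; exact one_mem _, rfl⟩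
  have hne : ∀ t : N, t * t = 1 → (t : G) ≠ 1 → ψ t ≠ 1 := fun t k1 k2 k3 =>
    k2 (congrArg Subtype.val (C.uniq (k3 ▸ one_mem _) k1 (mul_one 1) (by rw [k3, map_one])))
  have h2 : ∀ t : N, IsA Γ (t : G) → (t : G) * y = y * t → Pm D 2 (ψ t) := fun t k1 k2 =>
    (K.types ((C.pre t).2 k2) (by rw [← map_mul, show t * t = 1 from Subtype.ext k1.1, map_one])
      (hne t (Subtype.ext k1.1) k1.2.1)).resolve_right (C.notA E K k1)
  refine ⟨C.y3, hy, ?_, fun U hU => ?_, fun U hU k1 k2 => ?_, ?_, fun t k1 k2 k3 H hH => ?_,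
    fun t d k1 k2 k3 k4 k5 k6 H hH => ?_⟩
  · rintro _ ⟨s, -, rfl⟩ g hg
    refine (C.pre (s * ⟨g, C.cent g hg⟩ * s⁻¹)).1 ?_
    rw [map_mul, map_mul, map_inv]
    exact hT.normal.conj_mem _ ((C.pre _).2 hg) _
  · have h1 := norm_of hU
    have h3 : ∀ n : N, ψ n ∈ ((normalizer (U : Set G)).subgroupOf N).map ψ → (n : G) ∈ normalizer (U : Set G) := by
      rintro n ⟨m, k1, k2⟩
      have k3 := zpowers_le.2 (h1 hy) ((C.ker (m⁻¹ * n)).1 (by rw [map_mul, map_inv, k2, inv_mul_cancel]))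
      exact (mul_mem_cancel_left (inv_mem k1)).1 k3
    by_cases h : commutator F ≤ ((normalizer (U : Set G)).subgroupOf N).map ψ
    · refine Or.inl fun g hg => ?_
      have k := mem_centralizer_singleton_iff.1 hg
      exact h3 ⟨g, C.cent g k⟩ (h ((C.pre _).2 k))
    · refine Or.inr (solv_le (fun g hg => ?_) (C.solv hS))
      have k := mem_centralizer_singleton_iff.1 hg.2
      refine ⟨⟨g, C.cent g k⟩, hm.inf_le hT.normal (fun s hs => ?_) h ⟨⟨⟨g, C.cent g k⟩, hg.1, rfl⟩, (C.pre _).2 k⟩, rfl⟩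
      obtain ⟨n, rfl⟩ := C.surj s
      exact ⟨n, h1 ⟨n, hs, rfl⟩, rfl⟩
  · have _ : Fact (Nat.Prime 2) := ⟨Nat.prime_two⟩
    have h1 := (hT.eq_bot_or_le (X := (U.subgroupOf N).map ψ) ?_).resolve_right
      (AS.not_le_of_pgroup hT ((hU.comap_of_injective N.subtype Subtype.val_injective).map ψ))
    · refine (eq_bot_iff_forall _).2 fun u hu => ?_
      have k := mem_centralizer_singleton_iff.1 (k1 hu)
      have h3 := (C.zp ((C.ker ⟨u, C.cent u k⟩).1 (mem_bot.1 (h1 ▸ mem_map_of_mem ψ hu)))).1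
      obtain ⟨m, h4⟩ := hU ⟨u, hu⟩
      exact (pow_eq_one_iff_of_coprime (Nat.Coprime.pow_right m (by norm_num : Nat.Coprime 3 2))).1 ⟨h3, congrArg Subtype.val h4⟩
    · rintro f hf _ ⟨u, hu, rfl⟩
      obtain ⟨n, rfl⟩ := C.surj f
      exact ⟨n * u * n⁻¹, conj_of_norm (X := U) (k2 (mem_centralizer_singleton_iff.2 ((C.pre n).1 hf))) hu, by simp⟩
  · have h1 : commutator F = ((centralizer ({y} : Set G)).subgroupOf N).map ψ := by
      ext f
      obtain ⟨n, rfl⟩ := C.surj f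
      refine ⟨fun h => ⟨n, mem_centralizer_singleton_iff.2 ((C.pre n).1 h), rfl⟩, ?_⟩
      rintro ⟨m, k1, k2⟩
      exact k2 ▸ (C.pre m).2 (mem_centralizer_singleton_iff.1 k1)
    rw [h1] at h13
    refine (h13.trans (card_map_dvd _ _)).trans ?_
    rw [Nat.card_congr (subgroupOfEquivOfLe fun g hg => C.cent g (mem_centralizer_singleton_iff.1 hg)).toEquiv]
  · obtain ⟨t, rfl⟩ : ∃ n : N, (n : G) = t := ⟨⟨t, C.cent t k3⟩, rfl⟩
    have k4 : t * t = 1 := Subtype.ext k1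
    refine fun hs => K.cent ((C.pre t).2 k3) (by rw [← map_mul, k4, map_one]) (hne t k4 k2)
      (solv_le (fun f hf => ?_) (Cov.img (ψ := ψ) hs))
    obtain ⟨n, rfl⟩ := C.surj f
    exact ⟨n, hH n ((C.pre n).1 hf.1)
      (congrArg Subtype.val (C.comm ((C.pre t).2 k3) k4 (mem_centralizer_singleton_iff.1 hf.2))), rfl⟩
  · obtain ⟨t, rfl⟩ : ∃ n : N, (n : G) = t := ⟨⟨t, C.cent t k5⟩, rfl⟩
    obtain ⟨d, rfl⟩ : ∃ n : N, (n : G) = d := ⟨⟨d, C.cent d k6⟩, rfl⟩
    have t2 : t * t = 1 := Subtype.ext k1.1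
    have d2 : d * d = 1 := Subtype.ext k2.1
    have ht := (C.pre t).2 k5
    have hd := (C.pre d).2 k6
    intro hs
    refine K.four (h2 t k1 k5) (h2 d k2 k6) (fun h => C.notA E K (t := t * d) k3 (by rwa [map_mul]))
      (by rw [← map_mul, show t * d = d * t from Subtype.ext k4, map_mul])
      (fun h => k3.2.1 (by rw [C.uniq hd d2 t2 h]; exact k1.1)) (H := (H.subgroupOf N).map ψ) (fun g l1 l2 l3 => ?_)
      (Cov.img hs)
    obtain ⟨n, rfl⟩ := C.surj g
    have l4 : n * d * n⁻¹ * (n * d * n⁻¹) = 1 := by rw [conj_mul, d2, mul_one, mul_inv_cancel]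
    refine ⟨n, hH n ((C.pre n).1 l1) (congrArg Subtype.val (C.comm ht t2 l2)) (l3.imp (fun l => ?_) fun l => ?_), rfl⟩
    · exact (congrArg Subtype.val (C.uniq hd d2 l4 (by rw [map_mul, map_mul, map_inv, l]))).symm
    · exact (congrArg Subtype.val (C.uniq (a := t * d) (by rw [map_mul]; exact mul_mem ht hd) (Subtype.ext k3.1) l4
        (by rw [map_mul, map_mul, map_mul, map_inv, l]))).symm

theorem Cov.no (C : Cov y N ψ (commutator F)) (E : Ext Γ) (E2 : Ext2 Γ) (K : FiC D d₀) (hT : AS (commutator F))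
    (h13 : 13 ∣ Nat.card ↥(commutator F)) {S : Subgroup F} (hS : Group.IsSolvable S) (hm : MaxInv (commutator F) S) :
    NPar 2 (commutator F) S := by
  intro X h1 h2 h3
  have _ : Fact (Nat.Prime 2) := ⟨Nat.prime_two⟩
  obtain ⟨Y, k1, k2, k3⟩ := H906.exists_lift 2 (τ := ψ.subgroupComap (commutator F))
    (ψ.subgroupComap_surjective_of_surjective _ C.surj)
    (fun k hk g => Subtype.ext (Subtype.ext ((C.zp ((C.ker k).1 (congrArg Subtype.val hk))).2 _ ((C.pre g).1 g.2)))) (d := 3)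
    (fun k hk => Subtype.ext (Subtype.ext (C.zp ((C.ker k).1 (congrArg Subtype.val hk))).1)) (by norm_num)
    (X.subgroupOf _) (h2.comap_of_injective _ Subtype.val_injective)
  by_contra h0
  refine (C.ctx E K hT h13 hS hm).no E E2 (X := Y.map (N.subtype.comp (Subgroup.subtype _))) (fun h => h0 ?_) (k3.map _)
    ?_ ?_
  · refine (eq_bot_iff_forall _).2 fun u hu => ?_
    obtain ⟨v, l1, l2⟩ := k2 ⟨u, (h1 hu).2⟩ hu
    have l3 : ((v : N) : G) = 1 := mem_bot.1 (h ▸ mem_map_of_mem _ l1)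
    have l4 : ψ v = u := congrArg Subtype.val l2
    rw [← l4, show (v : N) = 1 from Subtype.ext l3, map_one]
  · rintro _ ⟨v, -, rfl⟩
    exact mem_centralizer_singleton_iff.2 ((C.pre v).1 v.2)
  · rintro _ ⟨s, hs, rfl⟩ _ ⟨v, hv, rfl⟩
    obtain ⟨l1, m, l2⟩ := (k1 v).1 hv
    have l3 : ψ (s * v * s⁻¹) = ψ s * ψ v * (ψ s)⁻¹ := by rw [map_mul, map_mul, map_inv]
    refine ⟨⟨s * v * s⁻¹, mem_comap.2 (l3 ▸ hT.normal.conj_mem _ v.2 _)⟩, (k1 _).2 ⟨?_, m, Subtype.ext ?_⟩, rfl⟩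
    · exact mem_subgroupOf.2 (show ψ (s * v * s⁻¹) ∈ X from l3 ▸ h3 _ hs _ l1)
    · show (s * v * s⁻¹) ^ 2 ^ m = 1
      rw [conj_pow, show (v : N) ^ 2 ^ m = 1 from congrArg Subtype.val l2, mul_one, mul_inv_cancel]

/-- no solvable `S` has `O₂(S ⊓ T) ≠ 1` -/
theorem npar_Fi24 {S : Subgroup Spor.Fi24} (hS : Group.IsSolvable S) (hm : MaxInv (commutator Spor.Fi24) S) :
    NPar 2 (commutator Spor.Fi24) S := by
  have := Cfsg.Agent.R2.H4.Mon.MonFr.finite_model
  have := R08.FiTwentyFour.finite_Fi24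
  obtain ⟨x, t, π, D⟩ := H849.FiModel.exists_data
  obtain ⟨N, ψ, C⟩ := exists_cov D F24.as24 R08.FiTwentyFour.index_commutator H830.MonData.center_commutator
    KFacts.FiTF.exists_conj
  obtain ⟨Γ, E, E2⟩ := exists_ext2
  obtain ⟨d₀, K⟩ := exists_fiC
  exact C.no E E2 K F24.as24 (by rw [R08.FiTwentyFour.card_commutator]; norm_num) hS hm

theorem rowPIn_Fi24 : RowPIn 2 (commutator Spor.Fi24) := fun _ hS hm hn => absurd (npar_Fi24 hS hm) hn

/-- the parabolic case -/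
theorem rowP_Fi24 (K : Type) [Group K] (h : Spor.IsoFi24' K) : RowP 2 K := by
  obtain ⟨e⟩ := h
  have hT := F24.as24.normal
  have hsurj : Function.Surjective (MulAut.conjNormal : Spor.Fi24 →* MulAut ↥(commutator Spor.Fi24)) := by
    intro α
    obtain ⟨g, hg⟩ := KFacts.FiTF.exists_conj α
    exact ⟨g, by ext t; exact (hg t).symm⟩
  let f := MulEquiv.ofBijective _ ⟨conjNormal_injective F24.as24.cent, hsurj⟩
  refine rowP_of_equiv e (RowPIn.of_map f.symm.toMonoidHom f.symm.injective ?_)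
  have h1 : (InnG ↥(commutator Spor.Fi24)).map f.symm.toMonoidHom = commutator Spor.Fi24 := by
    rw [← map_conjNormal (T := commutator Spor.Fi24), map_map]
    have : f.symm.toMonoidHom.comp (MulAut.conjNormal : Spor.Fi24 →* MulAut ↥(commutator Spor.Fi24)) = MonoidHom.id _ :=
      MonoidHom.ext fun a => f.symm_apply_apply a
    rw [this, map_id]
  exact h1.symm ▸ rowPIn_Fi24

/-- **`Fi24'`**, from the model of the 3-local geometry -/
theorem row_Fi24_of (hL : F24.BoxLoc) (K : Type) [Group K] (h : Spor.IsoFi24' K) : Row K := by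
  obtain ⟨e⟩ := h
  exact Row.of_equiv e (RowIn.row F24.as24.normal F24.as24.cent KFacts.FiTF.exists_conj fun S hS hm =>
    F24.Asm.rowNIn hL F24.boxFive S hS hm (npar_Fi24 hS hm))

end Cfsg.Agent.SB.SporB
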