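import Cfsg.Agent.SB.SporB.F24Ark

/-!
# S5765, `Fi24'`: the 2-local subgroups of `C(y)`, abstract part (helper18)
-/

set_option autoImplicit false
set_option linter.unusedSectionVars false

namespace Cfsg.Agent.SB.SporB

open Subgroup Cfsg Cfsg.Agent.Co2Type.Quad
open Cfsg.Agent.H251 (omegaCenterOf_ne_bot mem_omegaCenterOf pCoreOf_isPGroup le_pCoreOf le_normalizer_pCoreOf
  normalizer_le_normalizer_omegaCenterOf pCoreOf_le)
open Cfsg.Agent.R2.M7 Cfsg.Agent.R2.M7.Geo Cfsg.Agent.R2.M7.Elem Cfsg.Agent.R2.M7.Ark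

variable {G : Type*} [Group G]

/-- further facts -/
structure Ext2 (Γ : Geo G) : Prop where
  line : ∀ L : Subgroup G, Γ.Sing L → Nat.card L = 4 → ¬ 13 ∣ Nat.card (normalizer (L : Set G)) ∧
    ∀ y, y * y * y = 1 → (∀ a ∈ L, y * a * y⁻¹ ∈ L) → ¬ Group.IsSolvable ↥(normalizer (L : Set G) ⊓ centralizer {y})
  big : ∀ F : Subgroup G, Γ.Sing F → 8 < Nat.card F → ∃ V : Subgroup G, (Γ.Sing V ∧ Nat.card V = 32 ∨ V ∈ Γ.Ark) ∧
    ∀ x, (∀ a ∈ F, x * a * x⁻¹ ∈ F) → ∀ a ∈ V, x * a * x⁻¹ ∈ V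

/-- the situation in `N(⟨y⟩)` -/
structure CtxF (Γ : Geo G) (y : G) (S : Subgroup G) : Prop where
  y3 : y * y * y = 1
  mem : y ∈ S
  norm : ∀ s ∈ S, ∀ g, g * y = y * g → s * g * s⁻¹ * y = y * (s * g * s⁻¹)
  max : ∀ U : Subgroup G, (∀ s ∈ S, ∀ u ∈ U, s * u * s⁻¹ ∈ U) →
    centralizer {y} ≤ normalizer (U : Set G) ∨ Group.IsSolvable ↥(normalizer (U : Set G) ⊓ centralizer {y})
  simp : ∀ U : Subgroup G, IsPGroup 2 U → U ≤ centralizer {y} → centralizer {y} ≤ normalizer (U : Set G) → U = ⊥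
  c13 : 13 ∣ Nat.card (centralizer ({y} : Set G))
  one : ∀ t, t * t = 1 → t ≠ 1 → t * y = y * t → ∀ H : Subgroup G, (∀ g, g * y = y * g → g * t = t * g → g ∈ H) →
    ¬ Group.IsSolvable H
  two : ∀ t d, IsA Γ t → IsA Γ d → IsA Γ (t * d) → t * d = d * t → t * y = y * t → d * y = y * d → ∀ H : Subgroup G,
    (∀ g, g * y = y * g → g * t = t * g → (g * d * g⁻¹ = d ∨ g * d * g⁻¹ = t * d) → g ∈ H) → ¬ Group.IsSolvable H

variable [Finite G] {Γ : Geo G} {y : G} {S : Subgroup G}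

theorem mem_NC {U : Subgroup G} {g : G} (h1 : g * y = y * g) (h2 : ∀ u ∈ U, g * u * g⁻¹ ∈ U) :
    g ∈ normalizer (U : Set G) ⊓ centralizer {y} :=
  ⟨SporB.norm_of (H := zpowers g) (fun _ ⟨k, hk⟩ => by
    have h3 : g ∈ normalizer (U : Set G) := mem_normalizer_fintype h2
    exact fun u hu => conj_of_norm (hk ▸ zpow_mem h3 k) hu) (mem_zpowers g), mem_centralizer_singleton_iff.2 h1⟩

theorem CtxF.solv (C : CtxF Γ y S) {U : Subgroup G} (h0 : U ≠ ⊥) (h2 : IsPGroup 2 U) (hy : U ≤ centralizer {y})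
    (hn : ∀ s ∈ S, ∀ u ∈ U, s * u * s⁻¹ ∈ U) : Group.IsSolvable ↥(normalizer (U : Set G) ⊓ centralizer {y}) :=
  (C.max U hn).resolve_left fun h => h0 (C.simp U h2 hy h)

theorem CtxF.inf (C : CtxF Γ y S) {U : Subgroup G} (hn : ∀ s ∈ S, ∀ u ∈ U, s * u * s⁻¹ ∈ U) :
    ∀ s ∈ S, ∀ u ∈ U ⊓ centralizer {y}, s * u * s⁻¹ ∈ U ⊓ centralizer {y} := fun s hs u hu =>
  ⟨hn s hs u hu.1, mem_centralizer_singleton_iff.2 (C.norm s hs u (mem_centralizer_singleton_iff.1 hu.2))⟩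

/-- an invariant involution -/
theorem CtxF.single (C : CtxF Γ y S) {U : Subgroup G} {t : G} (ht : t ∈ U) (h1 : t ≠ 1) (h2 : t * t = 1)
    (hU : ∀ a ∈ U, a = 1 ∨ a = t) (hy : t * y = y * t) (hn : ∀ s ∈ S, ∀ u ∈ U, s * u * s⁻¹ ∈ U) : False :=
  C.one t h2 h1 hy _ (fun g k1 k2 => mem_NC k1 (conj_of_comm fun a ha => comm_four k2 k2 ((hU a ha).imp_right Or.inl)))
    (C.solv (fun h => h1 (mem_bot.1 (h ▸ ht))) (two_of_sq fun a ha => by
      rcases hU a ha with rfl | rfl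
      exacts [mul_one 1, h2]) (fun a ha => mem_centralizer_singleton_iff.2 (by
      rcases hU a ha with rfl | rfl
      exacts [by rw [mul_one, one_mul], hy])) hn)

/-- no points -/
theorem CtxF.pure (C : CtxF Γ y S) (E : Ext Γ) {Z : Subgroup G} (h0 : Z ≠ ⊥) (hc : ∀ a ∈ Z, ∀ b ∈ Z, a * b = b * a)
    (hs : ∀ a ∈ Z, a * a = 1) (hp : ∀ a ∈ Z, a ∉ Γ.Pt) (hy : Z ≤ centralizer {y})
    (hn : ∀ s ∈ S, ∀ u ∈ Z, s * u * s⁻¹ ∈ Z) : False := by
  obtain ⟨t, ht, ht1⟩ : ∃ t ∈ Z, t ≠ 1 := by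
    by_contra h
    push Not at h
    exact h0 ((eq_bot_iff_forall _).2 h)
  have hty := mem_centralizer_singleton_iff.1 (hy ht)
  by_cases h : ∀ a ∈ Z, a = 1 ∨ a = t
  · exact C.single ht ht1 (hs t ht) h hty hn
  push Not at h
  obtain ⟨d, hd, hd1, hdt⟩ := h
  obtain ⟨h1, h2⟩ := pure_cases E hc hs hp ht hd ht1 hd1 hdt
  refine C.two t d ⟨hs t ht, ht1, hp t ht⟩ ⟨hs d hd, hd1, hp d hd⟩ h1 (hc t ht d hd) hty
    (mem_centralizer_singleton_iff.1 (hy hd)) _ (fun g k1 k2 k3 => mem_NC k1 fun a ha => ?_)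
    (C.solv h0 (two_of_sq hs) hy hn)
  have k4 : g * t * g⁻¹ = t := by rw [k2]; group
  have k5 : g * d * g⁻¹ ∈ Z := by
    rcases k3 with k | k <;> rw [k]
    exacts [hd, mul_mem ht hd]
  rcases h2 a ha with rfl | rfl | rfl | rfl
  · rw [mul_one, mul_inv_cancel]; exact Z.one_mem
  · rw [k4]; exact ht
  · exact k5
  · rw [show g * (t * d) * g⁻¹ = g * t * g⁻¹ * (g * d * g⁻¹) by group, k4]
    exact mul_mem ht k5

theorem CtxF.line (C : CtxF Γ y S) (E2 : Ext2 Γ) {L : Subgroup G} (hL : Γ.Sing L) (h4 : Nat.card L = 4)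
    (hn : ∀ s ∈ S, ∀ u ∈ L, s * u * s⁻¹ ∈ L) : False := by
  obtain ⟨h1, h2⟩ := E2.line L hL h4
  rcases C.max L hn with h | h
  · exact h1 (C.c13.trans (card_dvd_of_le h))
  · exact h2 y C.y3 (hn y C.mem) h

theorem card_two_pow {U : Subgroup G} (hs : ∀ a ∈ U, a * a = 1) (h8 : ¬ 8 < Nat.card U) :
    Nat.card U = 1 ∨ Nat.card U = 2 ∨ Nat.card U = 4 ∨ Nat.card U = 8 := by
  obtain ⟨n, hn⟩ := IsPGroup.iff_card.1 (two_of_sq hs)
  have h4 : 4 ≤ n → 2 ^ 4 ≤ 2 ^ n := fun h => Nat.pow_le_pow_right (by norm_num) h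
  by_cases h0 : n < 4
  · interval_cases n <;> omega
  · have := h4 (by omega)
    omega

/-- a singular subgroup centralised by `y` -/
theorem CtxF.sing_fix (C : CtxF Γ y S) (E : Ext Γ) (E2 : Ext2 Γ) {U : Subgroup G} (hU : Γ.Sing U) (h0 : U ≠ ⊥)
    (hy : U ≤ centralizer {y}) (hn : ∀ s ∈ S, ∀ u ∈ U, s * u * s⁻¹ ∈ U) : False := by
  have B := E.F.basic
  have hs := sing_sq B hU
  by_cases h8 : 8 ≤ Nat.card U
  · refine not_solvable_of_transv (L := ⊥) (sing_comm B hU) hs bot_le (by rw [card_bot]; omega) (fun u hu huL => ?_)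
      (C.solv h0 (two_of_sq hs) hy hn)
    have hu1 : u ≠ 1 := fun h => huL (h ▸ one_mem _)
    have hL := E.large u (hU.1 u hu hu1)
    refine ⟨Γ.QQ u ⊓ centralizer {y},
      fun d hd _ => mem_NC (mem_centralizer_singleton_iff.1 hd.2) (Q_norm E hU hu hu1 hd.1),
      fun d hd v hv => conj_Q hL hd.1 (hU.2 u hu hu1 v hv), fun d hd => hL.comm_z d hd.1,
      fun v hv h => hL.cent v (hU.2 u hu hu1 v hv) fun q hq => ?_⟩
    obtain ⟨n, k1, k2, k3⟩ := fix_lift hL C.y3 (mem_centralizer_singleton_iff.1 (hy hu)).symm hq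
    exact ((k3 v (hU.2 u hu hu1 v hv) (mem_centralizer_singleton_iff.1 (hy hv)).symm).1
      (h n ⟨k1, mem_centralizer_singleton_iff.2 k2.symm⟩)).symm
  by_cases h4 : Nat.card U = 4
  · exact C.line E2 hU h4 hn
  rcases small_cases hs h0 h8 with ⟨x, hx, hx1, h⟩ | ⟨x, hx, v, hv, hx1, hv1, hvx, -⟩
  · exact C.single hx hx1 (hs x hx) h (mem_centralizer_singleton_iff.1 (hy hx)) hn
  · have h1 := two_mul_le' (A := ⊥) (B := zpowers x) bot_le (mem_zpowers x) fun h => hx1 (mem_bot.1 h)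
    have h2 := two_mul_le' (zpowers_le.2 hx) hv fun h => (mem_zp (hs x hx) h).elim hv1 hvx
    have h3 := card_two_pow hs (by omega)
    rw [card_bot] at h1
    omega

theorem avg_mem (A : Γ.ArkFacts) (B : Γ.Basic) {O : Subgroup G} (hO : O ∈ Γ.Ark) (hy : y * y * y = 1)
    (hn : ∀ u ∈ O, y * u * y⁻¹ ∈ O) : ND Γ (O ⊓ centralizer {y}) := by
  intro w hw hw1
  obtain ⟨a, ha, haw⟩ := A.bet_nondeg O hO w hw.1 hw1
  have h1 := hn a ha
  have h2 := hn _ h1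
  have hw' : y * w * y⁻¹ = w := by rw [← mem_centralizer_singleton_iff.1 hw.2]; group
  have hb : ∀ x, Γ.bet (y * x * y⁻¹) w = Γ.bet x w := fun x => by
    have := bet_conj B x w y
    rwa [hw'] at this
  refine ⟨a * (y * a * y⁻¹) * (y * (y * a * y⁻¹) * y⁻¹), ⟨mul_mem (mul_mem ha h1) h2,
    mem_centralizer_singleton_iff.2 (mul_inv_eq_iff_eq_mul.1 ?_).symm⟩, ?_⟩
  · calc y * (a * (y * a * y⁻¹) * (y * (y * a * y⁻¹) * y⁻¹)) * y⁻¹
        = y * a * y⁻¹ * (y * (y * a * y⁻¹) * y⁻¹) * (y * (y * (y * a * y⁻¹) * y⁻¹) * y⁻¹) := by group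
      _ = _ := by rw [conj3 hy, A.comm O hO _ (mul_mem h1 h2) a ha, ← mul_assoc a]
  · rw [A.bet_mul O hO _ (mul_mem ha h1) _ h2 w hw.1, A.bet_mul O hO a ha _ h1 w hw.1, hb, hb, hb a, haw]
    decide

/-- a hyperbolic pair, or two non-singular vectors -/
theorem nd_cases (A : Γ.ArkFacts) {O W : Subgroup G} (hO : O ∈ Γ.Ark) (hW : W ≤ O) (h : ND Γ W) (h0 : W ≠ ⊥) :
    (∃ a ∈ W, ∃ b ∈ W, Γ.kap a = 1 ∧ Γ.kap b = 1 ∧ Γ.bet a b = 1) ∨
      ∃ a ∈ W, ∃ c ∈ W, Γ.kap c = 0 ∧ Γ.kap a = 1 ∧ Γ.bet c a = 1 := by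
  obtain ⟨e, he, he1⟩ : ∃ t ∈ W, t ≠ 1 := by
    by_contra h
    push Not at h
    exact h0 ((eq_bot_iff_forall _).2 h)
  obtain ⟨f, hf, hfe⟩ := h e he he1
  rcases Ark.two_cases (Γ.kap e) with k1 | k1 <;> rcases Ark.two_cases (Γ.kap f) with k2 | k2
  · refine Or.inr ⟨f * e, mul_mem hf he, f, hf, k2, by rw [kap_mul, k1, k2, hfe]; decide, ?_⟩
    rw [bet_mul_right A hO (hW hf) (hW hf) (hW he), bet_self A hO (hW hf), hfe, zero_add]
  · exact Or.inr ⟨f, hf, e, he, k1, k2, by rw [bet_symm A hO (hW he) (hW hf), hfe]⟩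
  · exact Or.inr ⟨e, he, f, hf, k2, k1, hfe⟩
  · exact Or.inl ⟨f, hf, e, he, k2, k1, hfe⟩

/-- an invariant ark -/
theorem CtxF.ark (C : CtxF Γ y S) (E : Ext Γ) {O : Subgroup G} (hO : O ∈ Γ.Ark)
    (hn : ∀ s ∈ S, ∀ u ∈ O, s * u * s⁻¹ ∈ O) : False := by
  have _ := Fintype.ofFinite G
  have B := E.F.basic
  have A := E.F.ark
  have m := A.bet_mul O hO
  have hnd := avg_mem A B hO C.y3 (hn y C.mem)
  have hnW := C.inf hn
  have hsg : sg Γ (fun x => x ∈ O ⊓ centralizer {y}) % 3 = 2 := by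
    have h1 := sg_mod3 B C.y3 (P := fun x => x ∈ O) (hn y C.mem)
    rw [sg_ark E hO] at h1
    rw [sg_congr (P := fun x => x ∈ O ⊓ centralizer {y}) (P' := fun x => x ∈ O ∧ x * y = y * x)
      fun x => and_congr_right fun _ => mem_centralizer_singleton_iff, ← h1]
    rfl
  have hNW : ∀ g, g * y = y * g → (∀ x ∈ O, g * x * g⁻¹ ∈ O) → ∀ x ∈ O ⊓ centralizer {y},
      g * x * g⁻¹ ∈ O ⊓ centralizer {y} := fun g k1 k2 x hx =>
    ⟨k2 x hx.1, (centralizer {y}).mul_mem ((centralizer {y}).mul_mem (mem_centralizer_singleton_iff.2 k1) hx.2)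
      ((centralizer {y}).inv_mem (mem_centralizer_singleton_iff.2 k1))⟩
  have hWO : O ⊓ centralizer {y} ≤ O := inf_le_left
  have hWy : O ⊓ centralizer {y} ≤ centralizer {y} := inf_le_right
  generalize O ⊓ centralizer {y} = W at hnd hnW hsg hNW hWO hWy
  have h0 : W ≠ ⊥ := by
    rintro rfl
    rw [sg_bot] at hsg
    omega
  by_cases hp : ∀ a ∈ W, a ∉ Γ.Pt
  · exact C.pure E h0 (fun a ha b hb => A.comm O hO a (hWO ha) b (hWO hb)) (fun a ha => A.sq O hO a (hWO ha)) hp hWy hnW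
  push Not at hp
  obtain ⟨u, hu, pu⟩ := hp
  obtain ⟨v, hv, pv, huv⟩ : ∃ v ∈ W, v ∈ Γ.Pt ∧ Γ.bet u v = 1 := by
    obtain ⟨a, ha, hau⟩ := hnd u hu (B.pt_ne u pu)
    have ne : ∀ x, Γ.bet x u = 1 → x ≠ 1 := fun x hx h => by
      rw [h, bet_one_left] at hx
      exact zero_ne_one hx
    rcases Ark.two_cases (Γ.kap a) with k | k
    · exact ⟨a, ha, pt_of_kap k (ne a hau), by rw [bet_symm A hO (hWO hu) (hWO ha), hau]⟩
    · have h1 : Γ.bet (a * u) u = 1 := by rw [m a (hWO ha) u (hWO hu) u (hWO hu), hau, bet_self A hO (hWO hu), add_zero]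
      exact ⟨a * u, mul_mem ha hu, pt_of_kap (by rw [kap_mul, k, kap_pt pu, hau]; decide) (ne _ h1),
        by rw [bet_symm A hO (hWO hu) (hWO (mul_mem ha hu)), h1]⟩
  have huO := hWO hu
  have hvO := hWO hv
  have huvO := mul_mem huO hvO
  have kuv : Γ.kap (u * v) = 1 := by rw [kap_mul, kap_pt pu, kap_pt pv, huv]; decide
  have hnd1 := nd_split A hO hWO hu hv huv hnd
  have hsg1 := sg_hyp A hO hWO hu hv huv (kap_pt pu)
  have hpr := fun a (ha : a ∈ W) => proj A hO hWO hu hv huv ha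
  have h1W : W ⊓ perp A hO huO ⊓ perp A hO hvO ≤ W := inf_le_left.trans inf_le_left
  have h1u : ∀ a ∈ W ⊓ perp A hO huO ⊓ perp A hO hvO, Γ.bet a u = 0 := fun a ha => ha.1.2.2
  have h1v : ∀ a ∈ W ⊓ perp A hO huO ⊓ perp A hO hvO, Γ.bet a v = 0 := fun a ha => ha.2.2
  generalize W ⊓ perp A hO huO ⊓ perp A hO hvO = W₁ at hnd1 hsg1 hpr h1W h1u h1v
  have h1O := h1W.trans hWO
  have aniso : ∀ a ∈ W₁, ∀ b ∈ W₁, Γ.kap a = 1 → Γ.kap b = 1 → Γ.bet a b = 1 → False := by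
    intro a ha b hb ka kb hab
    have key : ∀ x ∈ W₁, Γ.kap x = 1 → u * v * x ∈ Γ.Pt ∧ Γ.bet u (u * v * x) = 1 ∧ Γ.bet v (u * v * x) = 1 := by
      intro x hx kx
      have e1 : Γ.bet u (u * v * x) = 1 := by
        rw [bet_symm A hO huO (mul_mem huvO (h1O hx)), m _ huvO x (h1O hx) u huO, m u huO v hvO u huO,
          bet_self A hO huO, bet_symm A hO hvO huO, huv, h1u x hx]
        decide
      refine ⟨pt_of_kap ?_ fun h => ?_, e1, ?_⟩
      · rw [kap_mul, kuv, kx, bet_symm A hO huvO (h1O hx), bet_mul_right A hO (h1O hx) huO hvO, h1u x hx, h1v x hx]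
        decide
      · rw [h, bet_symm A hO huO O.one_mem, bet_one_left] at e1
        exact zero_ne_one e1
      · rw [bet_symm A hO hvO (mul_mem huvO (h1O hx)), m _ huvO x (h1O hx) v hvO, m u huO v hvO v hvO,
          bet_self A hO hvO, huv, h1v x hx]
        decide
    obtain ⟨a1, a2, a3⟩ := key a ha ka
    obtain ⟨b1, b2, b3⟩ := key b hb kb
    have cy := fun {x : G} (hx : x ∈ W) => mem_centralizer_singleton_iff.1 (hWy hx)
    refine ovoid E hO C.y3 huO hvO (mul_mem huvO (h1O ha)) (mul_mem huvO (h1O hb)) pu pv a1 b1 huv a2 b2 a3 b3 ?_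
      (cy hu) (cy hv) (cy (mul_mem (mul_mem hu hv) (h1W ha))) (cy (mul_mem (mul_mem hu hv) (h1W hb)))
      (fun g k1 k2 => mem_NC k1 (hNW g k1 k2)) (C.solv h0 (two_of_sq fun a ha => A.sq O hO a (hWO ha)) hWy hnW)
    rw [m _ huvO a (h1O ha) _ (mul_mem huvO (h1O hb)), m u huO v hvO _ (mul_mem huvO (h1O hb)), b2, b3,
      bet_mul_right A hO (h1O ha) huvO (h1O hb), bet_mul_right A hO (h1O ha) huO hvO, h1u a ha, h1v a ha, hab]
    decide
  by_cases h1 : W₁ = ⊥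
  · have hA := isA_of_kap (A.sq O hO _ huvO) kuv
    have hfix : ∀ s ∈ S, s * (u * v) * s⁻¹ = u * v := by
      intro s hs
      have k1 := hnW s hs _ (mul_mem hu hv)
      have k2 := kap_conj B (u * v) s
      rw [kuv] at k2
      generalize s * (u * v) * s⁻¹ = x at k1 k2
      obtain ⟨b, hb, h⟩ := hpr x k1
      rw [h1, mem_bot] at hb
      subst hb
      rcases h with h | h | h | h
      · rw [← h, kap_one] at k2
        exact absurd k2 zero_ne_one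
      · rw [eq_inv_of_mul_eq_one_left h.symm, inv_eq A hO huO, kap_pt pu] at k2
        exact absurd k2 zero_ne_one
      · rw [eq_inv_of_mul_eq_one_left h.symm, inv_eq A hO hvO, kap_pt pv] at k2
        exact absurd k2 zero_ne_one
      · rw [mul_assoc] at h
        rw [eq_inv_of_mul_eq_one_left h.symm, inv_eq A hO huvO]
    refine C.single (mem_zpowers (u * v)) hA.2.1 hA.1 (fun a ha => mem_zp hA.1 ha)
      (mem_centralizer_singleton_iff.1 (hWy (mul_mem hu hv))) fun s hs a ha => ?_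
    rcases mem_zp hA.1 ha with rfl | rfl
    · rw [mul_one, mul_inv_cancel]; exact one_mem _
    · rw [hfix s hs]; exact mem_zpowers _
  rcases nd_cases A hO h1O hnd1 h1 with ⟨a, ha, b, hb, k1, k2, k3⟩ | ⟨a, ha, c, hc, k1, k2, k3⟩
  · exact aniso a ha b hb k1 k2 k3
  have hsg2 := sg_hyp A hO h1O hc ha k3 k1
  by_cases h2 : W₁ ⊓ perp A hO (h1O hc) ⊓ perp A hO (h1O ha) = ⊥
  · rw [h2, sg_bot] at hsg2
    omega
  obtain ⟨e, he, ke⟩ : ∃ e ∈ W₁ ⊓ perp A hO (h1O hc) ⊓ perp A hO (h1O ha), Γ.kap e = 1 := by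
    rcases nd_cases A hO (inf_le_left.trans (inf_le_left.trans h1O)) (nd_split A hO h1O hc ha k3 hnd1) h2 with
      ⟨e, he, -, -, k, -⟩ | ⟨e, he, -, -, -, k, -⟩
    exacts [⟨e, he, k⟩, ⟨e, he, k⟩]
  refine aniso (e * c) (mul_mem he.1.1 hc) a ha ?_ k2 ?_
  · rw [kap_mul, ke, k1, he.1.2.2]; decide
  · rw [m e (h1O he.1.1) c (h1O hc) a (h1O ha), he.2.2, k3, zero_add]

/-- an invariant singular subgroup -/
theorem CtxF.sing (C : CtxF Γ y S) (E : Ext Γ) (E2 : Ext2 Γ) {F : Subgroup G} (hF : Γ.Sing F) (h0 : F ≠ ⊥)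
    (hn : ∀ s ∈ S, ∀ u ∈ F, s * u * s⁻¹ ∈ F) : False := by
  have key : ∀ V : Subgroup G, Γ.Sing V → (∀ s ∈ S, ∀ u ∈ V, s * u * s⁻¹ ∈ V) → Nat.card V % 3 = 1 := fun V hV h =>
    card_mod3 C.y3 (h y C.mem) (by
      by_contra h1
      exact C.sing_fix E E2 (sing_le hV inf_le_left) h1 inf_le_right (C.inf h))
  by_cases h8 : 8 < Nat.card F
  · obtain ⟨V, ⟨hV, hc⟩ | hV, h⟩ := E2.big F hF h8
    · have := key V hV fun s hs => h s (hn s hs)
      omega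
    · exact C.ark E hV fun s hs => h s (hn s hs)
  · have h1 := key F hF hn
    have h2 := card_two_pow (sing_sq E.F.basic hF) h8
    have h3 : Nat.card F ≠ 1 := fun h => h0 (card_eq_one.1 h)
    exact C.line E2 hF (by omega) hn

/-- **The 2-local subgroups of `C(y)`.** -/
theorem CtxF.no (C : CtxF Γ y S) (E : Ext Γ) (E2 : Ext2 Γ) {X : Subgroup G} (h0 : X ≠ ⊥) (hX : IsPGroup 2 X)
    (hy : X ≤ centralizer {y}) (hn : ∀ s ∈ S, ∀ u ∈ X, s * u * s⁻¹ ∈ X) : False := by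
  have hS : S ≤ normalizer (X : Set G) := SporB.norm_of hn
  by_cases hpt : ∃ c ∈ X, c ∈ Γ.Pt
  · obtain ⟨c, hcX, hc⟩ := hpt
    have St := sit E (pCoreOf_isPGroup (normalizer (X : Set G))) fun g hg => cent_le_core (ch2_pt E hX hcX hc)
      (centralizer_le_normalizer _) le_rfl (le_pCoreOf hX le_normalizer le_rfl) hg
    rcases MainCP.mainC E.F _ _ St with hO | ⟨F, hF0, -, hF, hFn⟩
    · exact C.ark E hO fun s hs => norm_omega s (hS hs)
    · exact C.sing E E2 hF hF0 fun s hs => hFn s (norm_omega s (hS hs))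
  · push Not at hpt
    exact C.pure E (omegaCenterOf_ne_bot hX h0)
      (fun a ha b hb => mem_cent.1 (mem_omegaCenterOf.1 ha).2.1 b (mem_omegaCenterOf.1 hb).1)
      (fun a ha => by rw [← pow_two]; exact (mem_omegaCenterOf.1 ha).2.2)
      (fun a ha => hpt a (mem_omegaCenterOf.1 ha).1) (fun a ha => hy (mem_omegaCenterOf.1 ha).1)
      fun s hs u hu => conj_of_norm (normalizer_le_normalizer_omegaCenterOf _ (hS hs)) hu

end Cfsg.Agent.SB.SporB
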