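import Cfsg.Agent.SB.SporB.F24Inst
import Cfsg.Agent.SB.SporB.RowM
import Cfsg.Agent.TID.SO.D.Gen
import Cfsg.Agent.H809.Width
import Cfsg.Agent.H961.CopSmall
import Cfsg.Agent.Lib.ComponentSolvable
import Cfsg.Agent.S0303
import Cfsg.Agent.S5400
import Cfsg.Agent.S5465
import Cfsg.Agent.S5466
import Cfsg.Agent.S5467
import Cfsg.Agent.S5472

/-!
# S5765, `Fi24'`: involutions and four-groups of `Fi24'` (helper18)
-/

set_option autoImplicit false
set_option linter.unusedSectionVars false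
set_option linter.unusedSimpArgs false

namespace Cfsg.Agent.SB.SporB

open Subgroup Cfsg
open Cfsg.Agent.TID.SO.D (Hyp hyp22 hyp24)
open Cfsg.Agent.Lib.ComponentSolvable (quasisimple_not_solvable)

theorem solv_equiv {G H : Type*} [Group G] [Group H] (e : G ≃* H) (h : Group.IsSolvable G) : Group.IsSolvable H :=
  Group.isSolvable_of_surjective (f := e.toMonoidHom) e.surjective

theorem aniso_two : ∀ z₁ z₂ : ZMod 2, z₁ ^ 2 + 1 * z₁ * z₂ + 1 * z₂ ^ 2 = 0 → z₁ = 0 ∧ z₂ = 0 := by decide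

theorem ns_o6 : ¬ Group.IsSolvable ↥(isometryGroup (ZMod 2) (quadFormMinus 2 (ZMod 2) 1 1)) := by
  intro h
  have _ : Fact (Nat.Prime 2) := ⟨Nat.prime_two⟩
  have _ : Fintype (GaloisField 2 2) := Fintype.ofFinite _
  have hK : Fintype.card (GaloisField 2 2) = 2 ^ 2 := by
    rw [← Nat.card_eq_fintype_card, GaloisField.card 2 2 (by norm_num)]
  obtain ⟨e⟩ := S0303.result (F := ZMod 2) (K := GaloisField 2 2) (q := 2) (ZMod.card 2) hK 1 1 aniso_two
  have h1 := H961.CopSmall.ns_psu hK (n := 4) (by norm_num) (solv_equiv e inferInstance)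
  omega

/-- the fixed points of an outer involution of `Fi22` -/
theorem outer22 {σ : MulAut Spor.Fi22} (h2 : σ * σ = 1) (ho : σ ∉ (MulAut.conj : Spor.Fi22 →* MulAut Spor.Fi22).range)
    {H : Subgroup Spor.Fi22} (hH : ∀ g, σ g = g → g ∈ H) : ¬ Group.IsSolvable H := by
  intro hs
  have _ : Finite Spor.Fi22 := Nat.finite_of_card_ne_zero (by rw [R01.Fi22Facts.card]; norm_num)
  have _ : Fact (Nat.Prime 2) := ⟨Nat.prime_two⟩
  obtain ⟨T, d, h, h22⟩ := hyp22 (G := Spor.Fi22) ⟨MulEquiv.refl _⟩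
  obtain ⟨s, a, b, Cs, -, -, k1, -, -, -, -, -, -, -, k2, -, -, -, k3, ⟨e1⟩, Cab, O, k4, -, -, -, _, ⟨e2⟩⟩ :=
    S5472.result h.tt h.prim d h.mem h.h3 h.h2 h22
  have key : ∀ (τ : MulAut Spor.Fi22) (C : Subgroup Spor.Fi22), IsConj σ τ → (∀ g ∈ C, τ g = g) →
      Group.IsSolvable C := by
    intro τ C hc hC
    obtain ⟨c, rfl⟩ := isConj_iff.1 hc
    refine solv_le ?_ (solv_map c.toMonoidHom hs)
    refine fun g hg => ⟨c⁻¹ g, hH _ ?_, by simp⟩
    have h1 := hC g hg
    simp only [MulAut.mul_apply] at h1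
    apply c.injective
    rw [h1]
    simp
  have n1 : ¬ Group.IsSolvable ↥(Cs ⊓ centralizer ({a} : Set Spor.Fi22)) := fun h1 => by
    have h3 := solv_equiv e1 h1
    exact H961.CopSmall.ns_psp (E := ZMod 2) (m := 3) (by norm_num)
      (Group.isSolvable_of_surjective (f := MonoidHom.snd (Multiplicative (ZMod 2)) _) Prod.snd_surjective)
  rcases k2 σ (orderOf_eq_prime (by rw [pow_two, h2]) fun h1 => ho (h1 ▸ one_mem _)) ho with h1 | h1 | h1
  · exact n1 (key _ _ h1 fun g hg => (k1 g).1 hg.1)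
  · exact n1 (key _ _ h1 fun g hg => (k3 g).2 hg)
  · have h3 := key _ Cab h1 fun g hg => (k4 g).1 hg
    exact ns_o6 (solv_equiv e2 inferInstance)

variable {G : Type*} [Group G] {D : Set G} {d₀ : G}

/-- a product of `m` commuting transpositions -/
def Pm (D : Set G) (m : ℕ) (x : G) : Prop :=
  ∃ l : List G, l.Nodup ∧ l.length = m ∧ (∀ a ∈ l, a ∈ D) ∧ (∀ a ∈ l, ∀ b ∈ l, Commute a b) ∧ l.prod = x

theorem Pm.two {x : G} (h : Pm D 2 x) : ∃ a ∈ D, ∃ b ∈ D, a ≠ b ∧ Commute a b ∧ x = a * b := by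
  obtain ⟨l, h1, h2, h3, h4, rfl⟩ := h
  obtain ⟨a, b, rfl⟩ := List.length_eq_two.1 h2
  exact ⟨a, h3 a (by simp), b, h3 b (by simp), by simpa using h1, h4 a (by simp) b (by simp), by simp⟩

theorem pm_four {a b c d : G} (ha : a ∈ D) (hb : b ∈ D) (hc : c ∈ D) (hd : d ∈ D) (ab : a ≠ b) (ac : a ≠ c) (ad : a ≠ d)
    (bc : b ≠ c) (bd : b ≠ d) (cd : c ≠ d) (h1 : Commute a b) (h2 : Commute a c) (h3 : Commute a d) (h4 : Commute b c)
    (h5 : Commute b d) (h6 : Commute c d) : Pm D 4 (a * b * (c * d)) := by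
  refine ⟨[a, b, c, d], by simp [ab, ac, ad, bc, bd, cd], rfl, by simp [ha, hb, hc, hd], ?_, by simp [mul_assoc]⟩
  simp [h1, h2, h3, h4, h5, h6, h1.symm, h2.symm, h3.symm, h4.symm, h5.symm, h6.symm]

theorem zp_normal (L : Subgroup G) (t : G) : ((zpowers t).subgroupOf (L ⊓ centralizer {t})).Normal := by
  refine ⟨fun n hn g => ?_⟩
  obtain ⟨k, hk⟩ := mem_zpowers_iff.1 (mem_subgroupOf.1 hn)
  have h1 : Commute (g : G) n := hk ▸ (show Commute (g : G) t from mem_centralizer_singleton_iff.1 g.2.2).zpow_right k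
  rw [mem_subgroupOf]
  show (g : G) * n * (g : G)⁻¹ ∈ _
  rw [h1.eq, mul_inv_cancel_right]
  exact hn

/-- the situation -/
structure FiC (D : Set G) (d₀ : G) : Prop where
  hyp : Hyp D d₀
  type : IsOfTypeM24 G D
  idx : (commutator G).index = 2
  seven : ∃ a : Fin 7 → G, Function.Injective a ∧ (∀ i, a i ∈ D) ∧ ∀ i j, Commute (a i) (a j)

namespace FiC

variable [Finite G] (C : FiC D d₀)
include C

theorem sq {a : G} (ha : a ∈ D) : a * a = 1 := by rw [← pow_two, ← C.hyp.tt.1.1 a ha, pow_orderOf_eq_one]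

theorem not_mem {a : G} (ha : a ∈ D) : a ∉ commutator G := by
  intro h
  have h1 : commutator G = ⊤ := by
    rw [eq_top_iff, ← C.hyp.tt.2.2, closure_le]
    intro b hb
    obtain ⟨g, rfl⟩ := C.hyp.prim.1 a ha b hb
    exact (inferInstance : (commutator G).Normal).conj_mem a h g
  have h2 := C.idx
  rw [h1, index_top] at h2
  omega

theorem mul_mem' {a b : G} (ha : a ∈ D) (hb : b ∈ D) : a * b ∈ commutator G :=
  (mul_mem_iff_of_index_two C.idx).2 (iff_of_false (C.not_mem ha) (C.not_mem hb))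

theorem types {t : G} (ht : t ∈ commutator G) (h2 : t * t = 1) (h1 : t ≠ 1) : Pm D 2 t ∨ Pm D 4 t := by
  have _ : Fact (Nat.Prime 2) := ⟨Nat.prime_two⟩
  obtain ⟨m, k1, k2, l, hl⟩ := (S5400.result C.hyp.tt C.hyp.prim d₀ C.hyp.mem C.hyp.h3 C.hyp.h2 C.type).1 t
    (orderOf_eq_prime (by rw [pow_two, h2]) h1)
  interval_cases m
  · obtain ⟨a, rfl⟩ := List.length_eq_one_iff.1 hl.2.1
    refine absurd ?_ (C.not_mem (hl.2.2.1 a (by simp)))
    rw [← hl.2.2.2.2] at ht
    simpa using ht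
  · exact Or.inl ⟨l, hl⟩
  · obtain ⟨a, b, c, rfl⟩ := List.length_eq_three.1 hl.2.1
    refine absurd ?_ (C.not_mem (hl.2.2.1 a (by simp)))
    rw [← hl.2.2.2.2] at ht
    have h3 : a * (b * c) ∈ commutator G := by simpa using ht
    exact (mul_mem_cancel_right (C.mul_mem' (hl.2.2.1 b (by simp)) (hl.2.2.1 c (by simp)))).1 h3
  · exact Or.inr ⟨l, hl⟩

theorem conj4 {x y : G} (hx : Pm D 4 x) (hy : Pm D 4 y) : IsConj x y :=
  ((S5400.result C.hyp.tt C.hyp.prim d₀ C.hyp.mem C.hyp.h3 C.hyp.h2 C.type).2.1 4 (by norm_num) le_rfl).2 x y hx hy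

/-- the centraliser of an involution -/
theorem cent {t : G} (ht : t ∈ commutator G) (h2 : t * t = 1) (h1 : t ≠ 1) :
    ¬ Group.IsSolvable ↥(commutator G ⊓ centralizer {t}) := by
  intro hs
  rcases C.types ht h2 h1 with h | ⟨l, hl⟩
  · obtain ⟨a, ha, b, hb, hab, hc, rfl⟩ := h.two
    have hn := zp_normal (commutator G) (a * b)
    obtain ⟨k1, -, k2, -⟩ := S5465.result C.hyp.tt C.hyp.prim d₀ C.hyp.mem C.hyp.h3 C.hyp.h2 C.type _ rfl a b ha hb hab hc
      _ _ rfl rfl
    exact quasisimple_not_solvable k1 (solv_le k2 hs)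
  · obtain ⟨Q, _, -, -, -, N, M, _, _, -, -, -, ⟨K, _, _, hK, ⟨e⟩⟩, -⟩ :=
      S5467.result C.hyp.tt C.hyp.prim d₀ C.hyp.mem C.hyp.h3 C.hyp.h2 C.type _ rfl t l hl _ rfl
    have h3 := H961.CopSmall.ns_psu (q := 3) hK (n := 4) (by norm_num) (solv_equiv e inferInstance)
    omega

theorem braid {a e : G} (ha : a ∈ D) (he : e ∈ D) (h : ¬ Commute e a) : e * a * e = a * e * a := by
  have k1 := C.sq ha
  have k2 := C.sq he
  have i1 := inv_eq_of_mul_eq_one_right k1
  have i2 := inv_eq_of_mul_eq_one_right k2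
  rcases C.hyp.tt.1.2 e he a ha with h1 | h1
  · refine absurd ?_ h
    calc e * a = (e * a)⁻¹ := (inv_eq_of_mul_eq_one_right (by rw [← pow_two, h1])).symm
      _ = a * e := by rw [mul_inv_rev, i1, i2]
  · calc e * a * e = (a * e * a)⁻¹ := (inv_eq_of_mul_eq_one_left (by rw [← h1, pow_three]; group)).symm
      _ = a * e * a := by rw [mul_inv_rev, mul_inv_rev, i1, i2, mul_assoc]

theorem comm_of_prod {a e f : G} (ha : a ∈ D) (he : e ∈ D) (hf : f ∈ D) (hef : e ≠ f)
    (h : e * f * a = a * (e * f)) : Commute e a := by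
  by_contra h1
  have k1 := C.sq ha
  have k2 := C.sq he
  have k3 := C.sq hf
  have h2 : f * a * f = e * a * e := by
    calc f * a * f = e * e * f * a * f := by rw [k2, one_mul]
      _ = e * (e * f * a) * f := by group
      _ = e * a * e * (f * f) := by rw [h]; group
      _ = _ := by rw [k3, mul_one]
  by_cases h3 : Commute f a
  · rw [h3.eq, mul_assoc, k3, mul_one] at h2
    apply h1
    calc e * a = e * (e * a * e) := by rw [← h2]
      _ = e * e * a * e := by group
      _ = a * e := by rw [k2, one_mul]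
  · rw [C.braid ha hf h3, C.braid ha he h1] at h2
    exact hef (mul_left_cancel (mul_right_cancel h2)).symm

theorem share {a b c : G} (ha : a ∈ D) (hb : b ∈ D) (hc : c ∈ D) (ab : a ≠ b) (ac : a ≠ c) (bc : b ≠ c)
    (h1 : Commute a b) (h2 : Commute a c) (h3 : Commute b c) {H : Subgroup G}
    (hH : ∀ g ∈ commutator G, g * (a * b) = a * b * g → g * (a * c) = a * c * g → g ∈ H) : ¬ Group.IsSolvable H := by
  intro hs
  obtain ⟨k1, -, k2, -⟩ := S5466.result C.hyp.tt C.hyp.prim d₀ C.hyp.mem C.hyp.h3 C.hyp.h2 C.type _ rfl a b c ha hb hc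
    ab ac bc h1 h2 h3 _ _ _ rfl rfl rfl
  rw [k2] at k1
  exact quasisimple_not_solvable k1 (solv_le (fun g hg => hH g hg.1
    (mem_cent.1 hg.2 _ (subset_closure (by simp))) (mem_cent.1 hg.2 _ (subset_closure (by simp)))) hs)

/-- an involution exchanging the two factors -/
theorem swap {a b d : G} (ha : a ∈ D) (hb : b ∈ D) (ab : a ≠ b) (h1 : Commute a b) (hd : d ∈ commutator G)
    (d2 : d * d = 1) (hc : d * (a * b) = a * b * d) (hn : d * a ≠ a * d) {H : Subgroup G}
    (hH : ∀ g ∈ commutator G, g * (a * b) = a * b * g → (g * d * g⁻¹ = d ∨ g * d * g⁻¹ = a * b * d) → g ∈ H) :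
    ¬ Group.IsSolvable H := by
  intro hs
  have _ := zp_normal (commutator G) (a * b)
  have _ : Finite Spor.Fi22 := Nat.finite_of_card_ne_zero (by rw [R01.Fi22Facts.card]; norm_num)
  have _ := R01.Fi22Facts.isSimple
  have t2 : a * b * (a * b) = 1 := by
    rw [mul_assoc, ← mul_assoc b, ← h1.eq, mul_assoc a, C.sq hb, mul_one, C.sq ha]
  obtain ⟨-, -, -, k1, k2, ⟨e⟩⟩ := S5465.result C.hyp.tt C.hyp.prim d₀ C.hyp.mem C.hyp.h3 C.hyp.h2 C.type _ rfl a b ha hb
    ab h1 _ _ rfl rfl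
  let φ := e.toMonoidHom.comp (QuotientGroup.mk' _)
  have hφ : Function.Surjective φ := e.surjective.comp (QuotientGroup.mk'_surjective _)
  have hk : ∀ x y, φ x = φ y → (y : G) = x ∨ (y : G) = x * (a * b) := fun x y h => by
    have h0 := e.injective h
    rw [QuotientGroup.mk'_apply, QuotientGroup.mk'_apply, QuotientGroup.eq] at h0
    have h2 : (x⁻¹ * y : G) ∈ zpowers (a * b) := mem_subgroupOf.1 h0
    rcases mem_zp t2 h2 with h3 | h3
    · exact Or.inl (inv_mul_eq_one.1 h3).symm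
    · exact Or.inr (inv_mul_eq_iff_eq_mul.1 h3)
  let d' : ↥(commutator G ⊓ centralizer {a * b}) := ⟨d, hd, mem_centralizer_singleton_iff.2 hc⟩
  have hnc : ¬ IsMulCommutative Spor.Fi22 := Mon.nc_of_card (by rw [R01.Fi22Facts.card]; norm_num)
  refine outer22 (σ := φ d') (H := ((H.subgroupOf _).map φ).comap MulAut.conj)
    (by rw [← map_mul, show d' * d' = 1 from Subtype.ext d2, map_one]) ?_ (fun g hg => ?_) ?_
  · rintro ⟨g, hg⟩
    let I := ((commutator G ⊓ centralizer {a, b}).subgroupOf (commutator G ⊓ centralizer {a * b})).map φ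
    have hI : I.index = 2 := by
      rw [index_map, sup_eq_left.2, k1, MonoidHom.range_eq_top.2 hφ, index_top]
      intro x hx
      rcases hk 1 x (by rw [map_one]; exact hx.symm) with h | h <;> rw [mem_subgroupOf, h]
      · exact one_mem _
      · exact mul_mem (one_mem _) k2
    have hIn := normal_of_index_eq_two hI
    rcases (hIn.comap MulAut.conj).eq_bot_or_eq_top with h | h
    · refine hnc ⟨⟨fun x y => ?_⟩⟩
      have h2 : ∀ z : Spor.Fi22, z⁻¹ = z := fun z => inv_eq_of_mul_eq_one_right (by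
        rw [← mem_bot, ← h, mem_comap, map_mul]
        exact mul_self_mem_of_index_two hI _)
      rw [← h2 (x * y), mul_inv_rev, h2, h2]
    · obtain ⟨x, hx, hxg⟩ : MulAut.conj g ∈ I := by rw [← mem_comap, h]; exact mem_top g
      have h2 : d ∈ commutator G ⊓ centralizer {a, b} := by
        rcases hk x d' (hxg.trans hg) with h3 | h3
        · exact (show d = x from h3) ▸ hx
        · exact (show d = x * (a * b) from h3) ▸ mul_mem hx k2
      exact hn (mem_centralizer_iff.1 h2.2 a (by simp)).symm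
  · obtain ⟨x, hx⟩ := hφ (MulAut.conj g)
    refine ⟨x, hH x x.2.1 (mem_centralizer_singleton_iff.1 x.2.2) ?_, hx⟩
    have h2 : φ d' = φ (x * d' * x⁻¹) := by
      rw [map_mul, map_mul, map_inv, hx, eq_mul_inv_iff_mul_eq]
      ext z
      simp [hg]
    exact (hk _ _ h2).imp_right fun h => h.trans hc
  · have h2 : Group.IsSolvable ↥(H.subgroupOf (commutator G ⊓ centralizer {a * b})) :=
      Group.isSolvable_of_isSolvable_injective (G' := H) (f := (((Subgroup.subtype _).comp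
        (Subgroup.subtype _)).codRestrict H fun x => x.2)) fun x y h => by
          have h3 := congrArg Subtype.val h
          exact Subtype.ext (Subtype.ext h3)
    have h3 := solv_map φ h2
    exact Group.isSolvable_of_isSolvable_injective (G' := ↥((H.subgroupOf _).map φ))
      (f := ((MulAut.conj.comp (Subgroup.subtype _)).codRestrict _ fun x => x.2)) fun x y h => by
        have h3 := congrArg Subtype.val h
        exact Subtype.ext (conj_injective hnc h3)

/-- **The four-groups without elements of the class 2B.** -/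
theorem four {t d : G} (ht : Pm D 2 t) (hd : Pm D 2 d) (h4 : ¬ Pm D 4 (t * d)) (hc : t * d = d * t) (hne : d ≠ t)
    {H : Subgroup G} (hH : ∀ g ∈ commutator G, g * t = t * g → (g * d * g⁻¹ = d ∨ g * d * g⁻¹ = t * d) → g ∈ H) :
    ¬ Group.IsSolvable H := by
  obtain ⟨a, ha, b, hb, ab, h1, rfl⟩ := ht.two
  obtain ⟨e, he, f, hf, ef, h2, rfl⟩ := hd.two
  by_cases h : e * f * a = a * (e * f)
  swap
  · refine C.swap ha hb ab h1 (C.mul_mem' he hf) ?_ hc.symm h hH
    rw [mul_assoc, ← mul_assoc f, ← h2.eq, mul_assoc e, C.sq hf, mul_one, C.sq he]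
  have h' : e * f * b = b * (e * f) := mul_left_cancel (a := a) (by rw [← mul_assoc, ← h, mul_assoc _ a, ← hc, mul_assoc])
  have ea := C.comm_of_prod ha he hf ef h
  have eb := C.comm_of_prod hb he hf ef h'
  have fa := C.comm_of_prod ha hf he ef.symm (h2.eq ▸ h)
  have fb := C.comm_of_prod hb hf he ef.symm (h2.eq ▸ h')
  have hH' : ∀ g ∈ commutator G, g * (a * b) = a * b * g → g * (e * f) = e * f * g → g ∈ H := fun g k1 k2 k3 =>
    hH g k1 k2 (Or.inl (by rw [k3]; group))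
  by_cases ae : a = e
  · subst ae
    exact C.share ha hb hf ab ef (fun k => hne (k ▸ rfl)) h1 h2 fb.symm hH'
  by_cases af : a = f
  · subst af
    exact C.share ha hb he ab ae (fun k => hne (k ▸ h2.eq)) h1 h2.symm eb.symm (h2.eq ▸ hH')
  by_cases be : b = e
  · subst be
    exact C.share hb ha hf ab.symm ef af h1.symm h2 fa.symm (h1.eq ▸ hH')
  by_cases bf : b = f
  · subst bf
    exact C.share hb ha he ab.symm be ae h1.symm h2.symm ea.symm (h1.eq ▸ h2.eq ▸ hH')
  exact absurd (pm_four ha hb he hf ab ae af be bf ef h1 ea.symm fa.symm eb.symm fb.symm h2) h4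

/-- a pure group of order eight -/
theorem eight : ∃ x ∈ commutator G, ∃ y ∈ commutator G, ∃ w ∈ commutator G, x * x = 1 ∧ y * y = 1 ∧ w * w = 1 ∧
    x * y = y * x ∧ x * w = w * x ∧ y * w = w * y ∧ Pm D 4 x ∧ Pm D 4 y ∧ Pm D 4 w ∧ Pm D 4 (x * y) ∧ Pm D 4 (x * w) ∧
    Pm D 4 (y * w) ∧ Pm D 4 (x * (y * w)) := by
  obtain ⟨a, h1, h2, h3⟩ := C.seven
  have hc : ∀ i j, a i * a j = a j * a i := fun i j => (h3 i j).eq
  have hl : ∀ i j x, a i * (a j * x) = a j * (a i * x) := fun i j x => (h3 i j).left_comm x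
  have hs : ∀ i, a i * a i = 1 := fun i => C.sq (h2 i)
  have hs' : ∀ i x, a i * (a i * x) = x := fun i x => by rw [← mul_assoc, hs, one_mul]
  have p : ∀ i j k l, i < j → j < k → k < l → Pm D 4 (a i * a j * (a k * a l)) := fun i j k l k1 k2 k3 =>
    pm_four (h2 i) (h2 j) (h2 k) (h2 l) (h1.ne (by omega)) (h1.ne (by omega)) (h1.ne (by omega)) (h1.ne (by omega))
      (h1.ne (by omega)) (h1.ne (by omega)) (h3 _ _) (h3 _ _) (h3 _ _) (h3 _ _) (h3 _ _) (h3 _ _)
  have m : ∀ i j k l, a i * a j * (a k * a l) ∈ commutator G := fun i j k l =>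
    mul_mem (C.mul_mem' (h2 i) (h2 j)) (C.mul_mem' (h2 k) (h2 l))
  refine ⟨_, m 0 1 2 3, _, m 2 3 4 5, _, m 0 2 4 6, ?_, ?_, ?_, ?_, ?_, ?_, p 0 1 2 3 (by decide) (by decide) (by decide),
    p 2 3 4 5 (by decide) (by decide) (by decide), p 0 2 4 6 (by decide) (by decide) (by decide), ?_, ?_, ?_, ?_⟩
  iterate 6 simp only [mul_assoc, hc, hl, hs, hs', mul_one]
  · convert p 0 1 4 5 (by decide) (by decide) (by decide) using 1
    simp only [mul_assoc, hc, hl, hs, hs', mul_one]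
  · convert p 1 3 4 6 (by decide) (by decide) (by decide) using 1
    simp only [mul_assoc, hc, hl, hs, hs', mul_one]
  · convert p 0 3 5 6 (by decide) (by decide) (by decide) using 1
    simp only [mul_assoc, hc, hl, hs, hs', mul_one]
  · convert p 1 2 5 6 (by decide) (by decide) (by decide) using 1
    simp only [mul_assoc, hc, hl, hs, hs', mul_one]

end FiC

theorem exists_fiC : ∃ d₀, FiC R08.FiTwentyFour.L d₀ := by
  have := R08.FiTwentyFour.finite_Fi24
  obtain ⟨d, h1, h2⟩ := hyp24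
  obtain ⟨-, h3, -⟩ := H830.Transp.fi24 (MulEquiv.refl Spor.Fi24)
  have h0 : (MulEquiv.refl Spor.Fi24) '' R08.FiTwentyFour.L = R08.FiTwentyFour.L := Set.image_id _
  rw [h0] at h3
  obtain ⟨E, k1, k2, k3, k4⟩ := (H809.Width.hasWidth_T8 h3).ex
  obtain ⟨f⟩ : Nonempty (Fin 7 ↪ E) := by
    have _ := Fintype.ofFinite E
    apply Function.Embedding.nonempty_of_card_le
    rw [Fintype.card_fin, ← Nat.card_eq_fintype_card, Nat.card_coe_set_eq, k4]
    norm_num
  exact ⟨d, h1, h2, R08.FiTwentyFour.index_commutator, fun i => f i, Subtype.val_injective.comp f.injective,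
    fun i => k1 (f i).2, fun i j => k3 _ (f i).2 _ (f j).2⟩

end Cfsg.Agent.SB.SporB
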