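import Cfsg.Agent.SB.SporB.Gen
import Cfsg.Agent.R2.M7.MainC

/-!
# S5765, the large sporadic groups: the 2-local geometry, abstract part (helper18)

`Ext Γ` : the facts on the geometry of the Monster used here.  `NS`, `pairNS`, `lineNS` : non-solvable subgroups.
`sit` : a 2-subgroup containing its centraliser.  `noM` : the 2-local subgroups of `M`; `noB` : those of `C(t)`.
-/

set_option autoImplicit false
set_option linter.unusedSectionVars false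

namespace Cfsg.Agent.SB.SporB

open Subgroup Cfsg Cfsg.Agent.Co2Type.Quad
open Cfsg.Agent.H251 (omegaCenterOf_ne_bot mem_omegaCenterOf pCoreOf_isPGroup le_pCoreOf le_normalizer_pCoreOf
  normalizer_le_normalizer_omegaCenterOf pCoreOf_le)
open Cfsg.Agent.R2.M7 Cfsg.Agent.R2.M7.Geo Cfsg.Agent.R2.M7.Elem Cfsg.Agent.R2.M7.Ark

variable {G : Type*} [Group G]

/-- an involution which is not a point -/
def IsA (Γ : Geo G) (a : G) : Prop := a * a = 1 ∧ a ≠ 1 ∧ a ∉ Γ.Pt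

/-- the facts -/
structure Ext (Γ : Geo G) : Prop where
  F : Γ.Facts
  large : ∀ x ∈ Γ.Pt, Large (Γ.QQ x) x
  syl : ∀ T : Subgroup G, IsPGroup 2 T → ∃ c ∈ Γ.Pt, ∀ t ∈ T, t * c = c * t
  QO : ∀ O ∈ Γ.Ark, ∀ v ∈ O, v ∈ Γ.Pt → ∀ q ∈ Γ.QQ v, ∀ a ∈ O, q * a * q⁻¹ ∈ O
  CO : ∀ O ∈ Γ.Ark, ∀ v ∈ O, v ∈ Γ.Pt → ∀ s, (∀ q ∈ CC O, q ∈ Γ.QQ v → q * s = s * q) → s ∈ O
  big : ∀ O ∈ Γ.Ark, ∃ V ≤ O, Γ.Sing V ∧ Nat.card V = 32
  ark : ∃ O, O ∈ Γ.Ark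
  pair : ∀ x ∈ Γ.Pt, ∀ y ∈ Γ.Pt, y ∈ Γ.QQ x → y ≠ x → ∀ x' ∈ Γ.Pt, ∀ y' ∈ Γ.Pt, y' ∈ Γ.QQ x' → y' ≠ x' →
    ∃ g : G, g * x * g⁻¹ = x' ∧ g * y * g⁻¹ = y'
  line4 : ∀ x ∈ Γ.Pt, ∀ y ∈ Γ.Pt, y ∈ Γ.QQ x → y ≠ x → ∀ t ∈ Γ.QQ x, t ∈ Γ.QQ y → IsA Γ t →
    ∃ O ∈ Γ.Ark, x ∈ O ∧ y ∈ O ∧ t ∈ CC O ∧ t ∉ O
  conjA : ∀ a b : G, IsA Γ a → IsA Γ b → ∃ g : G, g * a * g⁻¹ = b
  pairA : ∀ t d t' d' : G, IsA Γ t → IsA Γ d → IsA Γ (t * d) → t * d = d * t →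
    IsA Γ t' → IsA Γ d' → IsA Γ (t' * d') → t' * d' = d' * t' → ∃ g : G, g * t * g⁻¹ = t' ∧ g * d * g⁻¹ = d'
  pureA : ∀ t d s : G, IsA Γ t → IsA Γ d → IsA Γ s → IsA Γ (t * d) → IsA Γ (t * s) → IsA Γ (d * s) →
    IsA Γ (t * (d * s)) → t * d = d * t → t * s = s * t → d * s = s * d → False
  four : ∃ t, IsA Γ t ∧ ∃ w : Fin 4 → G, ∀ u, u * u = 1 → u ≠ 1 → u ≠ t → u * t = t * u →
    ∃ i g, g * t = t * g ∧ g * w i * g⁻¹ = u

variable [Finite G] {Γ : Geo G}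

theorem kap_mul (a b : G) : Γ.kap (a * b) = Γ.kap a + Γ.kap b + Γ.bet a b := by
  unfold Geo.bet
  generalize Γ.kap (a * b) = x
  generalize Γ.kap a = y
  generalize Γ.kap b = z
  revert x y z; decide

theorem sing_comm (B : Γ.Basic) {V : Subgroup G} (hV : Γ.Sing V) : ∀ a ∈ V, ∀ b ∈ V, a * b = b * a := by
  intro a ha b hb
  by_cases h : b = 1
  · rw [h, mul_one, one_mul]
  · exact B.QQ_comm b (hV.1 b hb h) a (hV.2 b hb h a ha)

theorem sing_sq (B : Γ.Basic) {V : Subgroup G} (hV : Γ.Sing V) : ∀ a ∈ V, a * a = 1 := by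
  intro a ha
  by_cases h : a = 1
  · rw [h, mul_one]
  · exact B.pt_sq a (hV.1 a ha h)

theorem two_of_sq {V : Subgroup G} (h : ∀ a ∈ V, a * a = 1) : IsPGroup 2 V :=
  H251.isPGroup_of_pow_two fun x hx => by rw [pow_two]; exact h x hx

theorem sing_le {V W : Subgroup G} (hV : Γ.Sing V) (h : W ≤ V) : Γ.Sing W :=
  ⟨fun x hx => hV.1 x (h hx), fun x hx h1 y hy => hV.2 x (h hx) h1 y (h hy)⟩

theorem sing_cj (B : Γ.Basic) {V : Subgroup G} (hV : Γ.Sing V) (g : G) : Γ.Sing (cj g V) := by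
  have hne : ∀ x : G, g * x * g⁻¹ ≠ 1 → x ≠ 1 := fun x h h1 => h (by rw [h1]; group)
  constructor
  · rintro _ ⟨x, hx, rfl⟩ h1
    exact B.pt_conj x (hV.1 x hx (hne x h1)) g
  · rintro _ ⟨x, hx, rfl⟩ h1 _ ⟨y, hy, rfl⟩
    exact B.QQ_conj x (hV.1 x hx (hne x h1)) g y (hV.2 x hx (hne x h1) y hy)

theorem card_cj (g : G) (V : Subgroup G) : Nat.card (cj g V) = Nat.card V :=
  card_map_of_injective (MulAut.conj g).injective

theorem isA_conj (B : Γ.Basic) {a : G} (ha : IsA Γ a) (g : G) : IsA Γ (g * a * g⁻¹) := by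
  refine ⟨?_, fun h => ha.2.1 ?_, fun h => ha.2.2 ((conj_pt B g).1 h)⟩
  · calc g * a * g⁻¹ * (g * a * g⁻¹) = g * (a * a) * g⁻¹ := by group
      _ = 1 := by rw [ha.1]; group
  · calc a = g⁻¹ * (g * a * g⁻¹) * g := by group
      _ = 1 := by rw [h]; group

theorem isA_of_kap {a : G} (h2 : a * a = 1) (h : Γ.kap a = 1) : IsA Γ a := by
  have h1 : ¬ (a = 1 ∨ a ∈ Γ.Pt) := fun h1 => by
    rw [kap_eq_zero.2 h1] at h
    exact zero_ne_one h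
  exact ⟨h2, fun h => h1 (Or.inl h), fun h => h1 (Or.inr h)⟩

theorem kap_of_isA {a : G} (h : IsA Γ a) : Γ.kap a = 1 :=
  (Ark.two_cases _).resolve_left fun h1 => (kap_eq_zero.1 h1).elim h.2.1 h.2.2

theorem conj_Q {Q : Subgroup G} {u : G} (h : Large Q u) {d v : G} (hd : d ∈ Q) (hv : v ∈ Q) :
    d * v * d⁻¹ = v ∨ d * v * d⁻¹ = v * u := by
  rcases h.comm d hd v hv with h1 | h1
  · left; rw [h1]; group
  · right
    rw [h1, mul_assoc v, h.comm_z d hd]; group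

/-- the elements of `Q_u` normalise a singular subgroup containing `u` -/
theorem Q_norm (E : Ext Γ) {V : Subgroup G} (hV : Γ.Sing V) {u : G} (hu : u ∈ V) (hu1 : u ≠ 1) {d : G}
    (hd : d ∈ Γ.QQ u) : ∀ v ∈ V, d * v * d⁻¹ ∈ V := by
  intro v hv
  rcases conj_Q (E.large u (hV.1 u hu hu1)) hd (hV.2 u hu hu1 v hv) with h | h <;> rw [h]
  exacts [hv, mul_mem hv hu]

/-- **Transvections centralising `A`.** -/
theorem NS (E : Ext Γ) {H V L A : Subgroup G} (hV : Γ.Sing V) (hL : L ≤ V) (hc : 8 * Nat.card L ≤ Nat.card V)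
    (hA : ∀ u ∈ V, u ≠ 1 → A ≤ Γ.QQ u) (hAV : ∀ a ∈ A, a ∈ V → a = 1)
    (hH : ∀ u ∈ V, u ≠ 1 → ∀ d ∈ Γ.QQ u, (∀ a ∈ A, d * a = a * d) → (∀ l ∈ L, d * l = l * d) → d ∈ H) :
    ¬ Group.IsSolvable H := by
  have B := E.F.basic
  refine not_solvable_of_transv (sing_comm B hV) (sing_sq B hV) hL hc fun u hu huL => ?_
  have hu1 : u ≠ 1 := fun h => huL (h ▸ L.one_mem)
  have hL' := E.large u (hV.1 u hu hu1)
  refine ⟨Γ.QQ u ⊓ centralizer (A : Set G), fun d hd hl => hH u hu hu1 d hd.1 (mem_cent.1 hd.2) hl,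
    fun d hd v hv => conj_Q hL' hd.1 (hV.2 u hu hu1 v hv), fun d hd => hL'.comm_z d hd.1, fun v hv h => ?_⟩
  rcases perp_perp hL' (hA u hu hu1) (hV.2 u hu hu1 v hv) (fun q hq hqa => h q ⟨hq, mem_cent.2 hqa⟩) with h1 | h1
  · exact Or.inl (hAV v h1 hv)
  · right
    have h2 := hAV _ h1 (mul_mem hv hu)
    calc v = v * (u * u) := by rw [hL'.z_sq, mul_one]
      _ = u := by rw [← mul_assoc, h2, one_mul]

theorem mem_zp {t a : G} (ht : t * t = 1) (ha : a ∈ zpowers t) : a = 1 ∨ a = t := by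
  obtain ⟨k, rfl⟩ := mem_zpowers_iff.1 ha
  have h2 : t ^ (2 : ℤ) = 1 := by rw [zpow_ofNat, pow_two, ht]
  rcases Int.even_or_odd' k with ⟨m, rfl | rfl⟩
  · left; rw [zpow_mul, h2, one_zpow]
  · right; rw [zpow_add, zpow_mul, h2, one_zpow, one_mul, zpow_one]

/-- `NS` for `A = ⟨t⟩` -/
theorem NSt (E : Ext Γ) {H V L : Subgroup G} {t : G} (ht : IsA Γ t) (hV : Γ.Sing V) (hL : L ≤ V)
    (hc : 8 * Nat.card L ≤ Nat.card V) (hA : ∀ u ∈ V, u ≠ 1 → t ∈ Γ.QQ u)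
    (hH : ∀ u ∈ V, u ≠ 1 → ∀ d ∈ Γ.QQ u, d * t = t * d → (∀ l ∈ L, d * l = l * d) → d ∈ H) : ¬ Group.IsSolvable H := by
  refine NS E (A := zpowers t) hV hL hc (fun u hu h1 => zpowers_le.2 (hA u hu h1)) (fun a ha haV => ?_)
    fun u hu h1 d hd h2 => hH u hu h1 d hd (h2 t (mem_zpowers t))
  rcases mem_zp ht.1 ha with h | rfl
  · exact h
  · exact absurd (hV.1 a haV ht.2.1) ht.2.2

/-- the points `v` of a singular subgroup with `t ∈ Q_v` -/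
def allSub (B : Γ.Basic) {V : Subgroup G} (hV : Γ.Sing V) (t : G) : Subgroup G where
  carrier := {v | v ∈ V ∧ (v = 1 ∨ t ∈ Γ.QQ v)}
  one_mem' := ⟨V.one_mem, Or.inl rfl⟩
  mul_mem' := by
    rintro a b ⟨ha, ha'⟩ ⟨hb, hb'⟩
    refine ⟨mul_mem ha hb, ?_⟩
    by_cases ha1 : a = 1
    · rw [ha1, one_mul]; exact hb'
    by_cases hb1 : b = 1
    · rw [hb1, mul_one]; exact ha'
    by_cases hab : a * b = 1
    · exact Or.inl hab
    exact Or.inr (sing_mul B (hV.1 a ha ha1) (hV.1 b hb hb1) (hV.2 a ha ha1 b hb) (ha'.resolve_left ha1)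
      (hb'.resolve_left hb1) hab)
  inv_mem' := by
    rintro a ⟨ha, ha'⟩
    rw [inv_eq_of_mul_eq_one_right (sing_sq B hV a ha)]
    exact ⟨ha, ha'⟩

theorem mem_allSub {B : Γ.Basic} {V : Subgroup G} {hV : Γ.Sing V} {t v : G} :
    v ∈ allSub B hV t ↔ v ∈ V ∧ (v = 1 ∨ t ∈ Γ.QQ v) := Iff.rfl

theorem allSub_le {B : Γ.Basic} {V : Subgroup G} {hV : Γ.Sing V} {t : G} : allSub B hV t ≤ V := fun _ h => h.1

/-- index at most two -/
theorem card_allSub (E : Ext Γ) {O V : Subgroup G} (hO : O ∈ Γ.Ark) (hV : Γ.Sing V) (hVO : V ≤ O) {t : G}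
    (ht : ∀ v ∈ V, v ≠ 1 → t ∈ Γ.KK O v) : Nat.card V ≤ 2 * Nat.card (allSub E.F.basic hV t) := by
  obtain ⟨R, hR, hRV, h⟩ := exists_R E.F.basic E.F.ark hO hVO hV.1 hV.2 ht
  have e : R = allSub E.F.basic hV t := Subgroup.ext fun q => hR q
  have h1 := le_two h
  rwa [inf_eq_right.2 hRV, e] at h1

/-- a line as a subgroup -/
theorem exists_line {V : Subgroup G} (hc : ∀ a ∈ V, ∀ b ∈ V, a * b = b * a) (hs : ∀ a ∈ V, a * a = 1) {x y : G}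
    (hx : x ∈ V) (hy : y ∈ V) : ∃ L ≤ V, x ∈ L ∧ y ∈ L ∧ Nat.card L ≤ 4 ∧
      ∀ a ∈ L, a = 1 ∨ a = x ∨ a = y ∨ a = x * y := by
  have key : ∀ a b c : G, b * b = 1 → b * a = c → a = b * c := fun a b c h1 h2 => by
    rw [← h2, ← mul_assoc, h1, one_mul]
  obtain ⟨D₁, h1, -, h2, h3, -⟩ := exists_adj (D := ⊥) (hs x hx) (fun a ha => by rw [mem_bot.1 ha, mul_one, one_mul])
  have h4 : ∀ a ∈ D₁, a = 1 ∨ a = x := fun a ha => by
    rcases (h1 a).1 ha with h | h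
    · exact Or.inl (mem_bot.1 h)
    · exact Or.inr ((key a x 1 (hs x hx) (mem_bot.1 h)).trans (mul_one x))
  obtain ⟨D₂, k1, k2, k3, k4, -⟩ := exists_adj (D := D₁) (hs y hy) (fun a ha => by
    rcases h4 a ha with rfl | rfl
    · rw [mul_one, one_mul]
    · exact hc y hy a hx)
  have h5 : ∀ a ∈ D₂, a = 1 ∨ a = x ∨ a = y ∨ a = x * y := fun a ha => by
    rcases (k1 a).1 ha with h | h
    · rcases h4 a h with h | h
      exacts [Or.inl h, Or.inr (Or.inl h)]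
    · rcases h4 _ h with h | h
      · exact Or.inr (Or.inr (Or.inl ((key a y 1 (hs y hy) h).trans (mul_one y))))
      · exact Or.inr (Or.inr (Or.inr ((key a y x (hs y hy) h).trans (hc y hy x hx))))
  rw [card_bot] at h3
  refine ⟨D₂, fun a ha => ?_, k2 h2, k3, by omega, h5⟩
  rcases h5 a ha with rfl | rfl | rfl | rfl
  exacts [V.one_mem, hx, hy, mul_mem hx hy]

theorem comm_four {d x y a : G} (hx : d * x = x * d) (hy : d * y = y * d) (h : a = 1 ∨ a = x ∨ a = y ∨ a = x * y) :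
    d * a = a * d := by
  rcases h with rfl | rfl | rfl | rfl
  · rw [mul_one, one_mul]
  · exact hx
  · exact hy
  · rw [← mul_assoc, hx, mul_assoc, hy, mul_assoc]

/-- the examples in an ark -/
theorem exists_ex (E : Ext Γ) : ∃ O ∈ Γ.Ark, ∃ v ∈ O, ∃ w ∈ O, ∃ p ∈ O, ∃ a ∈ O, v ∈ Γ.Pt ∧ w ∈ Γ.Pt ∧ p ∈ Γ.Pt ∧
    Γ.kap (v * w) = 1 ∧ Γ.kap (v * w * p) = 1 ∧ Γ.kap (v * a) = 1 ∧ Γ.kap (w * a) = 1 := by
  have B := E.F.basic
  have A := E.F.ark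
  obtain ⟨O, hO⟩ := E.ark
  obtain ⟨V, hVO, hV, hc⟩ := E.big O hO
  obtain ⟨v, hv, hv1⟩ := exists_ne_one (E := V) (by omega)
  have hvp := hV.1 v hv hv1
  have hvO := hVO hv
  have self : ∀ x ∈ O, Γ.bet x x = 0 := fun x hx => by
    unfold Geo.bet
    rw [A.sq O hO x hx, kap_one, zero_add, Ark.add_self]
  obtain ⟨w, hw, hwp, hwv⟩ : ∃ w ∈ O, w ∈ Γ.Pt ∧ Γ.bet w v = 1 := by
    obtain ⟨b, hb, hbv⟩ := A.bet_nondeg O hO v hvO hv1
    have hne : ∀ x, Γ.bet x v = 1 → x ≠ 1 := fun x h h1 => by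
      rw [h1, bet_one_left] at h
      exact zero_ne_one h
    rcases Ark.two_cases (Γ.kap b) with h | h
    · exact ⟨b, hb, (kap_eq_zero.1 h).resolve_left (hne b hbv), hbv⟩
    · have h1 : Γ.bet (b * v) v = 1 := by rw [A.bet_mul O hO b hb v hvO v hvO, hbv, self v hvO, add_zero]
      refine ⟨b * v, mul_mem hb hvO, (kap_eq_zero.1 ?_).resolve_left (hne _ h1), h1⟩
      rw [kap_mul, h, kap_pt hvp, hbv]; decide
  have h1 := card_allSub E hO hV hVO (t := w) fun _ _ _ => O_le_KK hw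
  obtain ⟨p, hp, hp1⟩ := exists_ne_one (E := allSub B hV w) (by omega)
  have hpp := hV.1 p hp.1 hp1
  have hpO := hVO hp.1
  have hwp' : Γ.bet w p = 0 := (A.bet_iff O hO p hpO hpp w hw).1 (hp.2.resolve_left hp1)
  have hvp' : Γ.bet v p = 0 := (A.bet_iff O hO p hpO hpp v hvO).1 (hV.2 p hp.1 hp1 v hv)
  have hvw : Γ.bet v w = 1 := by rw [bet_symm A hO hvO hw, hwv]
  have k1 : Γ.kap (v * w) = 1 := by rw [kap_mul, kap_pt hvp, kap_pt hwp, hvw]; decide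
  obtain ⟨b, hb, hb1, hb2, hb3⟩ : ∃ b ∈ O, Γ.bet b p = 1 ∧ Γ.bet b v = 0 ∧ Γ.bet b w = 0 := by
    obtain ⟨b, hb, hbp⟩ := A.bet_nondeg O hO p hpO hp1
    obtain ⟨b', hb', k2, k3⟩ : ∃ b ∈ O, Γ.bet b p = 1 ∧ Γ.bet b v = 0 := by
      rcases Ark.two_cases (Γ.bet b v) with h | h
      · exact ⟨b, hb, hbp, h⟩
      · refine ⟨b * w, mul_mem hb hw, ?_, ?_⟩
        · rw [A.bet_mul O hO b hb w hw p hpO, hbp, hwp', add_zero]
        · rw [A.bet_mul O hO b hb w hw v hvO, h, hwv]; decide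
    rcases Ark.two_cases (Γ.bet b' w) with h | h
    · exact ⟨b', hb', k2, k3, h⟩
    · refine ⟨b' * v, mul_mem hb' hvO, ?_, ?_, ?_⟩
      · rw [A.bet_mul O hO b' hb' v hvO p hpO, k2, hvp', add_zero]
      · rw [A.bet_mul O hO b' hb' v hvO v hvO, k3, self v hvO, add_zero]
      · rw [A.bet_mul O hO b' hb' v hvO w hw, h, hvw]; decide
  obtain ⟨a, ha, ha1, ha2, ha3⟩ : ∃ a ∈ O, Γ.kap a = 1 ∧ Γ.bet a v = 0 ∧ Γ.bet a w = 0 := by
    rcases Ark.two_cases (Γ.kap b) with h | h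
    · refine ⟨b * p, mul_mem hb hpO, ?_, ?_, ?_⟩
      · rw [kap_mul, h, kap_pt hpp, hb1]; decide
      · rw [A.bet_mul O hO b hb p hpO v hvO, hb2, bet_symm A hO hpO hvO, hvp', add_zero]
      · rw [A.bet_mul O hO b hb p hpO w hw, hb3, bet_symm A hO hpO hw, hwp', add_zero]
    · exact ⟨b, hb, h, hb2, hb3⟩
  refine ⟨O, hO, v, hvO, w, hw, p, hpO, a, ha, hvp, hwp, hpp, k1, ?_, ?_, ?_⟩
  · rw [kap_mul, k1, kap_pt hpp, A.bet_mul O hO v hvO w hw p hpO, hvp', hwp']; decide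
  · rw [kap_mul, kap_pt hvp, ha1, bet_symm A hO hvO ha, ha2]; decide
  · rw [kap_mul, kap_pt hwp, ha1, bet_symm A hO hw ha, ha3]; decide

/-- the centraliser of a subgroup of an ark of order at most four without points -/
theorem arkNS (E : Ext Γ) {O H : Subgroup G} (hO : O ∈ Γ.Ark) {t d : G} (ht : t ∈ O) (hd : d ∈ O) (h1 : t ∉ Γ.Pt)
    (h2 : d ∉ Γ.Pt) (h3 : t * d ∉ Γ.Pt)
    (hH : ∀ g, (∀ a ∈ O, g * a * g⁻¹ ∈ O) → g * t = t * g → g * d = d * g → g ∈ H) : ¬ Group.IsSolvable H := by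
  have B := E.F.basic
  have A := E.F.ark
  obtain ⟨V, hVO, hV, hc⟩ := E.big O hO
  have c1 := card_allSub E hO hV hVO (t := t) fun _ _ _ => O_le_KK ht
  have hV1 := sing_le hV (allSub_le (B := B) (hV := hV) (t := t))
  have c2 := card_allSub E hO hV1 (allSub_le.trans hVO) (t := d) fun _ _ _ => O_le_KK hd
  obtain ⟨L, hLO, htL, hdL, -, hL⟩ := exists_line (A.comm O hO) (A.sq O hO) ht hd
  refine NS E (A := L) (L := ⊥) (sing_le hV1 (allSub_le (B := B) (hV := hV1) (t := d))) bot_le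
    (by rw [card_bot]; omega) (fun u hu hu1 a ha => ?_) (fun a ha haV => ?_) fun u hu hu1 q hq hqa _ => ?_
  · have k1 : t ∈ Γ.QQ u := hu.1.2.resolve_left hu1
    have k2 : d ∈ Γ.QQ u := hu.2.resolve_left hu1
    rcases hL a ha with rfl | rfl | rfl | rfl
    exacts [one_mem _, k1, k2, mul_mem k1 k2]
  · by_contra ha1
    have k := hV.1 a haV.1.1 ha1
    rcases hL a ha with rfl | rfl | rfl | rfl
    exacts [ha1 rfl, h1 k, h2 k, h3 k]
  · exact hH q (E.QO O hO u (hVO hu.1.1) (hV.1 u hu.1.1 hu1) q hq) (hqa t htL) (hqa d hdL)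

theorem exists_pair (E : Ext Γ) : ∃ O ∈ Γ.Ark, ∃ t ∈ O, ∃ d ∈ O, IsA Γ t ∧ IsA Γ d ∧ IsA Γ (t * d) := by
  have A := E.F.ark
  obtain ⟨O, hO, v, hv, w, hw, p, -, a, ha, -, -, -, k1, -, k2, k3⟩ := exists_ex E
  have e : v * w * (v * a) = w * a := by
    rw [A.comm O hO v hv w hw, mul_assoc, ← mul_assoc v, A.sq O hO v hv, one_mul]
  refine ⟨O, hO, v * w, mul_mem hv hw, v * a, mul_mem hv ha, isA_of_kap (A.sq O hO _ (mul_mem hv hw)) k1,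
    isA_of_kap (A.sq O hO _ (mul_mem hv ha)) k2, ?_⟩
  rw [e]
  exact isA_of_kap (A.sq O hO _ (mul_mem hw ha)) k3

/-- **The centraliser of a four-group without points.** -/
theorem pairNS (E : Ext Γ) {H : Subgroup G} {t d : G} (ht : IsA Γ t) (hd : IsA Γ d) (htd : IsA Γ (t * d))
    (hc : t * d = d * t) (hH : ∀ g, g * t = t * g → g * d = d * g → g ∈ H) : ¬ Group.IsSolvable H := by
  obtain ⟨O, hO, t', ht', d', hd', k1, k2, k3⟩ := exists_pair E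
  obtain ⟨g, rfl, rfl⟩ := E.pairA t' d' t d k1 k2 k3 (E.F.ark.comm O hO _ ht' _ hd') ht hd htd hc
  exact arkNS E (E.F.ark.conj O hO g) (conj_mem_cj.2 ht') (conj_mem_cj.2 hd') ht.2.2 hd.2.2 htd.2.2 fun x _ => hH x

theorem singleNS (E : Ext Γ) {H : Subgroup G} {t : G} (ht : IsA Γ t) (hH : ∀ g, g * t = t * g → g ∈ H) :
    ¬ Group.IsSolvable H := by
  obtain ⟨O, hO, t', ht', d', hd', k1, -, -⟩ := exists_pair E
  obtain ⟨g, rfl⟩ := E.conjA t' t k1 ht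
  refine arkNS E (E.F.ark.conj O hO g) (conj_mem_cj.2 ht') (conj_mem_cj.2 ht') ht.2.2 ht.2.2 ?_ fun x _ h _ => hH x h
  rw [ht.1]
  exact fun h => E.F.basic.pt_ne 1 h rfl

/-- **A point commuting with `t`.** -/
theorem exists_ark_of (E : Ext Γ) {t u : G} (ht : IsA Γ t) (hu : u ∈ Γ.Pt) (hc : u * t = t * u) :
    ∃ O ∈ Γ.Ark, t ∈ O ∧ u ∈ O := by
  have B := E.F.basic
  have A := E.F.ark
  obtain ⟨t₀, ht₀, w, hw⟩ := E.four
  obtain ⟨g, rfl⟩ := E.conjA t₀ t ht₀ ht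
  obtain ⟨u, rfl⟩ : ∃ u', u = g * u' * g⁻¹ := ⟨g⁻¹ * u * g, by group⟩
  rw [conj_pt B] at hu
  have hc' : u * t₀ = t₀ * u := by
    calc u * t₀ = g⁻¹ * (g * u * g⁻¹ * (g * t₀ * g⁻¹)) * g := by group
      _ = _ := by rw [hc]; group
  suffices h : ∃ O ∈ Γ.Ark, t₀ ∈ O ∧ u ∈ O by
    obtain ⟨O, hO, h1, h2⟩ := h
    exact ⟨cj g O, A.conj O hO g, conj_mem_cj.2 h1, conj_mem_cj.2 h2⟩
  obtain ⟨O, hO, v, hv, p, hp, a, ha, htO, hvp, hpp, e1, e2, e3, e4⟩ : ∃ O ∈ Γ.Ark, ∃ v ∈ O, ∃ p ∈ O, ∃ a ∈ O, t₀ ∈ O ∧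
      v ∈ Γ.Pt ∧ p ∈ Γ.Pt ∧ t₀ * v ∈ Γ.Pt ∧ Γ.kap (t₀ * p) = 1 ∧ Γ.kap a = 1 ∧ Γ.kap (t₀ * a) = 1 := by
    clear hw hc hc'
    obtain ⟨O, hO, v, hv, w, hw, p, hp, a, ha, hvp, hwp, hpp, k1, k2, k3, k4⟩ := exists_ex E
    obtain ⟨k, hk⟩ := E.conjA (v * w) t₀ (isA_of_kap (A.sq O hO _ (mul_mem hv hw)) k1) ht₀
    rw [← hk]
    have m : ∀ x y : G, k * x * k⁻¹ * (k * y * k⁻¹) = k * (x * y) * k⁻¹ := fun x y => by group
    have e : ∀ x, v * w * (v * x) = w * x := fun x => by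
      rw [A.comm O hO v hv w hw, mul_assoc, ← mul_assoc v, A.sq O hO v hv, one_mul]
    refine ⟨cj k O, A.conj O hO k, _, conj_mem_cj.2 hv, _, conj_mem_cj.2 hp, _, conj_mem_cj.2 (mul_mem hv ha),
      conj_mem_cj.2 (mul_mem hv hw), B.pt_conj v hvp k, B.pt_conj p hpp k, ?_, ?_, ?_, ?_⟩
    · have := e 1
      rw [mul_one, mul_one] at this
      rw [m, this]; exact B.pt_conj w hwp k
    · rw [m, kap_conj B, k2]
    · rw [kap_conj B, k3]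
    · rw [m, kap_conj B, e, k4]
  let f : G → ZMod 2 × ZMod 2 := fun x => (Γ.kap x, Γ.kap (t₀ * x))
  have hf : ∀ g x, g * t₀ = t₀ * g → f (g * x * g⁻¹) = f x := fun g x h => by
    have e : t₀ * (g * x * g⁻¹) = g * (t₀ * x) * g⁻¹ := by rw [← mul_assoc, ← mul_assoc, ← h]; group
    show (Γ.kap _, Γ.kap _) = (Γ.kap _, Γ.kap _)
    rw [e, kap_conj B, kap_conj B]
  have hex : ∀ x ∈ O, x ≠ 1 → t₀ * x ≠ 1 → ∃ i g, g * t₀ = t₀ * g ∧ g * w i * g⁻¹ = x := fun x hx h1 h2 =>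
    hw x (A.sq O hO x hx) h1 (fun h => h2 (by rw [h, ht₀.1])) (A.comm O hO x hx _ htO)
  have ne1 : ∀ x, Γ.kap x = 1 → x ≠ 1 := fun x h h1 => by
    rw [h1, kap_one] at h
    exact zero_ne_one h
  have tt : ∀ x, t₀ * (t₀ * x) = x := fun x => by rw [← mul_assoc, ht₀.1, one_mul]
  obtain ⟨i₁, g₁, a₁, b₁⟩ := hex v hv (B.pt_ne v hvp) (B.pt_ne _ e1)
  obtain ⟨i₂, g₂, a₂, b₂⟩ := hex p hp (B.pt_ne p hpp) (ne1 _ e2)
  obtain ⟨i₃, g₃, a₃, b₃⟩ := hex a ha (ne1 _ e3) (ne1 _ e4)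
  obtain ⟨i₄, g₄, a₄, b₄⟩ := hex (t₀ * p) (mul_mem htO hp) (ne1 _ e2) (by rw [tt]; exact B.pt_ne p hpp)
  have f₁ : f (w i₁) = (0, 0) := by rw [← hf g₁ _ a₁, b₁]; exact Prod.ext (kap_pt hvp) (kap_pt e1)
  have f₂ : f (w i₂) = (0, 1) := by rw [← hf g₂ _ a₂, b₂]; exact Prod.ext (kap_pt hpp) e2
  have f₃ : f (w i₃) = (1, 1) := by rw [← hf g₃ _ a₃, b₃]; exact Prod.ext e3 e4
  have f₄ : f (w i₄) = (1, 0) := by
    rw [← hf g₄ _ a₄, b₄]; exact Prod.ext e2 (by show Γ.kap (t₀ * (t₀ * p)) = 0; rw [tt]; exact kap_pt hpp)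
  obtain ⟨i, k, hk, hu'⟩ := hw u (B.pt_sq u hu) (B.pt_ne u hu) (fun h => ht₀.2.2 (h ▸ hu)) hc'
  have fi : (f (w i)).1 = 0 := by rw [← hf k _ hk, hu']; exact kap_pt hu
  have hi : i = i₁ ∨ i = i₂ := by
    have n12 : i₁ ≠ i₂ := fun h => by rw [h, f₂] at f₁; exact absurd f₁ (by decide)
    have n13 : i₁ ≠ i₃ := fun h => by rw [h, f₃] at f₁; exact absurd f₁ (by decide)
    have n14 : i₁ ≠ i₄ := fun h => by rw [h, f₄] at f₁; exact absurd f₁ (by decide)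
    have n23 : i₂ ≠ i₃ := fun h => by rw [h, f₃] at f₂; exact absurd f₂ (by decide)
    have n24 : i₂ ≠ i₄ := fun h => by rw [h, f₄] at f₂; exact absurd f₂ (by decide)
    have n34 : i₃ ≠ i₄ := fun h => by rw [h, f₄] at f₃; exact absurd f₃ (by decide)
    have n3 : i ≠ i₃ := fun h => by rw [h, f₃] at fi; exact absurd fi (by decide)
    have n4 : i ≠ i₄ := fun h => by rw [h, f₄] at fi; exact absurd fi (by decide)
    omega
  have key : ∀ g x, g * t₀ = t₀ * g → g * w i * g⁻¹ = x → (k * g⁻¹) * x * (k * g⁻¹)⁻¹ = u ∧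
      (k * g⁻¹) * t₀ * (k * g⁻¹)⁻¹ = t₀ := fun g x h1 h2 => by
    refine ⟨by rw [← h2, ← hu']; group, ?_⟩
    calc k * g⁻¹ * t₀ * (k * g⁻¹)⁻¹ = k * (g⁻¹ * (t₀ * g)) * k⁻¹ := by group
      _ = t₀ := by rw [← h1, inv_mul_cancel_left, hk]; group
  rcases hi with rfl | rfl
  · obtain ⟨h1, h2⟩ := key g₁ v a₁ b₁
    exact ⟨cj (k * g₁⁻¹) O, A.conj O hO _, h2 ▸ conj_mem_cj.2 htO, h1 ▸ conj_mem_cj.2 hv⟩
  · obtain ⟨h1, h2⟩ := key g₂ p a₂ b₂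
    exact ⟨cj (k * g₂⁻¹) O, A.conj O hO _, h2 ▸ conj_mem_cj.2 htO, h1 ▸ conj_mem_cj.2 hp⟩

theorem line1 (E : Ext Γ) {x t : G} (hx : x ∈ Γ.Pt) (htx : t ∈ Γ.QQ x) (ht : IsA Γ t) :
    ∃ y ∈ Γ.Pt, y ≠ x ∧ y ∈ Γ.QQ x ∧ t ∈ Γ.QQ y := by
  have B := E.F.basic
  obtain ⟨O, hO, htO, hxO⟩ := exists_ark_of E ht hx (B.QQ_comm x hx t htx).symm
  obtain ⟨V, hVO, hV, hc⟩ := E.big O hO
  have c1 := card_allSub E hO hV hVO (t := x) fun _ _ _ => O_le_KK hxO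
  have hV1 := sing_le hV (allSub_le (B := B) (hV := hV) (t := x))
  have c2 := card_allSub E hO hV1 (allSub_le.trans hVO) (t := t) fun _ _ _ => O_le_KK htO
  obtain ⟨L, -, hxL, -, hL, -⟩ := exists_line (E.F.ark.comm O hO) (E.F.ark.sq O hO) hxO hxO
  obtain ⟨y, hy, hyL⟩ : ∃ y ∈ allSub B hV1 t, y ∉ L := by
    by_contra h
    push Not at h
    have := card_le_of_le (show allSub B hV1 t ≤ L from h)
    omega
  have hy1 : y ≠ 1 := fun h => hyL (h ▸ L.one_mem)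
  have hyp := hV.1 y hy.1.1 hy1
  exact ⟨y, hyp, fun h => hyL (h ▸ hxL), B.symm y hyp x hx (hy.1.2.resolve_left hy1), hy.2.resolve_left hy1⟩

/-- **The centraliser of `t` and of a line of points `u` with `t ∈ Q_u`.** -/
theorem lineNS (E : Ext Γ) {H : Subgroup G} {t x y : G} (ht : IsA Γ t) (hx : x ∈ Γ.Pt) (hy : y ∈ Γ.Pt)
    (hyx : y ∈ Γ.QQ x) (hne : y ≠ x) (htx : t ∈ Γ.QQ x) (hty : t ∈ Γ.QQ y)
    (hH : ∀ g, g * t = t * g → g * x = x * g → g * y = y * g → g ∈ H) : ¬ Group.IsSolvable H := by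
  have B := E.F.basic
  have A := E.F.ark
  obtain ⟨O, hO, hxO, hyO, htC, htO⟩ := E.line4 x hx y hy hyx hne t htx hty ht
  obtain ⟨V, h1, h2, h3, h4, h5⟩ := exists_V B A hO htO
  have hV : Γ.Sing V := ⟨fun v hv h => (h3 v hv h).1, h5⟩
  have hc : Nat.card V = 32 := by
    rw [ncard_eq V h1]
    exact A.V_card O hO x hxO hx t htC htx ht.1 htO
  obtain ⟨L, hLV, hxL, hyL, hL, -⟩ := exists_line (sing_comm B hV) (sing_sq B hV) (h4 x hxO hx (KK_of' htC htx))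
    (h4 y hyO hy (KK_of' htC hty))
  refine NSt E ht hV hLV (by omega) (fun u hu hu1 => ?_) fun u _ _ d _ hd hl => hH d hd (hl x hxL) (hl y hyL)
  by_contra hn
  obtain ⟨hup, huK⟩ := h3 u hu hu1
  obtain ⟨O', hO', k1, k2⟩ := exists_ark_of E ht hup (CC_comm A hO htC (h2 hu)).symm
  exact htO (A.unique O hO O' hO' u hup (h2 hu) k2 t huK (O_le_KK k1) hn ▸ k1)

/-- the elements of a small singular subgroup -/
theorem small_cases {F : Subgroup G} (hs : ∀ a ∈ F, a * a = 1) (h0 : F ≠ ⊥) (hc : ¬ 8 ≤ Nat.card F) :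
    (∃ x ∈ F, x ≠ 1 ∧ ∀ a ∈ F, a = 1 ∨ a = x) ∨
      ∃ x ∈ F, ∃ y ∈ F, x ≠ 1 ∧ y ≠ 1 ∧ y ≠ x ∧ ∀ a ∈ F, a = 1 ∨ a = x ∨ a = y ∨ a = x * y := by
  obtain ⟨x, hx, hx1⟩ : ∃ x ∈ F, x ≠ 1 := by
    by_contra h
    push Not at h
    exact h0 ((eq_bot_iff_forall _).2 h)
  by_cases h : ∀ a ∈ F, a = 1 ∨ a = x
  · exact Or.inl ⟨x, hx, hx1, h⟩
  push Not at h
  obtain ⟨y, hy, hy1, hyx⟩ := h
  refine Or.inr ⟨x, hx, y, hy, hx1, hy1, hyx, four_elts ?_ hx hy hx1 hy1 hyx.symm fun h => hyx ?_⟩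
  · obtain ⟨n, hn⟩ := IsPGroup.iff_card.1 (two_of_sq hs)
    rw [hn] at hc ⊢
    have h3 : n < 3 := by
      by_contra h3
      exact hc (le_trans (by norm_num) (Nat.pow_le_pow_right (by norm_num) (not_lt.1 h3)))
    interval_cases n <;> norm_num
  · rw [← one_mul y, ← hs x hx, mul_assoc, h, mul_one]

theorem ch2_pt (E : Ext Γ) {T : Subgroup G} (hT : IsPGroup 2 T) {c : G} (hcT : c ∈ T) (hc : c ∈ Γ.Pt) :
    Ch2 (centralizer (T : Set G)) := by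
  have hL := E.large c hc
  have h1 : ∀ g, g ∈ centralizer (zpowers c : Set G) ↔ g * c = c * g := fun g => by
    rw [mem_cent]
    refine ⟨fun h => h c (mem_zpowers c), fun h x hx => ?_⟩
    rcases mem_zp hL.z_sq hx with rfl | rfl
    · rw [mul_one, one_mul]
    · exact h
  exact ch2_up hT (zpowers_le.2 hcT) (ch2_of (E.F.basic.QQ_two c hc) (fun q hq => (h1 q).2 (hL.comm_z q hq))
    (fun g hg => hL.conj_mem g ((h1 g).1 hg)) fun g hg => hL.self g ((h1 g).1 hg))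

/-- a 2-subgroup containing its centraliser -/
theorem sit (E : Ext Γ) {T : Subgroup G} (hT : IsPGroup 2 T) (h : ∀ g, (∀ x ∈ T, g * x = x * g) → g ∈ T) :
    Γ.Sit T (omegaCenterOf T) := by
  have all : ∀ x : G, x * x = 1 → (∀ t ∈ T, t * x = x * t) → x ∈ omegaCenterOf T := fun x h1 h2 =>
    mem_omegaCenterOf.2 ⟨h x fun t ht => (h2 t ht).symm, mem_cent.2 fun t ht => (h2 t ht).symm, by rw [pow_two, h1]⟩
  obtain ⟨c, hc, hcT⟩ := E.syl T hT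
  exact ⟨hT, fun x hx t ht => (mem_cent.1 (mem_omegaCenterOf.1 hx).2.1 t ht).symm,
    fun x hx y hy => mem_cent.1 (mem_omegaCenterOf.1 hx).2.1 y (mem_omegaCenterOf.1 hy).1,
    fun x hx => by rw [← pow_two]; exact (mem_omegaCenterOf.1 hx).2.2, all,
    c, all c (E.F.basic.pt_sq c hc) hcT, hc⟩

/-- a point-free elementary abelian subgroup -/
theorem pure_cases (E : Ext Γ) {Z : Subgroup G} (hc : ∀ a ∈ Z, ∀ b ∈ Z, a * b = b * a) (hs : ∀ a ∈ Z, a * a = 1)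
    (hp : ∀ a ∈ Z, a ∉ Γ.Pt) {t d : G} (ht : t ∈ Z) (hd : d ∈ Z) (ht1 : t ≠ 1) (hd1 : d ≠ 1) (hdt : d ≠ t) :
    IsA Γ (t * d) ∧ ∀ a ∈ Z, a = 1 ∨ a = t ∨ a = d ∨ a = t * d := by
  have hA : ∀ a ∈ Z, a ≠ 1 → IsA Γ a := fun a ha h1 => ⟨hs a ha, h1, hp a ha⟩
  have hne : ∀ a ∈ Z, ∀ b ∈ Z, a ≠ b → a * b ≠ 1 := by
    intro a _ b hb hab h
    apply hab
    calc a = a * b * b := by rw [mul_assoc, hs b hb, mul_one]
      _ = b := by rw [h, one_mul]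
  have htd := hA _ (mul_mem ht hd) (hne t ht d hd hdt.symm)
  refine ⟨htd, fun s hs' => ?_⟩
  by_contra hcon
  push Not at hcon
  obtain ⟨h1, h2, h3, h4⟩ := hcon
  have hds := Z.mul_mem hd hs'
  refine E.pureA t d s (hA t ht ht1) (hA d hd hd1) (hA s hs' h1) htd
    (hA _ (Z.mul_mem ht hs') (hne t ht s hs' (Ne.symm h2))) (hA _ hds (hne d hd s hs' (Ne.symm h3)))
    (hA _ (Z.mul_mem ht hds) (hne t ht _ hds ?_)) (hc t ht d hd) (hc t ht s hs') (hc d hd s hs')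
  intro h
  apply h4
  rw [h]
  calc s = (d * d) * s := by rw [hs d hd, one_mul]
    _ = d * s * d := by rw [hc (d * s) hds d hd]; group

theorem norm_omega {S : Subgroup G} : ∀ s ∈ S, ∀ x ∈ omegaCenterOf (pCoreOf 2 S), s * x * s⁻¹ ∈ omegaCenterOf (pCoreOf 2 S) :=
  fun _ hs _ hx => conj_of_norm (normalizer_le_normalizer_omegaCenterOf _ (le_normalizer_pCoreOf S hs)) hx

theorem conj_of_comm {U : Subgroup G} {g : G} (h : ∀ x ∈ U, g * x = x * g) : ∀ x ∈ U, g * x * g⁻¹ ∈ U := fun x hx => by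
  rw [h x hx, mul_inv_cancel_right]; exact hx

/-- **The 2-local subgroups of the Monster are not solvable.** -/
theorem noM (E : Ext Γ) {S : Subgroup G} (hS : Group.IsSolvable S) (h0 : pCoreOf 2 S ≠ ⊥)
    (hN : ∀ U : Subgroup G, U ≠ ⊥ → IsPGroup 2 U → (∀ s ∈ S, ∀ u ∈ U, s * u * s⁻¹ ∈ U) →
      ∀ g, (∀ u ∈ U, g * u * g⁻¹ ∈ U) → g ∈ S) : False := by
  have B := E.F.basic
  have A := E.F.ark
  have hT := pCoreOf_isPGroup S
  have hTn : ∀ s ∈ S, ∀ u ∈ pCoreOf 2 S, s * u * s⁻¹ ∈ pCoreOf 2 S := fun s hs u hu =>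
    conj_of_norm (le_normalizer_pCoreOf S hs) hu
  have hZs : ∀ a ∈ omegaCenterOf (pCoreOf 2 S), a * a = 1 := fun x hx => by
    rw [← pow_two]; exact (mem_omegaCenterOf.1 hx).2.2
  have hZ := hN _ (omegaCenterOf_ne_bot hT h0) (two_of_sq hZs) norm_omega
  by_cases hpt : ∃ c ∈ pCoreOf 2 S, c ∈ Γ.Pt
  · obtain ⟨c, hcT, hc⟩ := hpt
    have St := sit E hT fun g hg => cent_le_core (ch2_pt E hT hcT hc)
      (fun x hx => hN _ h0 hT hTn x (conj_of_comm (mem_cent.1 hx))) (le_normalizer_pCoreOf S) le_rfl hg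
    rcases MainCP.mainC E.F _ _ St with hO | ⟨F, hF0, -, hF, hFn⟩
    · refine arkNS E hO (one_mem _) (one_mem _) (fun h => B.pt_ne 1 h rfl) (fun h => B.pt_ne 1 h rfl)
        (fun h => B.pt_ne _ h (mul_one 1)) (fun g hg _ _ => hZ g hg) hS
    · have hF' := hN F hF0 (two_of_sq (sing_sq B hF)) fun s hs => hFn s (norm_omega s hs)
      by_cases h8 : 8 ≤ Nat.card F
      · exact NS E (A := ⊥) (L := ⊥) hF bot_le (by rw [card_bot]; omega) (fun _ _ _ => bot_le)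
          (fun a ha _ => mem_bot.1 ha) (fun u hu hu1 d hd _ _ => hF' d (Q_norm E hF hu hu1 hd)) hS
      obtain ⟨O, hO⟩ := E.ark
      obtain ⟨V, -, hV, hc⟩ := E.big O hO
      obtain ⟨v, hv, w, hw, hv1, hw1, hwv⟩ : ∃ v ∈ V, ∃ w ∈ V, v ≠ 1 ∧ w ≠ 1 ∧ w ≠ v := by
        obtain ⟨v, hv, hv1⟩ := exists_ne_one (E := V) (by omega)
        obtain ⟨L, -, hvL, -, hL, -⟩ := exists_line (sing_comm B hV) (sing_sq B hV) hv hv
        obtain ⟨w, hw, hwL⟩ : ∃ w ∈ V, w ∉ L := by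
          by_contra h
          push Not at h
          have := card_le_of_le (show V ≤ L from h)
          omega
        exact ⟨v, hv, w, hw, hv1, fun h => hwL (h ▸ L.one_mem), fun h => hwL (h ▸ hvL)⟩
      have key : ∀ g : G, (∀ d, d * (g * v * g⁻¹) = g * v * g⁻¹ * d → d * (g * w * g⁻¹) = g * w * g⁻¹ * d → d ∈ S) →
          False := by
        intro g hg
        have hV' := sing_cj B hV g
        obtain ⟨L, hLV, hxL, hyL, hL, -⟩ := exists_line (sing_comm B hV') (sing_sq B hV') (conj_mem_cj.2 hv)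
          (conj_mem_cj.2 hw)
        exact NS E (A := ⊥) hV' hLV (by rw [card_cj]; omega) (fun _ _ _ => bot_le) (fun a ha _ => mem_bot.1 ha)
          (fun u _ _ d _ _ hl => hg d (hl _ hxL) (hl _ hyL)) hS
      rcases small_cases (sing_sq B hF) hF0 h8 with ⟨x, hx, hx1, h⟩ | ⟨x, hx, y, hy, hx1, hy1, hyx, h⟩
      · obtain ⟨g, rfl⟩ := B.pt_trans v (hV.1 v hv hv1) x (hF.1 x hx hx1)
        exact key g fun d h1 _ => hF' d (conj_of_comm fun a ha => comm_four h1 h1 ((h a ha).imp_right Or.inl))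
      · obtain ⟨g, rfl, rfl⟩ := E.pair v (hV.1 v hv hv1) w (hV.1 w hw hw1) (hV.2 v hv hv1 w hw) hwv
          x (hF.1 x hx hx1) y (hF.1 y hy hy1) (hF.2 x hx hx1 y hy) hyx
        exact key g fun d h1 h2 => hF' d (conj_of_comm fun a ha => comm_four h1 h2 (h a ha))
  · push Not at hpt
    have hZp : ∀ a ∈ omegaCenterOf (pCoreOf 2 S), a ∉ Γ.Pt := fun a ha => hpt a (mem_omegaCenterOf.1 ha).1
    have hZc : ∀ a ∈ omegaCenterOf (pCoreOf 2 S), ∀ b ∈ omegaCenterOf (pCoreOf 2 S), a * b = b * a :=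
      fun x hx y hy => mem_cent.1 (mem_omegaCenterOf.1 hx).2.1 y (mem_omegaCenterOf.1 hy).1
    obtain ⟨t, ht, ht1⟩ : ∃ t ∈ omegaCenterOf (pCoreOf 2 S), t ≠ 1 := by
      by_contra h
      push Not at h
      exact omegaCenterOf_ne_bot hT h0 ((eq_bot_iff_forall _).2 h)
    have hA : IsA Γ t := ⟨hZs t ht, ht1, hZp t ht⟩
    by_cases h : ∀ a ∈ omegaCenterOf (pCoreOf 2 S), a = 1 ∨ a = t
    · exact singleNS E hA (fun g hg => hZ g (conj_of_comm fun a ha => comm_four hg hg ((h a ha).imp_right Or.inl))) hS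
    · push Not at h
      obtain ⟨d, hd, hd1, hdt⟩ := h
      obtain ⟨h1, h2⟩ := pure_cases E hZc hZs hZp ht hd ht1 hd1 hdt
      exact pairNS E hA ⟨hZs d hd, hd1, hZp d hd⟩ h1 (hZc t ht d hd)
        (fun g hg hg' => hZ g (conj_of_comm fun a ha => comm_four hg hg' (h2 a ha))) hS

/-! ### the centraliser of `t` -/

/-- the situation in `C(t)` -/
structure CtxB (Γ : Geo G) (t : G) (S : Subgroup G) : Prop where
  isA : IsA Γ t
  solv : Group.IsSolvable S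
  cent : ∀ s ∈ S, s * t = t * s
  mem : t ∈ S
  max : ∀ U : Subgroup G, IsPGroup 2 U → (∀ u ∈ U, u * t = t * u) → (∃ u ∈ U, u ≠ 1 ∧ u ≠ t) →
    (∀ s ∈ S, ∀ u ∈ U, s * u * s⁻¹ ∈ U) → ∀ g, g * t = t * g → (∀ u ∈ U, g * u * g⁻¹ ∈ U) → g ∈ S

variable {t : G} {S : Subgroup G}

theorem CtxB.ark (C : CtxB Γ t S) (E : Ext Γ) {O : Subgroup G} (hO : O ∈ Γ.Ark) (ht : t ∈ O)
    (hn : ∀ s ∈ S, ∀ u ∈ O, s * u * s⁻¹ ∈ O) : False := by
  have A := E.F.ark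
  obtain ⟨V, hVO, hV, hc⟩ := E.big O hO
  obtain ⟨v, hv, hv1⟩ := exists_ne_one (E := V) (by omega)
  refine arkNS E hO ht ht C.isA.2.2 C.isA.2.2 (by rw [C.isA.1]; exact fun h => E.F.basic.pt_ne 1 h rfl)
    (fun g hg hgt _ => C.max O (two_of_sq (A.sq O hO)) (fun u hu => A.comm O hO u hu t ht)
      ⟨v, hVO hv, hv1, fun h => C.isA.2.2 (h ▸ hV.1 v hv hv1)⟩ hn g hgt hg) C.solv

theorem CtxB.max_sing (C : CtxB Γ t S) (E : Ext Γ) {F : Subgroup G} (hF : Γ.Sing F) (h0 : F ≠ ⊥)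
    (hc : ∀ u ∈ F, u * t = t * u) (hn : ∀ s ∈ S, ∀ u ∈ F, s * u * s⁻¹ ∈ F) :
    ∀ g, g * t = t * g → (∀ u ∈ F, g * u * g⁻¹ ∈ F) → g ∈ S := by
  refine C.max F (two_of_sq (sing_sq E.F.basic hF)) hc ?_ hn
  by_contra h
  push Not at h
  refine h0 ((eq_bot_iff_forall _).2 fun u hu => ?_)
  by_contra h1
  exact C.isA.2.2 (h u hu h1 ▸ hF.1 u hu h1)

theorem CtxB.all (C : CtxB Γ t S) (E : Ext Γ) {F : Subgroup G} (hF : Γ.Sing F) (h0 : F ≠ ⊥)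
    (ht : ∀ u ∈ F, u ≠ 1 → t ∈ Γ.QQ u) (hn : ∀ s ∈ S, ∀ u ∈ F, s * u * s⁻¹ ∈ F) : False := by
  have B := E.F.basic
  have hF' := C.max_sing E hF h0 (fun u hu => by
    by_cases h : u = 1
    · rw [h, mul_one, one_mul]
    · exact (B.QQ_comm u (hF.1 u hu h) t (ht u hu h)).symm) hn
  by_cases h8 : 8 ≤ Nat.card F
  · exact NSt E (L := ⊥) C.isA hF bot_le (by rw [card_bot]; omega) ht
      (fun u hu hu1 d hd hdt _ => hF' d hdt (Q_norm E hF hu hu1 hd)) C.solv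
  rcases small_cases (sing_sq B hF) h0 h8 with ⟨x, hx, hx1, h⟩ | ⟨x, hx, y, hy, hx1, hy1, hyx, h⟩
  · obtain ⟨y, hy, hyx, h1, h2⟩ := line1 E (hF.1 x hx hx1) (ht x hx hx1) C.isA
    exact lineNS E C.isA (hF.1 x hx hx1) hy h1 hyx (ht x hx hx1) h2 (fun g k1 k2 _ => hF' g k1
      (conj_of_comm fun a ha => comm_four k2 k2 ((h a ha).imp_right Or.inl))) C.solv
  · exact lineNS E C.isA (hF.1 x hx hx1) (hF.1 y hy hy1) (hF.2 x hx hx1 y hy) hyx (ht x hx hx1) (ht y hy hy1)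
      (fun g k1 k2 k3 => hF' g k1 (conj_of_comm fun a ha => comm_four k2 k3 (h a ha))) C.solv

theorem CtxB.none (C : CtxB Γ t S) (E : Ext Γ) {F : Subgroup G} (hF : Γ.Sing F) (h0 : F ≠ ⊥)
    (hc : ∀ u ∈ F, u * t = t * u) (ht : ∀ u ∈ F, u ≠ 1 → t ∉ Γ.QQ u) (hn : ∀ s ∈ S, ∀ u ∈ F, s * u * s⁻¹ ∈ F) :
    False := by
  have B := E.F.basic
  have A := E.F.ark
  have hF' := C.max_sing E hF h0 hc hn
  have hFO : ∀ O ∈ Γ.Ark, t ∈ O → ∀ u ∈ F, u ≠ 1 → u ∈ O → ∀ v ∈ F, v ∈ O → v = 1 ∨ v = u := by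
    intro O hO htO u hu hu1 huO v hv hvO
    by_contra h
    push Not at h
    have h1 : u * v ≠ 1 := fun h1 => h.2 (by rw [← one_mul v, ← sing_sq B hF u hu, mul_assoc, h1, mul_one])
    apply ht _ (mul_mem hu hv) h1
    rw [A.bet_iff O hO _ (mul_mem huO hvO) (hF.1 _ (mul_mem hu hv) h1) t htO, bet_mul_right A hO htO huO hvO,
      (not_mem_QQ A hO huO (hF.1 u hu hu1) htO).1 (ht u hu hu1),
      (not_mem_QQ A hO hvO (hF.1 v hv h.1) htO).1 (ht v hv h.1), one_one]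
  by_cases h8 : 8 ≤ Nat.card F
  · refine not_solvable_of_transv (L := ⊥) (sing_comm B hF) (sing_sq B hF) bot_le (by rw [card_bot]; omega)
      (fun u hu hu1 => ?_) C.solv
    rw [mem_bot] at hu1
    have hup := hF.1 u hu hu1
    have hL := E.large u hup
    obtain ⟨O, hO, htO, huO⟩ := exists_ark_of E C.isA hup (hc u hu)
    refine ⟨Γ.QQ u ⊓ centralizer {t}, fun d hd _ => hF' d (mem_centralizer_singleton_iff.1 hd.2)
      (Q_norm E hF hu hu1 hd.1), fun d hd v hv => conj_Q hL hd.1 (hF.2 u hu hu1 v hv), fun d hd => hL.comm_z d hd.1,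
      fun v hv h => hFO O hO htO u hu hu1 huO v hv (E.CO O hO u huO hup v fun q hq hq' => h q ⟨hq', ?_⟩)⟩
    exact mem_centralizer_singleton_iff.2 (CC_comm A hO hq htO)
  rcases small_cases (sing_sq B hF) h0 h8 with ⟨x, hx, hx1, h⟩ | ⟨x, hx, y, hy, hx1, hy1, hyx, h⟩
  · have hxp := hF.1 x hx hx1
    obtain ⟨O, hO, htO, hxO⟩ := exists_ark_of E C.isA hxp (hc x hx)
    refine C.ark E hO htO fun s hs u hu => norm_mem A hO (Ark.norm_of B A hO hxO hxp (O_le_KK htO) (ht x hx hx1) ?_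
      (C.cent s hs)) hu
    rcases h _ (hn s hs x hx) with h1 | h1
    · exact absurd (by calc x = s⁻¹ * (s * x * s⁻¹) * s := by group
        _ = 1 := by rw [h1]; group) hx1
    · exact mul_inv_eq_iff_eq_mul.1 h1
  · have hxp := hF.1 x hx hx1
    have hyp := hF.1 y hy hy1
    obtain ⟨O, hO, htO, hxO⟩ := exists_ark_of E C.isA hxp (hc x hx)
    have hyC : y ∈ CC O := A.cent_le O hO x hxO hxp t (O_le_KK htO) (ht x hx hx1) y (hF.2 x hx hx1 y hy) (hc y hy)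
    have hyO : y ∉ O := fun h1 => (hFO O hO htO x hx hx1 hxO y hy h1).elim hy1 hyx
    obtain ⟨V, h1, h2, h3, h4, h5⟩ := exists_V B A hO hyO
    have hV : Γ.Sing V := ⟨fun v hv h => (h3 v hv h).1, h5⟩
    have hcV : Nat.card V = 32 := by
      rw [ncard_eq V h1]
      exact A.V_card O hO x hxO hxp y hyC (hF.2 x hx hx1 y hy) (B.pt_sq y hyp) hyO
    have hxV : x ∈ V := h4 x hxO hxp (KK_of' hyC (hF.2 x hx hx1 y hy))
    have c1 := card_allSub E hO hV h2 (t := y) fun v hv hv1 => (h3 v hv hv1).2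
    have hV1 := sing_le hV (allSub_le (B := B) (hV := hV) (t := y))
    have c2 := card_allSub E hO hV1 (allSub_le.trans h2) (t := t) fun _ _ _ => O_le_KK htO
    have hiff : ∀ p, p ≠ 1 → (p ∈ allSub B hV1 t ↔ p ∈ Γ.Pt ∧ t ∈ Γ.QQ p ∧ ∀ a ∈ F, a ∈ Γ.QQ p) := by
      intro p hp1
      constructor
      · intro hp
        have k1 := hV.2 p hp.1.1 hp1 x hxV
        have k2 := hp.1.2.resolve_left hp1
        refine ⟨hV.1 p hp.1.1 hp1, hp.2.resolve_left hp1, fun a ha => ?_⟩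
        rcases h a ha with rfl | rfl | rfl | rfl
        exacts [one_mem _, k1, k2, mul_mem k1 k2]
      · rintro ⟨k1, k2, k3⟩
        have k4 : p ∈ O := A.pt_mem O hO x hxO hxp t (O_le_KK htO) (ht x hx hx1) p k1 (B.symm p k1 x hxp (k3 x hx)) k2
        exact ⟨⟨h4 p k4 k1 (KK_of' hyC (k3 y hy)), Or.inr (k3 y hy)⟩, Or.inr k2⟩
    refine C.all E (sing_le hV1 (allSub_le (B := B) (hV := hV1) (t := t))) (fun h => by rw [h, card_bot] at c2; omega)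
      (fun u hu hu1 => hu.2.resolve_left hu1) fun s hs u hu => ?_
    by_cases hu1 : u = 1
    · rw [hu1, mul_one, mul_inv_cancel]; exact one_mem _
    obtain ⟨k1, k2, k3⟩ := (hiff u hu1).1 hu
    refine (hiff _ (B.pt_ne _ (B.pt_conj u k1 s))).2 ⟨B.pt_conj u k1 s, ?_, fun a ha => ?_⟩
    · have k4 := B.QQ_conj u k1 s t k2
      rwa [C.cent s hs, mul_inv_cancel_right] at k4
    · have k4 := B.QQ_conj u k1 s _ (k3 _ (hn s⁻¹ (inv_mem hs) a ha))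
      have e : s * (s⁻¹ * a * s⁻¹⁻¹) * s⁻¹ = a := by group
      rwa [e] at k4

theorem CtxB.t_mem (C : CtxB Γ t S) : t ∈ pCoreOf 2 S := by
  refine le_pCoreOf (U := zpowers t) (two_of_sq fun a ha => ?_) (zpowers_le.2 C.mem)
    (norm_of fun s hs => conj_of_comm fun a ha => ?_) (mem_zpowers t)
  · rcases mem_zp C.isA.1 ha with rfl | rfl
    exacts [mul_one 1, C.isA.1]
  · rcases mem_zp C.isA.1 ha with rfl | rfl
    exacts [by rw [mul_one, one_mul], C.cent s hs]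

/-- **`O₂(S)` contains no point.** -/
theorem CtxB.no_pt (C : CtxB Γ t S) (E : Ext Γ) : ∀ c ∈ pCoreOf 2 S, c ∉ Γ.Pt := by
  intro c hcT hc
  have B := E.F.basic
  have hT := pCoreOf_isPGroup S
  have hTt : ∀ u ∈ pCoreOf 2 S, u * t = t * u := fun u hu => C.cent u (pCoreOf_le S hu)
  have St := sit E hT fun g hg => cent_le_core (ch2_pt E hT hcT hc)
    (fun x hx => C.max _ hT hTt ⟨c, hcT, B.pt_ne c hc, fun h => C.isA.2.2 (h ▸ hc)⟩
      (fun s hs u hu => conj_of_norm (le_normalizer_pCoreOf S hs) hu) x (mem_cent.1 hx t C.t_mem)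
      (conj_of_comm (mem_cent.1 hx))) (le_normalizer_pCoreOf S) le_rfl hg
  have htZ := St.all t C.isA.1 hTt
  rcases MainCP.mainC E.F _ _ St with hO | ⟨F, hF0, hFZ, hF, hFn⟩
  · exact C.ark E hO htZ norm_omega
  · have hn : ∀ s ∈ S, ∀ u ∈ F, s * u * s⁻¹ ∈ F := fun s hs => hFn s (norm_omega s hs)
    by_cases h : allSub B hF t = ⊥
    · refine C.none E hF hF0 (fun u hu => St.ab u (hFZ hu) t htZ) (fun u hu hu1 h1 => hu1 ?_) hn
      exact mem_bot.1 (h ▸ (⟨hu, Or.inr h1⟩ : u ∈ allSub B hF t))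
    · refine C.all E (sing_le hF (allSub_le (B := B) (hV := hF) (t := t))) h (fun u hu hu1 => hu.2.resolve_left hu1)
        fun s hs u hu => ⟨hn s hs u hu.1, ?_⟩
      by_cases hu1 : u = 1
      · left; rw [hu1]; group
      · have k4 := B.QQ_conj u (hF.1 u hu.1 hu1) s t (hu.2.resolve_left hu1)
        rw [C.cent s hs, mul_inv_cancel_right] at k4
        exact Or.inr k4

end Cfsg.Agent.SB.SporB
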