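import Cfsg.Agent.SB.SporB.F24Gen
import Cfsg.Agent.SB.SporB.Geo

/-!
# S5765, `Fi24'`: an ark normalised by an element of order three (helper18)

* `sg_ark` : an ark has 32 more singular than non-singular elements.
* `ovoid` : four pairwise non-collinear points centralised by `y`.
-/

set_option autoImplicit false
set_option linter.unusedSectionVars false

namespace Cfsg.Agent.SB.SporB

open Subgroup Cfsg Cfsg.Agent.Co2Type.Quad
open Cfsg.Agent.R2.M7 Cfsg.Agent.R2.M7.Geo Cfsg.Agent.R2.M7.Elem Cfsg.Agent.R2.M7.Ark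

variable {G : Type*} [Group G] {Γ : Geo G}

/-! ### the signed count -/

/-- the sign -/
def chi (a : ZMod 2) : ℤ := if a = 0 then 1 else -1

theorem chi_add_one (a : ZMod 2) : chi (a + 1) = -1 * chi a := by revert a; decide

open Classical in
/-- singular minus non-singular -/
noncomputable def sg [Fintype G] (Γ : Geo G) (P : G → Prop) : ℤ := ∑ x, if P x then chi (Γ.kap x) else 0

section count

variable [Fintype G]

theorem sg_split (P R : G → Prop) : sg Γ P = sg Γ (fun x => P x ∧ R x) + sg Γ (fun x => P x ∧ ¬ R x) := by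
  unfold sg
  rw [← Finset.sum_add_distrib]
  refine Finset.sum_congr rfl fun x _ => ?_
  by_cases h1 : P x <;> by_cases h2 : R x <;> simp [h1, h2]

theorem sg_shift (u : G) {P P' : G → Prop} (ε : ℤ) (h : ∀ x, P (x * u) ↔ P' x)
    (hk : ∀ x, P' x → chi (Γ.kap (x * u)) = ε * chi (Γ.kap x)) : sg Γ P = ε * sg Γ P' := by
  unfold sg
  rw [← Equiv.sum_comp (Equiv.mulRight u), Finset.mul_sum]
  refine Finset.sum_congr rfl fun x _ => ?_
  rw [Equiv.coe_mulRight]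
  by_cases h1 : P' x
  · rw [if_pos ((h x).2 h1), if_pos h1, hk x h1]
  · rw [if_neg (fun h2 => h1 ((h x).1 h2)), if_neg h1, mul_zero]

theorem sg_congr {P P' : G → Prop} (h : ∀ x, P x ↔ P' x) : sg Γ P = sg Γ P' := by
  rw [show P = P' from funext fun x => propext (h x)]

theorem sg_eq (P : G → Prop) :
    sg Γ P = ({x | P x ∧ Γ.kap x = 0}.ncard : ℤ) - {x | P x ∧ Γ.kap x ≠ 0}.ncard := by
  classical
  have key : ∀ R : G → Prop, ({x | R x}.ncard : ℤ) = ∑ x, if R x then 1 else 0 := fun R => by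
    rw [Set.ncard_eq_toFinset_card', Set.toFinset_ofPred, Finset.card_filter]
    push_cast
    rfl
  rw [key, key, ← Finset.sum_sub_distrib]
  unfold sg chi
  refine Finset.sum_congr rfl fun x _ => ?_
  by_cases h1 : P x <;> by_cases h2 : Γ.kap x = 0 <;> simp [h1, h2]

theorem sg_mod3 (B : Γ.Basic) {y : G} (hy : y * y * y = 1) {P : G → Prop} (hP : ∀ a, P a → P (y * a * y⁻¹)) :
    sg Γ P % 3 = sg Γ (fun x => P x ∧ x * y = y * x) % 3 := by
  have h1 := ncard_mod3 hy (A := {x | P x ∧ Γ.kap x = 0}) fun a ha => ⟨hP a ha.1, by rw [kap_conj B]; exact ha.2⟩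
  have h2 := ncard_mod3 hy (A := {x | P x ∧ Γ.kap x ≠ 0}) fun a ha => ⟨hP a ha.1, by rw [kap_conj B]; exact ha.2⟩
  have e1 : {a | a ∈ {x | P x ∧ Γ.kap x = 0} ∧ a * y = y * a} = {x | (P x ∧ x * y = y * x) ∧ Γ.kap x = 0} :=
    Set.ext fun _ => and_right_comm
  have e2 : {a | a ∈ {x | P x ∧ Γ.kap x ≠ 0} ∧ a * y = y * a} = {x | (P x ∧ x * y = y * x) ∧ Γ.kap x ≠ 0} :=
    Set.ext fun _ => and_right_comm
  rw [e1] at h1
  rw [e2] at h2
  rw [sg_eq, sg_eq]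
  unfold Nat.ModEq at h1 h2
  omega

theorem sg_bot : sg Γ (fun x => x ∈ (⊥ : Subgroup G)) = 1 := by
  unfold sg
  rw [Finset.sum_eq_single 1 (fun b _ hb => if_neg fun h => hb (mem_bot.1 h)) (fun h => absurd (Finset.mem_univ _) h),
    if_pos (one_mem _), kap_one]
  rfl

end count

variable [Finite G] {O : Subgroup G}

theorem bet_self (A : Γ.ArkFacts) (hO : O ∈ Γ.Ark) {u : G} (hu : u ∈ O) : Γ.bet u u = 0 := by
  unfold Geo.bet
  rw [A.sq O hO u hu, kap_one, zero_add, add_self]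

/-- the orthogonal space -/
def perp (A : Γ.ArkFacts) (hO : O ∈ Γ.Ark) {u : G} (hu : u ∈ O) : Subgroup G where
  carrier := {x | x ∈ O ∧ Γ.bet x u = 0}
  one_mem' := ⟨O.one_mem, bet_one_left u⟩
  mul_mem' := fun {a b} ha hb => ⟨mul_mem ha.1 hb.1, by rw [A.bet_mul O hO a ha.1 b hb.1 u hu, ha.2, hb.2, add_zero]⟩
  inv_mem' := fun {a} ha => by rw [inv_eq A hO ha.1]; exact ha

theorem mem_perp {A : Γ.ArkFacts} {hO : O ∈ Γ.Ark} {u : G} {hu : u ∈ O} {x : G} :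
    x ∈ perp A hO hu ↔ x ∈ O ∧ Γ.bet x u = 0 := Iff.rfl

/-- non-degenerate -/
def ND (Γ : Geo G) (W : Subgroup G) : Prop := ∀ w ∈ W, w ≠ 1 → ∃ a ∈ W, Γ.bet a w = 1

section split

variable (A : Γ.ArkFacts) (hO : O ∈ Γ.Ark) {W : Subgroup G} (hW : W ≤ O) {u v : G} (hu : u ∈ W) (hv : v ∈ W)
  (huv : Γ.bet u v = 1)
include huv

theorem proj {a : G} (ha : a ∈ W) : ∃ b ∈ W ⊓ perp A hO (hW hu) ⊓ perp A hO (hW hv),
    b = a ∨ b = a * u ∨ b = a * v ∨ b = a * u * v := by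
  have h1 := bet_self A hO (hW hu)
  have h2 := bet_self A hO (hW hv)
  have h3 : Γ.bet v u = 1 := by rw [bet_symm A hO (hW hv) (hW hu), huv]
  have m := A.bet_mul O hO
  have hau := mul_mem ha hu
  rcases Ark.two_cases (Γ.bet a u) with k1 | k1 <;> rcases Ark.two_cases (Γ.bet a v) with k2 | k2
  · exact ⟨a, ⟨⟨ha, hW ha, k1⟩, hW ha, k2⟩, Or.inl rfl⟩
  · refine ⟨a * u, ⟨⟨hau, hW hau, ?_⟩, hW hau, ?_⟩, Or.inr (Or.inl rfl)⟩
    · rw [m a (hW ha) u (hW hu) u (hW hu), k1, h1, add_zero]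
    · rw [m a (hW ha) u (hW hu) v (hW hv), k2, huv, one_one]
  · have hav := mul_mem ha hv
    refine ⟨a * v, ⟨⟨hav, hW hav, ?_⟩, hW hav, ?_⟩, Or.inr (Or.inr (Or.inl rfl))⟩
    · rw [m a (hW ha) v (hW hv) u (hW hu), k1, h3, one_one]
    · rw [m a (hW ha) v (hW hv) v (hW hv), k2, h2, add_zero]
  · have hauv := mul_mem hau hv
    refine ⟨a * u * v, ⟨⟨hauv, hW hauv, ?_⟩, hW hauv, ?_⟩, Or.inr (Or.inr (Or.inr rfl))⟩
    · rw [m _ (hW hau) v (hW hv) u (hW hu), m a (hW ha) u (hW hu) u (hW hu), k1, h1, h3]; decide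
    · rw [m _ (hW hau) v (hW hv) v (hW hv), m a (hW ha) u (hW hu) v (hW hv), k2, h2, huv]; decide

theorem nd_split (h : ND Γ W) : ND Γ (W ⊓ perp A hO (hW hu) ⊓ perp A hO (hW hv)) := by
  intro w hw hw1
  obtain ⟨a, ha, haw⟩ := h w hw.1.1 hw1
  obtain ⟨b, hb, hab⟩ := proj A hO hW hu hv huv ha
  refine ⟨b, hb, ?_⟩
  have hwO := hW hw.1.1
  have h1 : Γ.bet u w = 0 := by rw [bet_symm A hO (hW hu) hwO]; exact hw.1.2.2
  have h2 : Γ.bet v w = 0 := by rw [bet_symm A hO (hW hv) hwO]; exact hw.2.2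
  have m := A.bet_mul O hO
  rcases hab with rfl | rfl | rfl | rfl
  · exact haw
  · rw [m a (hW ha) u (hW hu) w hwO, haw, h1, add_zero]
  · rw [m a (hW ha) v (hW hv) w hwO, haw, h2, add_zero]
  · rw [m _ (hW (mul_mem ha hu)) v (hW hv) w hwO, m a (hW ha) u (hW hu) w hwO, haw, h1, h2, add_zero, add_zero]

theorem card_split : 4 * Nat.card ↥(W ⊓ perp A hO (hW hu) ⊓ perp A hO (hW hv)) ≤ Nat.card W := by
  have h1 := two_mul_le' (A := W ⊓ perp A hO (hW hu)) inf_le_left hv fun h => by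
    have := h.2.2
    rw [bet_symm A hO (hW hv) (hW hu), huv] at this
    exact one_ne_zero this
  have h2 := two_mul_le' (A := W ⊓ perp A hO (hW hu) ⊓ perp A hO (hW hv)) inf_le_left
    (x := u) ⟨hu, hW hu, bet_self A hO (hW hu)⟩ fun h => one_ne_zero (huv.symm.trans h.2.2)
  omega

end split

theorem sg_hyp {G : Type*} [Group G] [Fintype G] {Γ : Geo G} {O : Subgroup G} (A : Γ.ArkFacts) (hO : O ∈ Γ.Ark)
    {W : Subgroup G} (hW : W ≤ O) {u v : G} (hu : u ∈ W) (hv : v ∈ W) (huv : Γ.bet u v = 1) (hk : Γ.kap u = 0) :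
    sg Γ (fun x => x ∈ W) = 2 * sg Γ (fun x => x ∈ W ⊓ perp A hO (hW hu) ⊓ perp A hO (hW hv)) := by
  have m := A.bet_mul O hO
  have h1 := bet_self A hO (hW hu)
  have hs : ∀ x, x * u ∈ W ↔ x ∈ W := fun x => W.mul_mem_cancel_right hu
  have k1 : ∀ x ∈ W, Γ.bet (x * u) u = Γ.bet x u := fun x hx => by rw [m x (hW hx) u (hW hu) u (hW hu), h1, add_zero]
  have k2 : ∀ x ∈ W, Γ.bet (x * u) v = Γ.bet x v + 1 := fun x hx => by rw [m x (hW hx) u (hW hu) v (hW hv), huv]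
  have e1 := sg_split (Γ := Γ) (fun x => x ∈ W) (fun x => Γ.bet x u = 0)
  have e2 := sg_shift (Γ := Γ) u (P := fun x => x ∈ W ∧ ¬ Γ.bet x u = 0) (P' := fun x => x ∈ W ∧ ¬ Γ.bet x u = 0) (-1)
    (fun x => by rw [hs]; exact and_congr_right fun hx => by rw [k1 x hx])
    (fun x hx => by rw [kap_mul, hk, add_zero, (Ark.two_cases _).resolve_left hx.2, chi_add_one])
  have e3 := sg_split (Γ := Γ) (fun x => x ∈ W ∧ Γ.bet x u = 0) (fun x => Γ.bet x v = 0)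
  have e4 := sg_shift (Γ := Γ) u (P := fun x => (x ∈ W ∧ Γ.bet x u = 0) ∧ ¬ Γ.bet x v = 0)
    (P' := fun x => (x ∈ W ∧ Γ.bet x u = 0) ∧ Γ.bet x v = 0) 1
    (fun x => by
      rw [hs, and_assoc, and_assoc]
      refine and_congr_right fun hx => ?_
      rw [k1 x hx, k2 x hx]
      generalize Γ.bet x v = c
      refine and_congr_right fun _ => ?_
      revert c; decide)
    (fun x hx => by rw [kap_mul, hk, hx.1.2, add_zero, add_zero, one_mul])
  have e5 : sg Γ (fun x => x ∈ W ⊓ perp A hO (hW hu) ⊓ perp A hO (hW hv)) =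
      sg Γ fun x => (x ∈ W ∧ Γ.bet x u = 0) ∧ Γ.bet x v = 0 :=
    sg_congr fun x => ⟨fun h => ⟨⟨h.1.1, h.1.2.2⟩, h.2.2⟩, fun h => ⟨⟨h.1.1, hW h.1.1, h.1.2⟩, hW h.1.1, h.2⟩⟩
  omega

theorem sg_top {G : Type*} [Group G] [Fintype G] {Γ : Geo G} {O : Subgroup G} (A : Γ.ArkFacts) (hO : O ∈ Γ.Ark) (k : ℕ) :
    ∀ W V : Subgroup G, W ≤ O → ND Γ W → V ≤ W → (∀ x ∈ V, Γ.kap x = 0) → 2 ^ k ≤ Nat.card V → Nat.card W ≤ 4 ^ k →
      sg Γ (fun x => x ∈ W) = 2 ^ k := by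
  induction k with
  | zero =>
    intro W V _ _ _ _ _ h
    rw [(card_le_one_iff_eq_bot W).1 h, sg_bot, pow_zero]
  | succ k ih =>
    intro W V hW hn hV hk h1 h2
    have h0 : 0 < 2 ^ k := by positivity
    obtain ⟨u, hu, hu1⟩ := exists_ne_one (E := V) (by omega)
    obtain ⟨v, hv, hvu⟩ := hn u (hV hu) hu1
    have huv : Γ.bet u v = 1 := by rw [bet_symm A hO (hW (hV hu)) (hW hv), hvu]
    have h3 := card_split A hO hW (hV hu) hv huv
    have h4 := le_two (S := V) (R := perp A hO (hW hv)) fun a ha b hb k1 k2 => by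
      have k3 := hW (hV ha)
      have k4 := hW (hV hb)
      rw [inv_eq A hO k3]
      refine ⟨mul_mem k3 k4, ?_⟩
      rw [A.bet_mul O hO a k3 b k4 v (hW hv), (Ark.two_cases _).resolve_left fun h => k1 ⟨k3, h⟩,
        (Ark.two_cases _).resolve_left fun h => k2 ⟨k4, h⟩, one_one]
    rw [sg_hyp A hO hW (hV hu) hv huv (hk u hu), ih _ (V ⊓ perp A hO (hW hv)) (inf_le_left.trans (inf_le_left.trans hW))
      (nd_split A hO hW (hV hu) hv huv hn) (fun x hx => ⟨⟨hV hx.1, hW (hV hx.1), ?_⟩, hx.2⟩) (fun x hx => hk x hx.1)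
      (by omega) (by omega), pow_succ, mul_comm]
    unfold Geo.bet
    rw [hk _ (mul_mem hx.1 hu), hk x hx.1, hk u hu]
    rfl

theorem kap_sing {V : Subgroup G} (hV : Γ.Sing V) : ∀ x ∈ V, Γ.kap x = 0 := fun x hx =>
  kap_eq_zero.2 ((em (x = 1)).imp_right (hV.1 x hx))

theorem sg_ark {G : Type*} [Group G] [Fintype G] {Γ : Geo G} {O : Subgroup G} (E : Ext Γ) (hO : O ∈ Γ.Ark) :
    sg Γ (fun x => x ∈ O) = 32 := by
  obtain ⟨V, hVO, hV, hc⟩ := E.big O hO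
  exact sg_top E.F.ark hO 5 O V le_rfl (fun w hw h => E.F.ark.bet_nondeg O hO w hw h) hVO (kap_sing hV) (by omega)
    (by rw [E.F.ark.card O hO]; norm_num)

/-! ### the groups `C_{Q_u}(y)` -/

theorem pt_of_kap {a : G} (h : Γ.kap a = 0) (h1 : a ≠ 1) : a ∈ Γ.Pt := (kap_eq_zero.1 h).resolve_left h1

section ovoid

variable (E : Ext Γ) (hO : O ∈ Γ.Ark) {y : G} (hy : y * y * y = 1)
include E hO hy

/-- transitivity on the points which are not collinear to `u` -/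
theorem exists_move {u w w' : G} (hu : u ∈ O) (hw : w ∈ O) (hw' : w' ∈ O) (pu : u ∈ Γ.Pt) (pw : w ∈ Γ.Pt)
    (pw' : w' ∈ Γ.Pt) (b1 : Γ.bet w u = 1) (b2 : Γ.bet w' u = 1) (yu : u * y = y * u) (yw : w * y = y * w)
    (yw' : w' * y = y * w') : ∃ d ∈ Γ.QQ u, d * y = y * d ∧ d * w * d⁻¹ = w' := by
  have B := E.F.basic
  have A := E.F.ark
  have hL := E.large u pu
  have n1 := (not_mem_QQ A hO hu pu hw).2 b1
  have n2 := (not_mem_QQ A hO hu pu hw').2 b2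
  have bad : ∀ q x : G, x ∈ O → x ∈ Γ.Pt → Γ.bet x u = 1 → q * w * q⁻¹ ≠ x * u := fun q x _ px bx h => by
    have h1 := kap_conj B w q
    rw [h, kap_mul, kap_pt px, kap_pt pu, kap_pt pw, bx] at h1
    revert h1; decide
  obtain ⟨q, hq, h⟩ := siegel hL (A.sq O hO w hw) (A.comm O hO w hw u hu) (mul_mem_QQ A hO hu pu hw' hw n2 n1)
    fun q hq h => by
      rcases h with h | h
      · exact CC_comm A hO (A.cent_le O hO u hu pu w (O_le_KK hw) n1 q hq (mul_inv_eq_iff_eq_mul.1 h)) (mul_mem hw' hw)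
      · exact absurd (h.trans (A.comm O hO u hu w hw)) (bad q w hw pw b1)
  have h1 : q * w * q⁻¹ = w' := by
    rcases h with h | h
    · rw [h, mul_assoc, A.sq O hO w hw, mul_one]
    · refine absurd ?_ (bad q w' hw' pw' b2)
      rw [h, mul_assoc w' w u, A.comm O hO w hw u hu, mul_assoc, mul_assoc, A.sq O hO w hw, mul_one]
  have hyQ : ∀ x ∈ Γ.QQ u, y * x * y⁻¹ ∈ Γ.QQ u := fun x hx => QQ_norm B pu yu.symm hx
  have h2 := ncard_mod3 hy (A := {d | d ∈ Γ.QQ u ∧ d * w * d⁻¹ = w'}) fun d hd => ⟨hyQ d hd.1, by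
    calc y * d * y⁻¹ * w * (y * d * y⁻¹)⁻¹ = y * d * (y⁻¹ * (w * y)) * d⁻¹ * y⁻¹ := by group
      _ = y * (d * w * d⁻¹) * y⁻¹ := by rw [yw]; group
      _ = w' := by rw [hd.2, ← yw']; group⟩
  have h3 : {d | d ∈ Γ.QQ u ∧ d * w * d⁻¹ = w'} = (fun c => q * c) '' ((Γ.QQ u ⊓ centralizer {w} : Subgroup G) : Set G) := by
    ext d
    constructor
    · rintro ⟨k1, k2⟩
      refine ⟨q⁻¹ * d, ⟨(Γ.QQ u).mul_mem ((Γ.QQ u).inv_mem hq) k1, mem_centralizer_singleton_iff.2 ?_⟩, by group⟩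
      calc q⁻¹ * d * w = q⁻¹ * (d * w * d⁻¹) * d := by group
        _ = w * (q⁻¹ * d) := by rw [k2, ← h1]; group
    · rintro ⟨c, ⟨k1, k2⟩, rfl⟩
      refine ⟨mul_mem hq k1, ?_⟩
      calc q * c * w * (q * c)⁻¹ = q * (c * w) * c⁻¹ * q⁻¹ := by group
        _ = w' := by rw [mem_centralizer_singleton_iff.1 k2, ← h1]; group
  by_contra hc
  have h4 : {a | a ∈ {d | d ∈ Γ.QQ u ∧ d * w * d⁻¹ = w'} ∧ a * y = y * a} = ∅ :=
    Set.eq_empty_of_forall_notMem fun a ha => hc ⟨a, ha.1.1, ha.2, ha.1.2⟩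
  rw [h4, Set.ncard_empty, h3, Set.ncard_image_of_injective _ (mul_right_injective q), ← Nat.card_coe_set_eq] at h2
  obtain ⟨n, hn⟩ := IsPGroup.iff_card.1 ((B.QQ_two u pu).to_le (inf_le_left (b := centralizer {w})))
  have h5 : 3 ∣ 2 ^ n := hn ▸ (Nat.modEq_zero_iff_dvd.1 h2)
  exact absurd (Nat.prime_three.dvd_of_dvd_pow h5) (by norm_num)

/-- a double transposition -/
theorem swap5 {a b c d e : G} (ha : a ∈ O) (hb : b ∈ O) (hc : c ∈ O) (hd : d ∈ O) (pa : a ∈ Γ.Pt) (pb : b ∈ Γ.Pt)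
    (pc : c ∈ Γ.Pt) (pd : d ∈ Γ.Pt) (ba : Γ.bet b a = 1) (ca : Γ.bet c a = 1) (da : Γ.bet d a = 1)
    (bc : Γ.bet b c = 1) (bd : Γ.bet b d = 1) (cd : Γ.bet c d = 1) (he : e = a * b * c * d)
    (ya : a * y = y * a) (yb : b * y = y * b) (yc : c * y = y * c) :
    ∃ g ∈ Γ.QQ a, g * y = y * g ∧ g * a * g⁻¹ = a ∧ g * b * g⁻¹ = c ∧ g * c * g⁻¹ = b ∧ g * d * g⁻¹ = e ∧
      g * e * g⁻¹ = d := by
  have B := E.F.basic
  have A := E.F.ark
  have hL := E.large a pa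
  obtain ⟨g, hg, hgy, hgb⟩ := exists_move E hO hy ha hb hc pa pb pc ba ca ya yb yc
  have hga : g * a * g⁻¹ = a := by rw [hL.comm_z g hg]; group
  have key : ∀ x ∈ O, Γ.bet x a = 1 → g * x * g⁻¹ = c * b * x ∨ g * x * g⁻¹ = c * b * x * a := by
    intro x hx hxa
    have h1 := conj_Q hL hg (mul_mem_QQ A hO ha pa hb hx ((not_mem_QQ A hO ha pa hb).2 ba)
      ((not_mem_QQ A hO ha pa hx).2 hxa))
    have h2 : g * x * g⁻¹ = c * (g * (b * x) * g⁻¹) := by
      calc g * x * g⁻¹ = g * (b * b) * x * g⁻¹ := by rw [A.sq O hO b hb, mul_one]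
        _ = (g * b * g⁻¹) * (g * (b * x) * g⁻¹) := by group
        _ = _ := by rw [hgb]
    rw [h2]
    rcases h1 with h1 | h1 <;> rw [h1]
    · left; group
    · right; group
  have hcb : c * b * c = b := by rw [A.comm O hO c hc b hb, mul_assoc, A.sq O hO c hc, mul_one]
  have h1 : g * c * g⁻¹ = b := by
    rcases key c hc ca with h | h
    · rw [h, hcb]
    · have h2 := kap_conj B c g
      rw [h, hcb, kap_mul, kap_pt pa, kap_pt pb, kap_pt pc, ba] at h2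
      exact absurd h2 (by decide)
  have h2 : g * d * g⁻¹ = e := by
    rcases key d hd da with h | h
    · have h2 := kap_conj B d g
      rw [h, kap_mul, kap_mul, kap_pt pb, kap_pt pc, kap_pt pd, A.bet_mul O hO c hc b hb d hd, bd, cd,
        bet_symm A hO hc hb, bc] at h2
      exact absurd h2 (by decide)
    · rw [h, he, A.comm O hO _ (mul_mem (mul_mem hc hb) hd) a ha, A.comm O hO c hc b hb]
      group
  refine ⟨g, hg, hgy, hga, hgb, h1, h2, ?_⟩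
  rw [← h2]
  have h3 : g * (g * d * g⁻¹) * g⁻¹ = (g * g) * d * (g * g)⁻¹ := by group
  rw [h3]
  rcases hL.sq g hg with h | h <;> rw [h]
  · group
  · rw [A.comm O hO a ha d hd]; group

/-- **Four pairwise non-collinear points.** -/
theorem ovoid {H : Subgroup G} {a b c d : G} (ha : a ∈ O) (hb : b ∈ O) (hc : c ∈ O) (hd : d ∈ O) (pa : a ∈ Γ.Pt)
    (pb : b ∈ Γ.Pt) (pc : c ∈ Γ.Pt) (pd : d ∈ Γ.Pt) (ab : Γ.bet a b = 1) (ac : Γ.bet a c = 1) (ad : Γ.bet a d = 1)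
    (bc : Γ.bet b c = 1) (bd : Γ.bet b d = 1) (cd : Γ.bet c d = 1) (ya : a * y = y * a) (yb : b * y = y * b)
    (yc : c * y = y * c) (yd : d * y = y * d)
    (hH : ∀ g, g * y = y * g → (∀ x ∈ O, g * x * g⁻¹ ∈ O) → g ∈ H) : ¬ Group.IsSolvable H := by
  have A := E.F.ark
  have m := A.bet_mul O hO
  have s := fun {x z : G} (hx : x ∈ O) (hz : z ∈ O) (h : Γ.bet x z = 1) => (bet_symm A hO hz hx).trans h
  have hab := mul_mem ha hb
  have habc := mul_mem hab hc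
  have he := mul_mem habc hd
  have ea : Γ.bet (a * b * c * d) a = 1 := by
    rw [m _ habc d hd a ha, m _ hab c hc a ha, m a ha b hb a ha, bet_self A hO ha, s ha hb ab, s ha hc ac, s ha hd ad]
    decide
  have eb : Γ.bet (a * b * c * d) b = 1 := by
    rw [m _ habc d hd b hb, m _ hab c hc b hb, m a ha b hb b hb, bet_self A hO hb, ab, s hb hc bc, s hb hd bd]
    decide
  have ec : Γ.bet (a * b * c * d) c = 1 := by
    rw [m _ habc d hd c hc, m _ hab c hc c hc, m a ha b hb c hc, bet_self A hO hc, ac, bc, s hc hd cd]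
    decide
  have ed : Γ.bet (a * b * c * d) d = 1 := by
    rw [m _ habc d hd d hd, m _ hab c hc d hd, m a ha b hb d hd, bet_self A hO hd, ad, bd, cd]
    decide
  obtain ⟨g₁, q₁, y₁, k₁⟩ := swap5 E hO hy ha hb hc hd pa pb pc pd (s ha hb ab) (s ha hc ac) (s ha hd ad) bc bd cd rfl
    ya yb yc
  obtain ⟨g₂, q₂, y₂, k₂⟩ := swap5 E hO hy (e := a * b * c * d) ha hb hd hc pa pb pd pc (s ha hb ab) (s ha hd ad) (s ha hc ac)
    bd bc (s hc hd cd) (by rw [mul_assoc _ c d, A.comm O hO c hc d hd, ← mul_assoc]) ya yb yd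
  obtain ⟨g₃, q₃, y₃, k₃⟩ := swap5 E hO hy (e := a * b * c * d) hb ha hd hc pb pa pd pc ab (s hb hd bd) (s hb hc bc) ad ac
    (s hc hd cd) (by rw [mul_assoc _ c d, A.comm O hO c hc d hd, ← mul_assoc, A.comm O hO a ha b hb]) yb ya yd
  have ne : ∀ {x z : G}, x ∈ O → Γ.bet x z = 1 → x ≠ z := fun hx h e => by
    rw [← e, bet_self A hO hx] at h
    exact zero_ne_one h
  refine not_solvable_five (u := ![a, b, c, d, a * b * c * d]) ?_ (hH g₁ y₁ (E.QO O hO a ha pa g₁ q₁))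
    (hH g₂ y₂ (E.QO O hO a ha pa g₂ q₂)) (hH g₃ y₃ (E.QO O hO b hb pb g₃ q₃)) ?_ ?_ ?_
  · have n1 := ne ha ab
    have n2 := ne ha ac
    have n3 := ne ha ad
    have n4 := ne hb bc
    have n5 := ne hb bd
    have n6 := ne hc cd
    have n7 := ne he ea
    have n8 := ne he eb
    have n9 := ne he ec
    have n10 := ne he ed
    generalize a * b * c * d = e at n7 n8 n9 n10
    intro i j h
    fin_cases i <;> fin_cases j <;> first | rfl | exact absurd h ‹_› | exact absurd h.symm ‹_›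
  · intro i
    fin_cases i
    exacts [k₁.1, k₁.2.1, k₁.2.2.1, k₁.2.2.2.1, k₁.2.2.2.2]
  · intro i
    fin_cases i
    exacts [k₂.1, k₂.2.1, k₂.2.2.2.1, k₂.2.2.1, k₂.2.2.2.2]
  · intro i
    fin_cases i
    exacts [k₃.2.1, k₃.1, k₃.2.2.2.1, k₃.2.2.1, k₃.2.2.2.2]

end ovoid

end Cfsg.Agent.SB.SporB
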