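import Cfsg.Agent.SB.SporB.Gen
import Cfsg.Agent.SB.Spor.Dens

/-!
# S5765, `Fi24'`: general lemmas (helper18)

* `ncard_mod3` : fixed points of an element of order three.
* `not_solvable_five` : three double transpositions on five elements.
* `siegel` : commutators with an involution acting on an extraspecial group.
-/

set_option autoImplicit false
set_option linter.unusedSectionVars false

namespace Cfsg.Agent.SB.SporB

open Subgroup Cfsg Cfsg.Agent.Co2Type.Quad

variable {G : Type*} [Group G]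

theorem conj3 {y : G} (hy : y * y * y = 1) (a : G) : y * (y * (y * a * y⁻¹) * y⁻¹) * y⁻¹ = a := by
  calc y * (y * (y * a * y⁻¹) * y⁻¹) * y⁻¹ = (y * y * y) * a * (y * y * y)⁻¹ := by group
    _ = a := by rw [hy]; group

/-- fixed points modulo three -/
theorem ncard_mod3 [Finite G] {y : G} (hy : y * y * y = 1) {A : Set G} (hA : ∀ a ∈ A, y * a * y⁻¹ ∈ A) :
    A.ncard ≡ {a | a ∈ A ∧ a * y = y * a}.ncard [MOD 3] := by
  classical
  have _ : Fintype A := Fintype.ofFinite A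
  have _ : Fact (Nat.Prime 3) := ⟨Nat.prime_three⟩
  let f : Function.End A := fun a => ⟨y * a * y⁻¹, hA a a.2⟩
  have hf : f ^ 3 ^ 1 = 1 := by
    funext a
    exact Subtype.ext (conj3 hy a)
  have h1 := Equiv.Perm.card_fixedPoints_modEq hf
  rw [← Nat.card_eq_fintype_card, ← Nat.card_eq_fintype_card, Nat.card_coe_set_eq] at h1
  have h2 : Nat.card (Function.fixedPoints f) = {a | a ∈ A ∧ a * y = y * a}.ncard := by
    rw [← Nat.card_coe_set_eq]
    refine Nat.card_congr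
      { toFun := fun a => ⟨a.1.1, a.1.2, (mul_inv_eq_iff_eq_mul.1 (congrArg Subtype.val a.2)).symm⟩
        invFun := fun a => ⟨⟨a.1, a.2.1⟩, Subtype.ext (mul_inv_eq_iff_eq_mul.2 a.2.2.symm)⟩
        left_inv := fun _ => rfl
        right_inv := fun _ => rfl }
  rwa [h2] at h1

theorem card_mod3 [Finite G] {y : G} (hy : y * y * y = 1) {U : Subgroup G} (hU : ∀ a ∈ U, y * a * y⁻¹ ∈ U)
    (h : U ⊓ centralizer {y} = ⊥) : Nat.card U % 3 = 1 := by
  have h1 := ncard_mod3 hy (A := (U : Set G)) hU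
  have h2 : {a | a ∈ (U : Set G) ∧ a * y = y * a} = {1} := by
    ext a
    constructor
    · intro ha
      have : a ∈ U ⊓ centralizer {y} := ⟨ha.1, mem_centralizer_singleton_iff.2 ha.2⟩
      rwa [h] at this
    · rintro rfl
      exact ⟨U.one_mem, by rw [one_mul, mul_one]⟩
  rw [h2, Set.ncard_singleton, ← Nat.card_coe_set_eq] at h1
  exact h1

/-- the action on five elements -/
def Act5 (u : Fin 5 → G) (g : G) (σ : Equiv.Perm (Fin 5)) : Prop := ∀ i, g * u i * g⁻¹ = u (σ i)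

theorem not_solvable_five {H : Subgroup G} {u : Fin 5 → G} (hu : Function.Injective u) {a b c : G} (ha : a ∈ H)
    (hb : b ∈ H) (hc : c ∈ H) (h1 : Act5 u a (Equiv.swap 1 2 * Equiv.swap 3 4))
    (h2 : Act5 u b (Equiv.swap 1 3 * Equiv.swap 2 4)) (h3 : Act5 u c (Equiv.swap 0 3 * Equiv.swap 2 4)) :
    ¬ Group.IsSolvable H := by
  intro hH
  let Γ : Subgroup (H × Equiv.Perm (Fin 5)) :=
    { carrier := {p | Act5 u p.1 p.2}
      one_mem' := fun i => by simp
      mul_mem' := fun {p q} hp hq i => by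
        have e : ((p * q).1 : G) * u i * ((p * q).1 : G)⁻¹ = p.1 * (q.1 * u i * (q.1 : G)⁻¹) * (p.1 : G)⁻¹ := by
          simp only [Prod.fst_mul, coe_mul]; group
        rw [e, hq i, hp]
        rfl
      inv_mem' := fun {p} hp i => by
        have h := hp (p.2⁻¹ i)
        rw [show p.2 (p.2⁻¹ i) = i by simp] at h
        show (p.1 : G)⁻¹ * u i * (p.1 : G)⁻¹⁻¹ = u (p.2⁻¹ i)
        rw [← h]; group }
  have hΓ : Group.IsSolvable Γ := by
    refine Group.isSolvable_of_isSolvable_injective (f := (MonoidHom.fst _ _).comp Γ.subtype) ?_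
    rw [injective_iff_map_eq_one]
    rintro ⟨⟨g, σ⟩, hp⟩ h
    have h4 : g = 1 := h
    subst h4
    refine Subtype.ext (Prod.ext rfl (Equiv.ext fun i => hu ?_))
    have := hp i
    simpa using this.symm
  have h4 : Group.IsSolvable ↥(Γ.map (MonoidHom.snd _ _)) :=
    Group.isSolvable_of_surjective (f := (MonoidHom.snd _ _).subgroupMap Γ) (MonoidHom.subgroupMap_surjective _ Γ)
  have h5 := Spor.eq_one_of_coprime h4 (u := Equiv.swap 1 2 * Equiv.swap 3 4)
    (v := Equiv.swap 1 3 * Equiv.swap 2 4 * (Equiv.swap 0 3 * Equiv.swap 2 4)) (a := 2) (b := 3) (c := 5)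
    ⟨(⟨a, ha⟩, _), h1, rfl⟩ (mul_mem ⟨(⟨b, hb⟩, _), h2, rfl⟩ ⟨(⟨c, hc⟩, _), h3, rfl⟩) (by decide) (by decide)
    (by decide +kernel) rfl rfl rfl
  revert h5
  decide

variable {Q : Subgroup G} {z : G}

/-- commutators with an involution -/
theorem siegel [Finite G] (h : Large Q z) {w a : G} (hw : w * w = 1) (hwz : w * z = z * w) (ha : a ∈ Q)
    (hc : ∀ q ∈ Q, (q * w * q⁻¹ = w ∨ q * w * q⁻¹ = z * w) → q * a = a * q) :
    ∃ q ∈ Q, q * w * q⁻¹ = a * w ∨ q * w * q⁻¹ = a * z * w := by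
  let W : centralizer ({z} : Set G) := ⟨w, mem_centralizer_singleton_iff.2 hwz⟩
  have hWW : W * W = 1 := Subtype.ext hw
  have hmem : ∀ q ∈ Q, q * w * q⁻¹ * w⁻¹ ∈ Q := fun q hq => by
    have := mul_mem hq (h.conj_mem w hwz _ (inv_mem hq))
    rwa [← mul_assoc, ← mul_assoc] at this
  have hpr : ∀ q (hq : q ∈ Q), h.pr ⟨_, hmem q hq⟩ = h.pr ⟨q, hq⟩ + h.act W (h.pr ⟨q, hq⟩) := by
    intro q hq
    rw [← h.neg_eq (h.act W _), ← map_neg, ← h.pr_inv, h.act_pr, ← h.pr_mul]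
    congr 1
    apply Subtype.ext
    show q * w * q⁻¹ * w⁻¹ = q * (w * q⁻¹ * w⁻¹)
    group
  let A : Subgroup G :=
    { carrier := {x | ∃ hx : x ∈ Q, ∃ v, h.pr ⟨x, hx⟩ = v + h.act W v}
      one_mem' := ⟨Q.one_mem, 0, by rw [map_zero, add_zero]; exact h.pr_one⟩
      mul_mem' := by
        rintro x y ⟨hx, v, hv⟩ ⟨hy, v', hv'⟩
        refine ⟨mul_mem hx hy, v + v', ?_⟩
        rw [map_add, add_add_add_comm, ← hv, ← hv']
        rfl
      inv_mem' := by
        rintro x ⟨hx, v, hv⟩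
        refine ⟨inv_mem hx, -v, ?_⟩
        rw [map_neg, ← neg_add, ← hv]
        rfl }
  have key : ∀ x (hx : x ∈ Q) (q : Q), h.pr ⟨x, hx⟩ = h.pr q + h.act W (h.pr q) →
      q * w * (q : G)⁻¹ = x * w ∨ q * w * (q : G)⁻¹ = x * z * w := by
    intro x hx q hq
    rw [← hpr q q.2] at hq
    rcases h.pr_eq_pr.1 hq.symm with h1 | h1
    · exact Or.inl (mul_inv_eq_iff_eq_mul.1 h1)
    · exact Or.inr (mul_inv_eq_iff_eq_mul.1 h1)
  have h1 := perp_perp h (A := A) (fun x hx => hx.1) ha fun q hq hqA => by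
    refine hc q hq ?_
    have h2 : h.pr ⟨q, hq⟩ + h.act W (h.pr ⟨q, hq⟩) = 0 := h.b_nondeg fun v => by
      obtain ⟨s, rfl⟩ := h.pr_surjective v
      have h3 := (h.b_pr ⟨q, hq⟩ ⟨_, hmem s s.2⟩).2 (hqA _ ⟨hmem s s.2, _, hpr s s.2⟩)
      have h4 : h.act W (h.act W (h.pr s)) = h.pr s := by
        rw [← LinearEquiv.mul_apply, ← map_mul, hWW, map_one]
        rfl
      rw [hpr s s.2, map_add, ← h.b_act W _ (h.act W _), h4] at h3
      rw [map_add, LinearMap.add_apply]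
      exact h3
    have h3 := key 1 Q.one_mem ⟨q, hq⟩ h2.symm
    rwa [one_mul, one_mul] at h3
  rcases h1 with ⟨hx, v, hv⟩ | ⟨hx, v, hv⟩
  · obtain ⟨q, rfl⟩ := h.pr_surjective v
    exact ⟨q, q.2, key a hx q hv⟩
  · obtain ⟨q, rfl⟩ := h.pr_surjective v
    refine ⟨q, q.2, (key _ hx q hv).symm.imp_left fun h2 => ?_⟩
    rwa [mul_assoc a z z, h.z_sq, mul_one] at h2

end Cfsg.Agent.SB.SporB
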