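import Cfsg.Agent.SB.SporB.Geo
import Cfsg.Agent.R2.H10.Mon.Final
import Cfsg.Agent.R2.H8.Mon.Adj
import Cfsg.Agent.SporadicStructure.OctadSpan

/-!
# S5765, the large sporadic groups: the facts `Ext` for the Monster (helper18)
-/

set_option autoImplicit false
set_option maxRecDepth 100000
set_option linter.unusedSectionVars false

namespace Cfsg.Agent.SB.SporB

open Subgroup Cfsg
open Cfsg.Agent.SporadicA.Co1Simple (allOne)
open Cfsg.Agent.CoOneType.SignFacts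
open Cfsg.Agent.CoOneType.CoOneE (sup_mem_octads sup_wordPerm sup_inj sup_add)
open Cfsg.Agent.SporadicA.Co0Mono (wordPerm)
open Cfsg.Agent.MonsterU.Lam2 (L2)
open Cfsg.Agent.MonsterU.CoFrameL2 (W1 W12)
open Cfsg.Agent.H848.TrioU (pairL pairL_add_right pairL_zero_right mem_W1_iff_pairL)
open Cfsg.Agent.H848.TenB (T mem_T_Q)
open Cfsg.Agent.R2.H4.Mon.Frm Cfsg.Agent.R2.H4.Mon.GeoInst Cfsg.Agent.R2.H4.Mon.GeoConj
open Cfsg.Agent.R2.H4.Mon.ArkStd (CC_T_Q)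
open Cfsg.Agent.R2.H8.Mon
open Cfsg.Agent.R2.H10.Mon.TwoA (AFacts)
open Cfsg.Agent.R2.M7 Cfsg.Agent.R2.M7.Geo
open Cfsg.Spor (Co1)
open scoped Pointwise

/-- an octad in the kernel, disjoint from a word which is not in the kernel -/
theorem exists_oct {x : L2} (hx : x ∈ W12) (h1 : x ∉ W1) :
    ∃ o c : golayCode, wt o = 8 ∧ pairL x o = 0 ∧ Disjoint (sup c) (sup o) ∧ pairL x c ≠ 0 := by
  obtain ⟨c, hc, hxc⟩ : ∃ c : golayCode, wt c = 8 ∧ pairL x c ≠ 0 := by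
    by_contra h
    push Not at h
    refine h1 ((mem_W1_iff_pairL hx).2 fun c => ?_)
    exact Cfsg.Agent.SporadicStructure.OctadSpan.golay_induction (P := fun w => ∀ hw, pairL x ⟨w, hw⟩ = 0)
      (fun _ => pairL_zero_right hx)
      (fun v w hv hw h1 h2 _ => by
        have h3 := pairL_add_right hx ⟨v, hv⟩ ⟨w, hw⟩
        rw [h1, h2, add_zero] at h3
        exact h3)
      (fun w hw h8 _ => h ⟨w, hw⟩ h8) c c.2 c.2
  obtain ⟨σ, hσ⟩ := Cfsg.Agent.S0367.result _ _ ((sup_mem_octads _).2 (Lat.wt_ot 0)) ((sup_mem_octads c).2 hc)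
  have hd : Disjoint (sup c) (sup (wordPerm σ (Lat.ot 1))) := by
    rw [sup_wordPerm, ← hσ, Lat.sup_ot, Lat.sup_ot, Finset.disjoint_left]
    intro p h1 h2
    rw [← Finset.inv_smul_mem_iff] at h1 h2
    exact Finset.disjoint_left.1 (Cfsg.Agent.GolayTrio.Std.OO_disjoint (by decide : (0 : Fin 3) ≠ 1)) h1 h2
  have h8 : wt (wordPerm σ (Lat.ot 1)) = 8 := (Adj.wt_wordPerm σ _).trans (Lat.wt_ot 1)
  generalize wordPerm σ (Lat.ot 1) = d at hd h8
  by_cases h0 : pairL x d = 0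
  · exact ⟨d, c, h8, h0, hd, hxc⟩
  · refine ⟨c + d + allOne, c, ?_, ?_, ?_, hxc⟩
    · have k1 := wt_add_allOne (c + d)
      have k2 := Cfsg.Agent.CoOneType.CoOneE.wt_add c d
      rw [Finset.disjoint_iff_inter_eq_empty.1 hd, Finset.card_empty] at k2
      omega
    · rw [pairL_add_right hx, pairL_add_right hx, Lat.ev_allOne hx]
      revert hxc h0
      generalize pairL x c = a
      generalize pairL x d = b
      revert a b; decide
    · rw [sup_add_allOne, sup_add, Finset.disjoint_left]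
      intro p hp hp'
      rw [Finset.mem_compl, Finset.mem_symmDiff] at hp'
      exact hp' (Or.inl ⟨hp, Finset.disjoint_left.1 hd hp⟩)

section

variable {G : Type*} [Group G] [Finite G] {Q : Subgroup G} {z : G} {eta : G → L2}
  {pi : centralizer ({z} : Set G) →* Co1} {y τ : G} {o : golayCode}

theorem syl_of (F : Fr Q z eta pi y τ)
    (hG : Nat.card G = 808017424794512875886459904961710757005754368000000000) (U : Subgroup G) (hU : IsPGroup 2 U) :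
    ∃ c, TwoB z c ∧ ∀ t ∈ U, t * c = c * t := by
  have h1 := (centralizer ({z} : Set G)).card_mul_index
  rw [Cfsg.Agent.MonsterU.AmalElts.card_centralizer F.ch, hG] at h1
  have h2 : ¬ 2 ∣ Nat.card (G ⧸ centralizer ({z} : Set G)) := by
    rw [← index_eq_card]; omega
  obtain ⟨q, hq⟩ := hU.nonempty_fixed_point_of_prime_not_dvd_card (G ⧸ centralizer ({z} : Set G)) h2
  obtain ⟨g, rfl⟩ := QuotientGroup.mk_surjective q
  refine ⟨g * z * g⁻¹, ⟨g, rfl⟩, fun t ht => ?_⟩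
  have h3 : ((t * g : G) : G ⧸ centralizer ({z} : Set G)) = g := hq ⟨t, ht⟩
  have h4 := mem_centralizer_singleton_iff.1 (QuotientGroup.eq.1 h3)
  calc t * (g * z * g⁻¹) = t * g * (z * ((t * g)⁻¹ * g)) * g⁻¹ * t := by group
    _ = _ := by rw [← h4]; group

theorem line4_of (ho : wt o = 8) (F : Fr Q z eta pi y τ) (hE : TE F.ch τ) {t : G} (ht : t ∈ Q) (hty : t ∈ QQ Q z y)
    (h1 : t ≠ 1) (h2 : ¬ TwoB z t) : ∃ O ∈ (geo F.ch o).Ark, z ∈ O ∧ y ∈ O ∧ t ∈ CC O ∧ t ∉ O := by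
  have h12 : eta t ∈ W12 := (Sing.mem_EE_of F ht (Or.inl hty)).2
  obtain ⟨o', c, ho', k1, k2, k3⟩ := exists_oct h12 (fun h => by
    rcases Adj.mem_of_W1 F ht h with rfl | rfl | rfl | rfl
    exacts [h1 rfl, h2 (TwoB.self _), h2 F.twoB_y, h2 (F.zy_comm ▸ F.twoB_zy)])
  exact ⟨T F.ch o', Adj.ark_T F.ch ho ho', z_mem_T (facts ho') F hE, y_mem_T (facts ho') F hE,
    (CC_T_Q F.ch ht).2 (Lat.mem_W16_of_pair h12 k1),
    fun h => k3 ((Lat.mem_W8_iff ho' h12).1 ((mem_T_Q F.ch ht).1 h) c k2)⟩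

/-- **The facts from a frame.** -/
theorem ext_of (ho : wt o = 8) (F : Fr Q z eta pi y τ) (hE : TE F.ch τ) (A : AFacts z)
    (hG : Nat.card G = 808017424794512875886459904961710757005754368000000000)
    (h4 : ∃ t, IsA (geo F.ch o) t ∧ ∃ w : Fin 4 → G, ∀ u, u * u = 1 → u ≠ 1 → u ≠ t → u * t = t * u →
      ∃ i g, g * t = t * g ∧ g * w i * g⁻¹ = u) : Ext (geo F.ch o) := by
  have FF := Cfsg.Agent.R2.H10.Mon.Final.facts_all ho F hE
  have pull : ∀ k a : G, ∃ b, a = k * b * k⁻¹ := fun k a => ⟨k⁻¹ * a * k, by group⟩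
  have em : ∀ k a b : G, k * a * k⁻¹ * (k * b * k⁻¹) = k * (a * b) * k⁻¹ := fun k a b => by group
  refine ⟨FF, fun x hx => large_QQ F.ch.large hx, syl_of F hG, ?_, ?_, ?_, ⟨_, Adj.ark_T F.ch ho ho⟩, ?_, ?_,
    A.conj, A.pair, A.pure, h4⟩
  · intro O hO v hv hvp q hq a ha
    obtain ⟨k, rfl, rfl⟩ := std1 (facts ho) F hE hO hv hvp
    obtain ⟨q, rfl⟩ := pull k q
    obtain ⟨a, rfl⟩ := pull k a
    rw [QQ_conj_iff, geo_QQ, F.QQ_z] at hq
    have e : k * q * k⁻¹ * (k * a * k⁻¹) * (k * q * k⁻¹)⁻¹ = k * (q * a * q⁻¹) * k⁻¹ := by group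
    rw [e]
    exact conj_mem_cj.2 (Cfsg.Agent.H848.TenB.conj_T_Q F.ch hq (conj_mem_cj.1 ha))
  · intro O hO v hv hvp s hs
    obtain ⟨k, rfl, rfl⟩ := std1 (facts ho) F hE hO hv hvp
    obtain ⟨s, rfl⟩ := pull k s
    refine conj_mem_cj.2 ((Cfsg.Agent.H848.TenB.mem_T F.ch).2 fun x hx => conj_injective k ?_)
    have h1 := hs (k * x * k⁻¹) (CC_conj_iff.2 ((CC_T_Q F.ch hx.1).2 hx.2))
      (QQ_conj_iff.2 (by rw [geo_QQ, F.QQ_z]; exact hx.1))
    rwa [em, em] at h1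
  · rintro O ⟨k, rfl⟩
    obtain ⟨x, hx, h1⟩ : ∃ x ∈ W12, x ∉ W1 := by
      by_contra h
      push Not at h
      have h2 := AddSubgroup.card_le_of_le (show W12 ≤ W1 from h)
      rw [Cfsg.Agent.MonsterU.CoFrameIrr.card_W12, Cfsg.Agent.MonsterU.CoFrameIrr.card_W1] at h2
      omega
    obtain ⟨o', c, ho', k1, k2, k3⟩ := exists_oct hx h1
    obtain ⟨s, hs, rfl⟩ := F.ch.eta_surj x
    have hO := Adj.ark_T F.ch ho ho'
    have hsO : s ∉ T F.ch o' := fun h => k3 ((Lat.mem_W8_iff ho' hx).1 ((mem_T_Q F.ch hs).1 h) c k2)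
    obtain ⟨V, v1, v2, v3, -, v5⟩ := Ark.exists_V FF.basic FF.ark hO hsO
    have hV : (geo F.ch o).Sing V := ⟨fun v hv h => (v3 v hv h).1, v5⟩
    have hc : Nat.card V = 32 := by
      rw [Ark.ncard_eq V v1]
      refine FF.ark.V_card _ hO z (z_mem_T (facts ho') F hE) (TwoB.self z) s
        ((CC_T_Q F.ch hs).2 (Lat.mem_W16_of_pair hx k1)) (by rw [geo_QQ, F.QQ_z]; exact hs) ?_ hsO
      exact (F.ch.sq_one hs).2 (Cfsg.Agent.H848.TrioK.qf_W12 hx)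
    obtain ⟨g, hg⟩ := hO
    refine ⟨cj (k * g⁻¹) V, ?_, sing_cj FF.basic hV _, (card_cj _ V).trans hc⟩
    rintro _ ⟨v, hv, rfl⟩
    have h2 := v2 hv
    rw [hg, mem_cj] at h2
    rw [mem_cj]
    have e : k⁻¹ * (MulAut.conj (k * g⁻¹)).toMonoidHom v * k = g⁻¹ * v * g := by
      show k⁻¹ * (k * g⁻¹ * v * (k * g⁻¹)⁻¹) * k = _
      group
    rwa [e]
  · intro x hx v hv h1 h2 x' hx' v' hv' h1' h2'
    obtain ⟨k, rfl, rfl⟩ := Sing.pair_conj F hx hv h1 h2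
    obtain ⟨k', rfl, rfl⟩ := Sing.pair_conj F hx' hv' h1' h2'
    exact ⟨k' * k⁻¹, by group, by group⟩
  · intro x hx v hv h1 h2 t htx htv ht
    obtain ⟨k, rfl, rfl⟩ := Sing.pair_conj F hx hv h1 h2
    obtain ⟨t, rfl⟩ := pull k t
    rw [QQ_conj_iff, geo_QQ] at htx htv
    rw [F.QQ_z] at htx
    obtain ⟨O, hO, k1, k2, k3, k4⟩ := line4_of ho F hE htx htv (fun h => ht.2.1 (by rw [h]; group))
      (fun h => ht.2.2 (h.conj k))
    exact ⟨cj k O, ark_conj_iff.2 hO, conj_mem_cj.2 k1, conj_mem_cj.2 k2, CC_conj_iff.2 k3,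
      fun h => k4 (conj_mem_cj.1 h)⟩

end

section model

open Cfsg.Agent.MonsterX Cfsg.Agent.MonsterX.InstData Cfsg.Agent.MonsterX.MainPack Cfsg.Agent.MonsterU
open Cfsg.Agent.MonsterP Cfsg.Agent.MonsterN Cfsg.Agent.LThree
open Cfsg.Agent.MonsterX.MainBasic Cfsg.Agent.MonsterX.MainSimple Cfsg.Agent.MonsterX.Model
open Cfsg.Agent.LThreeB.Row (TA)
open Cfsg.Agent.R2.H4.Mon.MonFr
open Cfsg.Agent.LThreeMB (KChart.Cent KChart.pi KChart.chart KChart.pi_eq)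

/-- the group of the model -/
abbrev MG : Type := ↥InstData.M.G

theorem card_MG : Nat.card MG = 808017424794512875886459904961710757005754368000000000 := by
  obtain ⟨e⟩ := Cfsg.Agent.MonsterP.Equiv.equiv
  rw [← card]
  exact Nat.card_congr e.toEquiv.symm

theorem ta_t : TA (KDone.K.ι KLinkInst.x₀) := by
  obtain ⟨k, hk⟩ := Cfsg.Agent.MThirteen.TwoARow.exists_conj (t := tG LitFin.all.hG LitFin.all.hR) (IsConj.refl _)
  exact isConj_iff.2 ⟨k, hk⟩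

theorem four_model : ∃ w : Fin 4 → MG, ∀ u : MG, u * u = 1 → u ≠ 1 → u ≠ KDone.K.ι KLinkInst.x₀ →
    u * KDone.K.ι KLinkInst.x₀ = KDone.K.ι KLinkInst.x₀ * u →
      ∃ i g, g * KDone.K.ι KLinkInst.x₀ = KDone.K.ι KLinkInst.x₀ * g ∧ g * w i * g⁻¹ = u := by
  obtain ⟨f₁, f₂, f₃, f₄, Fc, -⟩ := FusInst.exists_facts LitFin.all KDone.lnk KDone.lft
    (TauInst.tauHyp (Final.cent InstanceFinal.mOrbit Instance.mTrans)) KDone.lnk.x₀_mem
  refine ⟨fun i => ((![f₁, f₁ * f₂, LitInst.tb KDone.K KLinkInst.x₀ * (f₁ * f₂), f₁ * f₂ * f₃] i :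
    LitInst.BB KDone.K KLinkInst.x₀) : MG), fun u h1 h2 h3 h4 => ?_⟩
  obtain ⟨i, hi⟩ : ∃ i, IsConj (![f₁, f₁ * f₂, LitInst.tb KDone.K KLinkInst.x₀ * (f₁ * f₂), f₁ * f₂ * f₃] i)
      (⟨u, mem_centralizer_singleton_iff.2 h4⟩ : LitInst.BB KDone.K KLinkInst.x₀) := by
    rcases Fc.classes ⟨u, mem_centralizer_singleton_iff.2 h4⟩ (Subtype.ext h1) (fun h => h2 (congrArg Subtype.val h))
      (fun h => h3 (congrArg Subtype.val h)) with h | h | h | h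
    exacts [⟨0, h⟩, ⟨1, h⟩, ⟨2, h⟩, ⟨3, h⟩]
  obtain ⟨c, hc⟩ := isConj_iff.1 hi
  exact ⟨i, c, mem_centralizer_singleton_iff.1 c.2, congrArg Subtype.val hc⟩

/-- **The geometry of the model.** -/
theorem exists_frame : ∃ (eta : MG → L2) (pi : centralizer ({KDone.K.z} : Set MG) →* Co1) (y τ : MG) (o : golayCode),
    wt o = 8 ∧ ∃ F : Fr KDone.K.ι.range KDone.K.z eta pi y τ, TE F.ch τ ∧ Ext (geo F.ch o) := by
  have := finite_model
  have := simple_model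
  have h := KChart.chart KDone.lft hc
  obtain ⟨g, h1, h2, -⟩ := Cfsg.Agent.MonsterU.Fused.exists_type_four h
  obtain ⟨s, τ, h3, h4, h5⟩ := Cfsg.Agent.MonsterU.AmalSideOf.exists_frame h h1 h2 ⟨g, rfl⟩
  obtain ⟨τ', F, hE⟩ := Fr.exists_TE
    { ch := h.smul s, hyQ := h1, hy := h5, τz := h3, τy := h4, noB := noB_smul noB_model s }
  obtain ⟨o, ho⟩ := exists_octad
  exact ⟨_, _, _, _, o, ho, F, hE, ext_of ho F hE Cfsg.Agent.R2.H10.Mon.TwoA.afacts_model card_MG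
    ⟨_, Cfsg.Agent.R2.H10.Mon.TwoA.isA_of_ta ta_t, four_model⟩⟩

theorem exists_ext : ∃ Γ : Geo MG, (∀ c, c ∈ Γ.Pt ↔ TwoB KDone.K.z c) ∧ Ext Γ := by
  obtain ⟨eta, pi, y, τ, o, -, F, -, E⟩ := exists_frame
  exact ⟨_, fun _ => Iff.rfl, E⟩

end model

end Cfsg.Agent.SB.SporB
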