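import Cfsg.Agent.SB.SporB.F24Geo
import Cfsg.Agent.SB.SporB.Inst
import Cfsg.Agent.R2.H4.Mon.MainBTop
import Cfsg.Agent.R2.H8.Mon.Ex
import Cfsg.Agent.H848.NormFour
import Cfsg.Agent.H848.NormFive
import Cfsg.Agent.H865.Three
import Cfsg.Agent.PLocal.PConstrained

/-!
# S5765, `Fi24'`: the facts `Ext2` for the Monster (helper18)
-/

set_option autoImplicit false
set_option maxRecDepth 100000
set_option linter.unusedSectionVars false

namespace Cfsg.Agent.SB.SporB

open Subgroup Cfsg

section m24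

open Cfsg.Agent.SporadicStructure.M24El Cfsg.Agent.SporadicA.GolayPerm Cfsg.Agent.SporadicA.GolayBase

theorem m24_triple {X a b : ℕ} {r : ℕ} (hX : ok X = true) (ha : ok a = true) (hb : ok b = true)
    (h1 : pcomp a X = pcomp X a) (h2 : pcomp b X = pcomp X b) (h3 : prodW [a] [0, 0] = idP)
    (h4 : prodW [b] [0, 0, 0] = idP) (h5 : prodW [pcomp a b] (List.replicate r 0) = idP) (hr : Nat.gcd 2 r = 1)
    (hr' : Nat.gcd 3 r = 1) (h6 : papp a 0 ≠ 0 ∨ papp a 1 ≠ 1 ∨ papp a 2 ≠ 2) :
    ¬ Group.IsSolvable ↥(centralizer ({el X} : Set M24)) := by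
  intro h
  have key : ∀ c, ok c = true → ∀ n, prodW [c] (List.replicate n 0) = idP → el c ^ n = 1 := fun c hc n hn => by
    have h7 := el_prodW (gl := [c]) (fun P hP => by rw [List.mem_singleton.1 hP]; exact hc) (List.replicate n 0)
    rw [hn, el_idP, List.map_replicate, List.prod_replicate] at h7
    exact h7.symm
  have h7 := Spor.eq_one_of_coprime h (u := el a) (v := el b) (a := 2) (b := 3) (c := r)
    (mem_centralizer_singleton_iff.2 (by rw [← el_pcomp ha hX, ← el_pcomp hX ha, h1]))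
    (mem_centralizer_singleton_iff.2 (by rw [← el_pcomp hb hX, ← el_pcomp hX hb, h2]))
    (key a ha 2 h3) (key b hb 3 h4) (by rw [← el_pcomp ha hb]; exact key _ (ok_pcomp ha hb) r h5) rfl hr hr'
  have h8 : ∀ i < 24, papp a i = i := fun i hi => by
    have := idx_el_smul ha (pt i)
    rw [h7, one_smul, idx_pt hi] at this
    exact this.symm
  rcases h6 with h6 | h6 | h6
  exacts [h6 (h8 0 (by norm_num)), h6 (h8 1 (by norm_num)), h6 (h8 2 (by norm_num))]

theorem m24_A : ¬ Group.IsSolvable ↥(centralizer ({el H865.Three.A} : Set M24)) :=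
  m24_triple (a := 801366537225252458491948018736271392) (b := 562319172575553240365347540860740660) (r := 5)
    H865.Three.okA (by decide +kernel) (by decide +kernel) (by decide +kernel) (by decide +kernel) (by decide +kernel)
    (by decide +kernel) (by decide +kernel) rfl rfl (by decide +kernel)

theorem m24_B : ¬ Group.IsSolvable ↥(centralizer ({el H865.Three.B} : Set M24)) :=
  m24_triple (a := 474044960572914891173316224994649328) (b := 85252718391155478547107945741257952) (r := 7)
    H865.Three.okB (by decide +kernel) (by decide +kernel) (by decide +kernel) (by decide +kernel) (by decide +kernel)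
    (by decide +kernel) (by decide +kernel) rfl rfl (by decide +kernel)

theorem solv_le {G : Type*} [Group G] {A B : Subgroup G} (h : A ≤ B) (hB : Group.IsSolvable B) : Group.IsSolvable A :=
  Group.isSolvable_of_isSolvable_injective (f := inclusion h) (inclusion_injective h)

theorem solv_map {G H : Type*} [Group G] [Group H] (f : G →* H) {A : Subgroup G} (hA : Group.IsSolvable A) :
    Group.IsSolvable ↥(A.map f) :=
  Group.isSolvable_of_surjective (f := f.subgroupMap A) (f.subgroupMap_surjective A)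

theorem solv_cent_conj {G : Type*} [Group G] {a : G} (c : G) (h : Group.IsSolvable ↥(centralizer ({a} : Set G))) :
    Group.IsSolvable ↥(centralizer ({c * a * c⁻¹} : Set G)) := by
  refine solv_le (fun g hg => ?_) (solv_map (MulAut.conj c).toMonoidHom h)
  refine ⟨c⁻¹ * g * c, mem_centralizer_singleton_iff.2 ?_, by simp [mul_assoc]⟩
  calc c⁻¹ * g * c * a = c⁻¹ * (g * (c * a * c⁻¹)) * c := by group
    _ = a * (c⁻¹ * g * c) := by rw [mem_centralizer_singleton_iff.1 hg]; group

theorem m24_three {a : M24} (ha : a * a * a = 1) : ¬ Group.IsSolvable ↥(centralizer ({a} : Set M24)) := by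
  intro h
  by_cases h1 : a = 1
  · exact m24_A (solv_le (fun g _ => mem_centralizer_singleton_iff.2 (by rw [h1, mul_one, one_mul])) h)
  have _ : Fact (Nat.Prime 3) := ⟨Nat.prime_three⟩
  obtain ⟨c, hc | hc⟩ := H865.Three.conj_of_orderOf (orderOf_eq_prime (by rw [pow_three, ← mul_assoc, ha]) h1)
  · exact m24_A (hc ▸ solv_cent_conj c h)
  · exact m24_B (hc ▸ solv_cent_conj c h)

end m24

/-- a group over `M24 × S3` with kernel a 2-group -/
theorem over_m24 {N : Type*} [Group N] [Finite N] (f : N →* M24 × Equiv.Perm (Fin 3)) (hf : Function.Surjective f)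
    (hk : Nat.card f.ker = 2 ^ 35) :
    ¬ 13 ∣ Nat.card N ∧ ∀ y : N, y * y * y = 1 → ¬ Group.IsSolvable ↥(centralizer ({y} : Set N)) := by
  constructor
  · rw [card_eq_card_quotient_mul_card_subgroup f.ker, hk,
      Nat.card_congr (QuotientGroup.quotientKerEquivOfSurjective f hf).toEquiv, Nat.card_prod,
      Cfsg.Agent.SporadicA.M24Trans.card_M24, Nat.card_perm, Nat.card_fin]
    decide
  · intro y hy h
    have _ : Fact (Nat.Prime 3) := ⟨Nat.prime_three⟩
    have h1 := PLocal.PConstrained.map_centralizer_eq (p := 3) f hf (by rw [hk]; decide) (P := zpowers y) (by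
      rintro ⟨_, k, rfl⟩
      refine ⟨1, Subtype.ext ?_⟩
      show (y ^ k) ^ 3 ^ 1 = 1
      rw [pow_one, ← zpow_natCast, ← zpow_mul, mul_comm, zpow_mul, zpow_natCast, pow_three, ← mul_assoc, hy, one_zpow])
    have h2 : Group.IsSolvable ↥(centralizer ((zpowers y : Subgroup N) : Set N)) :=
      solv_le (centralizer_le (Set.singleton_subset_iff.2 (mem_zpowers y))) h
    have h3 := solv_map (MonoidHom.fst _ _) (h1 ▸ solv_map f h2)
    refine m24_three (a := (f y).1) (by rw [← Prod.fst_mul, ← Prod.fst_mul, ← map_mul, ← map_mul, hy, map_one]; rfl)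
      (solv_le ?_ h3)
    refine fun c hc => ⟨(c, 1), mem_centralizer_iff.2 ?_, rfl⟩
    rintro _ ⟨_, ⟨k, rfl⟩, rfl⟩
    have h4 : Commute (f y) (c, 1) :=
      Prod.ext (mem_centralizer_singleton_iff.1 hc).symm (by show _ * 1 = 1 * _; rw [mul_one, one_mul])
    rw [map_zpow]
    exact (h4.zpow_left k).eq

section

open Cfsg.Agent.CoOneType.SignFacts
open Cfsg.Agent.MonsterU.Lam2 (L2)
open Cfsg.Agent.H848.TenB (T)
open Cfsg.Agent.R2.H4.Mon.Frm Cfsg.Agent.R2.H4.Mon.GeoInst Cfsg.Agent.R2.H4.Mon.GeoConj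
open Cfsg.Agent.R2.H8.Mon
open Cfsg.Agent.R2.M7 Cfsg.Agent.R2.M7.Geo
open Cfsg.Spor (Co1)
open Cfsg.Agent.H848 Cfsg.Agent.H848.NormFour Cfsg.Agent.H848.ProdQuot
open Cfsg.Agent.MonsterU.AmalSide (four)

variable {G : Type*} [Group G] [Finite G] {Q : Subgroup G} {z : G} {eta : G → L2}
  {pi : centralizer ({z} : Set G) →* Co1} {y τ : G} {o : golayCode}

theorem four_hom (F : Fr Q z eta pi y τ) : ∃ f : NN z y →* M24 × Equiv.Perm (Fin 3), Function.Surjective f ∧
    Nat.card f.ker = 2 ^ 35 := by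
  have h := F.ch
  have hyQ := F.hyQ
  have hy := F.hy
  obtain ⟨β, hβ⟩ := exists_beta h hyQ hy
  have hk := ker_beta h hyQ hy β hβ
  have hB := BB_normal h hyQ hy
  have hw := exists_word h hyQ hy F.τz F.τy hB β hβ
  have hβs : Function.Surjective β := fun σ => ⟨(hw σ).choose, (hw σ).choose_spec.1⟩
  have hact : ∀ n : NN z y, ∃ b : M24, Acts (BB z y) hB (rho h hyQ hy) n b := by
    intro n
    obtain ⟨w, h1, h2⟩ := hw (β n)
    have h3 : n * w⁻¹ ∈ BB z y := by
      rw [← hk, MonoidHom.mem_ker, map_mul, map_inv, h1, mul_inv_cancel]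
    have h4 := (acts_self (hB := hB) (ρ := rho h hyQ hy) ⟨n * w⁻¹, h3⟩).mul h2
    have h5 : ((⟨n * w⁻¹, h3⟩ : BB z y) : NN z y) * w = n := by
      show n * w⁻¹ * w = n
      group
    rw [h5] at h4
    exact ⟨_, h4⟩
  obtain ⟨f, hf, hker, -, -⟩ := exists_hom (hB := hB) (rho_surj h hyQ hy) M24_center β hβs hk hact
  exact ⟨f, hf, by rw [hker]; exact card_OO h hyQ hy⟩

theorem ext2_of (ho : wt o = 8) (F : Fr Q z eta pi y τ) (hE : TE F.ch τ) (E : Ext (geo F.ch o)) :
    Ext2 (geo F.ch o) := by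
  have B := E.F.basic
  constructor
  · intro L hL h4
    obtain ⟨c, hc, x, hx, hc1, hx1, hxc⟩ := Adj.exists_two_elements (F₀ := L) (by omega)
    obtain ⟨k, rfl, rfl⟩ := Sing.pair_conj F (hL.1 c hc hc1) (hL.1 x hx hx1) (hL.2 c hc hc1 x hx) hxc
    have e : cj k (four z y) = L := by
      refine eq_of_le_of_card_ge ?_ (by rw [card_cj, h4, (klein F.ch F.hyQ F.hy).card_four])
      rw [map_le_iff_le_comap, four, closure_le]
      rintro _ (rfl | rfl)
      exacts [hc, hx]
    obtain ⟨f, hf, hk⟩ := four_hom F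
    have e2 : (NN z y).map (MulAut.conj k).toMonoidHom = normalizer (L : Set G) := by
      rw [← e]
      exact map_equiv_normalizer_eq (four z y) (MulAut.conj k)
    let φ : NN z y ≃* normalizer (L : Set G) :=
      ((NN z y).equivMapOfInjective _ (MulAut.conj k).injective).trans (MulEquiv.subgroupCongr e2)
    obtain ⟨h1, h2⟩ := over_m24 (f.comp φ.symm.toMonoidHom) (hf.comp φ.symm.surjective) (by
      rw [← hk, ← MonoidHom.comap_ker, ← map_equiv_eq_comap_symm']
      exact card_map_of_injective φ.injective)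
    refine ⟨h1, fun w hw hwL hs => h2 ⟨w, mem_normalizer_fintype hwL⟩ (Subtype.ext hw) ?_⟩
    refine Group.isSolvable_of_isSolvable_injective (G' := ↥(normalizer (L : Set G) ⊓ centralizer {w}))
      (f := ((normalizer (L : Set G)).subtype.comp (Subgroup.subtype _)).codRestrict _ fun g => ⟨g.1.2,
        mem_centralizer_singleton_iff.2 (congrArg Subtype.val (mem_centralizer_singleton_iff.1 g.2))⟩) ?_
    intro a b h
    have h3 := congrArg Subtype.val h
    exact Subtype.ext (Subtype.ext h3)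
  · intro F₀ hF h8
    rcases R2.H4.Mon.MainBTop.big ho F hE (fun _ S _ => Ex.exists_ark ho F S) hF.1 hF.2 h8 with ⟨g, hg⟩ | ⟨g, hg⟩
    · refine ⟨_, Or.inl ⟨sing_cj B ?_ g, ?_⟩, hg⟩
      · rw [Adj.T_inf F.ch (by decide)]
        have key := fun e he h1 => NormFive.conj_z_all F.ch F.hyQ F.hy F.τz hE (e := e) he h1
        constructor
        · intro e he h1
          obtain ⟨n, -, hn⟩ := key e he h1
          exact ⟨n, hn⟩
        · intro e he h1 a ha
          obtain ⟨n, hn, rfl⟩ := key e he h1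
          have h2 := conj_of_norm (inv_mem hn) ha
          have h3 : a = n * (n⁻¹ * a * n⁻¹⁻¹) * n⁻¹ := by group
          rw [h3, QQ_conj_iff, geo_QQ, F.QQ_z]
          exact h2.1
      · rw [card_cj, Adj.T_inf F.ch (by decide)]
        exact NormFive.card_E5 F.ch
    · exact ⟨_, Or.inr ⟨g, rfl⟩, hg⟩

theorem exists_ext2 : ∃ Γ : Geo MG, Ext Γ ∧ Ext2 Γ := by
  have : Finite MG := Nat.finite_of_card_ne_zero (by rw [card_MG]; norm_num)
  obtain ⟨eta, pi, y, τ, o, ho, F, hE, E⟩ := exists_frame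
  exact ⟨_, E, ext2_of ho F hE E⟩

end

end Cfsg.Agent.SB.SporB
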